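import Mathlib
import Cfsg.Agent.Lib.BG.Defs
import Cfsg.Agent.Lib.H81.TP1

/-! Definitions for S3400 (2-transitive groups whose two-point stabiliser is simple with abelian
Sylow 2-subgroups).  See `blueprint/TS/README.md`. -/

set_option autoImplicit false

namespace H45.TS

open Subgroup MulAction Cfsg H69 H45

universe u v

variable {G : Type u} [Group G]

/-- `H` simple, non-abelian, with elementary abelian self-centralising Sylow 2-subgroup `T` and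
`N_H(T)` transitive on `T#` -/
structure W0 (H T : Subgroup G) : Prop where
  simple : IsSimpleGroup H
  nab : ¬ IsMulCommutative H
  syl : IsSylowIn 2 T H
  sq : ∀ u ∈ T, u * u = 1
  cent : ∀ g ∈ H, g ∈ 𝐂(T) → g ∈ T
  tr : ∀ u ∈ T, u ≠ 1 → ∀ v ∈ T, v ≠ 1 → ∃ b ∈ H, b ∈ 𝐍(T) ∧ b * u * b⁻¹ = v
  four : 4 ≤ Nat.card T

/-- type `L₂(2^m)` -/
structure WA (H T : Subgroup G) : Prop where
  cen : ∀ u ∈ T, u ≠ 1 → ∀ g ∈ H, g * u = u * g → g ∈ T
  cyc : ∃ ρ ∈ H, ρ ∈ 𝐍(T) ∧ orderOf ρ + 1 = Nat.card T ∧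
    ∀ b ∈ H, b ∈ 𝐍(T) → ∃ k : ℕ, ∃ u ∈ T, b = ρ ^ k * u

/-- type `L₂(q)`, `q` odd, `q ≥ 11` -/
structure WB (H T : Subgroup G) : Prop where
  card : Nat.card T = 4
  iso : ∃ (F : Type) (_ : Field F) (_ : Fintype F), Odd (Fintype.card F) ∧ 11 ≤ Fintype.card F ∧
    Nonempty (H ≃* Matrix.ProjectiveSpecialLinearGroup (Fin 2) F)

/-- `C_H(t) = ⟨t⟩ × K` with `K ≅ L₂(5)` or `L₂(3^(2m+1))` -/
structure CK (H : Subgroup G) (t : G) (K : Subgroup G) : Prop where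
  le : K ≤ H
  comm : ∀ g ∈ K, g * t = t * g
  nmem : t ∉ K
  dec : ∀ g ∈ H, g * t = t * g → g ∈ K ∨ t * g ∈ K
  iso : ∃ (F : Type) (_ : Field F) (_ : Fintype F),
    (Fintype.card F = 5 ∨ ∃ m : ℕ, 1 ≤ m ∧ Fintype.card F = 3 ^ (2 * m + 1)) ∧
    Nonempty (K ≃* Matrix.ProjectiveSpecialLinearGroup (Fin 2) F)

/-- Janko-Ree type -/
structure WC (H T : Subgroup G) : Prop where
  card : Nat.card T = 8
  ck : ∀ t ∈ T, t ≠ 1 → ∃ K, CK H t K

/-- `C_H(v)` is dihedral with cyclic part `R` -/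
structure Tr (H : Subgroup G) (v : G) (R : Subgroup G) : Prop where
  le : R ≤ H
  comm : ∀ r ∈ R, r * v = v * r
  cyc : IsCyclic R
  idx : Nat.card (H ⊓ 𝐂[v] : Subgroup G) = 2 * Nat.card R
  inv : ∀ s ∈ H, s * v = v * s → s ∉ R → s * s = 1 ∧ ∀ r ∈ R, s * r * s⁻¹ = r⁻¹

/-- data of type `L₂(q)`, `q` odd: `T = {1, t, v, t v}`, `C_H(t)` dihedral of order `4 k` -/
structure TB (H T : Subgroup G) (t v : G) (R : Subgroup G) (k : ℕ) : Prop where
  ht : t ∈ T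
  hv : v ∈ T
  t1 : t ≠ 1
  v1 : v ≠ 1
  tv : t ≠ v
  mem : ∀ u ∈ T, u = 1 ∨ u = t ∨ u = v ∨ u = t * v
  card : Nat.card T = 4
  tor : Tr H t R
  tR : t ∈ R
  vR : v ∉ R
  cardR : Nat.card R = 2 * k
  odd : Odd k
  three : 3 ≤ k
  cardB : Nat.card (H ⊓ 𝐍(T) : Subgroup G) = 12
  max : ∀ M : Subgroup G, H ⊓ 𝐂[t] ≤ M → H ⊓ 𝐍(T) ≤ M → H ≤ M

/-- the same with an outer involution `s` (`H⟨s⟩ = PGL₂(q)`) -/
structure PB (H T : Subgroup G) (s t v : G) (R Y : Subgroup G) (k : ℕ) : Prop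
    extends TB H T t v R k where
  st : s * t = t * s
  sv : s * v * s⁻¹ = t * v
  torY : Tr H s Y
  oddY : Odd (Nat.card Y)
  five : 5 ≤ Nat.card Y
  cop : (Nat.card Y).Coprime (Nat.card R)

variable {Ω : Type v} [MulAction G Ω]

/-- two-point stabiliser -/
abbrev H2 (G : Type u) [Group G] {Ω : Type v} [MulAction G Ω] (α β : Ω) : Subgroup G :=
  stabilizer G α ⊓ stabilizer G β

/-- fixed points of an element -/
def Fx (Ω : Type v) [MulAction G Ω] (g : G) : Set Ω := {x | g • x = x}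

/-- fixed points of a subgroup -/
def FS (Ω : Type v) [MulAction G Ω] (U : Subgroup G) : Set Ω := {x | ∀ u ∈ U, u • x = x}

/-- the basic configuration -/
structure Cf (α β : Ω) (T : Subgroup G) : Prop where
  ne : α ≠ β
  two : ∀ a b : Ω, a ≠ b → ∃ g : G, g • α = a ∧ g • β = b
  faith : ∀ g : G, (∀ x : Ω, g • x = x) → g = 1
  w : W0 (H2 G α β) T

/-- inner case: an involution interchanging `α`, `β` centralises the two-point stabiliser -/
structure In (α β : Ω) (z : G) : Prop where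
  sq : z * z = 1
  sw : z • α = β
  cen : ∀ g : G, g • α = α → g • β = β → z * g = g * z

/-- outer case -/
structure Out (α β : Ω) (T : Subgroup G) (s : G) : Prop where
  sq : s * s = 1
  sw : s • α = β
  nrm : s ∈ 𝐍(T)
  no : ∀ x : G, x • α = β → x • β = α → x ∉ 𝐂(T)

/-- inner case with `z` not conjugate to `t` -/
structure J1 (α β : Ω) (T : Subgroup G) (t z : G) : Prop extends Cf α β T where
  inn : In α β z
  ht : t ∈ T
  t1 : t ≠ 1
  nc : ¬ IsConj t z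

/-- fusion in `T` is controlled by the two-point stabiliser -/
def FC (α β : Ω) (T : Subgroup G) : Prop :=
  ∀ g ∈ 𝐍(T), g • α = α → ∃ b ∈ H2 G α β, b ∈ 𝐍(T) ∧ ∀ u ∈ T, g * u * g⁻¹ = b * u * b⁻¹

/-- the Sylow 2-subgroups of `M` containing `U` -/
def SylO (M U : Subgroup G) : Set (Subgroup G) := {S | IsSylowIn 2 S M ∧ U ≤ S}

/-- inner case with one class of involutions -/
structure I3 (α β : Ω) (T : Subgroup G) (t z : G) (L K : Subgroup G) : Prop extends Cf α β T where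
  inn : In α β z
  ht : t ∈ T
  t1 : t ≠ 1
  nrm : L.Normal
  inv : ∀ u : G, u * u = 1 → u ∈ L
  le : H2 G α β ≤ L
  ck : CK L t K
  cj : ∀ u ∈ K, u * u = 1 → u ≠ 1 → ∀ u' ∈ K, u' * u' = 1 → u' ≠ 1 → ∃ g ∈ K, g * u * g⁻¹ = u'

/-- outer case, type `L₂(q₁²)`, `q₁` even -/
structure OA (α β : Ω) (T : Subgroup G) (s t κ : G) (q : ℕ) : Prop extends Cf α β T where
  wa : WA (H2 G α β) T
  out : Out α β T s
  ht : t ∈ T
  t1 : t ≠ 1
  st : s * t = t * s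
  pow : ∃ a : ℕ, 2 ≤ a ∧ q = 2 ^ a
  card1 : Nat.card (T ⊓ 𝐂[s] : Subgroup G) = q
  cardT : Nat.card T = q ^ 2
  cj : ∀ u ∈ T, s * u = u * s → ∃ w ∈ T, w * s * w⁻¹ = s * u
  κH : κ ∈ H2 G α β
  κN : κ ∈ 𝐍(T)
  κo : orderOf κ = q + 1
  κs : s * κ * s⁻¹ * κ ∈ T
  κu : ∀ b ∈ H2 G α β, b ∈ 𝐍(T) → b ^ (q + 1) ∈ T → ∃ k : ℕ, ∃ u ∈ T, b = κ ^ k * u

/-- outer case, type `L₂(q)`, `q` odd -/
structure OB (α β : Ω) (T : Subgroup G) (s t v : G) (R Y : Subgroup G) (k : ℕ) : Prop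
    extends Cf α β T where
  out : Out α β T s
  pb : PB (H2 G α β) T s t v R Y k

end H45.TS
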