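import Mathlib
import Cfsg.Agent.Lib.TS.Defs

/-! Basic lemmas without the configuration.  See `blueprint/TS/README.md`. -/

set_option autoImplicit false
set_option linter.unusedSectionVars false

namespace H45.TS

open Subgroup MulAction Cfsg H69 H45 H81
open H81.TP (T2)

universe u v

variable {G : Type u} [Group G] [Finite G] {Ω : Type v} [MulAction G Ω] [Finite Ω]
  {α β : Ω} {H T : Subgroup G}

local instance factBA : Fact (Nat.Prime 2) := ⟨Nat.prime_two⟩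

theorem mem_Fx {g : G} {x : Ω} : x ∈ Fx Ω g ↔ g • x = x := Iff.rfl

theorem mem_FS {U : Subgroup G} {x : Ω} : x ∈ FS Ω U ↔ ∀ u ∈ U, u • x = x := Iff.rfl

theorem mem_H2 {g : G} : g ∈ H2 G α β ↔ g • α = α ∧ g • β = β := Iff.rfl

theorem Fx_smul {g t : G} (hg : g * t = t * g) {x : Ω} (hx : x ∈ Fx Ω t) : g • x ∈ Fx Ω t := by
  rw [mem_Fx] at hx ⊢
  rw [← mul_smul, ← hg, mul_smul, hx]

theorem FS_smul {U : Subgroup G} {g : G} (hg : g ∈ 𝐍(U)) {x : Ω} (hx : x ∈ FS Ω U) :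
    g • x ∈ FS Ω U := by
  intro u hu
  have h1 : g⁻¹ * u * g ∈ U := by
    have := (mem_normalizer_iff.1 (inv_mem hg) u).1 hu
    simpa using this
  have h2 := hx _ h1
  rw [mul_smul, mul_smul, inv_smul_eq_iff] at h2
  exact h2

theorem FS_anti {U V : Subgroup G} (h : U ≤ V) : FS Ω V ⊆ FS Ω U := by
  exact fun x hx u hu => hx u (h hu)

theorem FS_sub_Fx {U : Subgroup G} {u : G} (h : u ∈ U) : FS Ω U ⊆ Fx Ω u := by
  exact fun x hx => hx u h

theorem smul_mem_FS_cj {U : Subgroup G} {g : G} {x : Ω} : g • x ∈ FS Ω (U ^ᶜ g) ↔ x ∈ FS Ω U := by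
  refine ⟨fun hx u hu => ?_, fun hx u hu => ?_⟩
  · have := hx _ (cj_mem g hu)
    rwa [mul_smul, mul_smul, inv_smul_smul, smul_left_cancel_iff] at this
  · obtain ⟨a, ha, rfl⟩ := mem_cj'.1 hu
    rw [mul_smul, mul_smul, inv_smul_smul, hx a ha]

theorem smul_mem_Fx_conj {t g : G} {x : Ω} : g • x ∈ Fx Ω (g * t * g⁻¹) ↔ x ∈ Fx Ω t := by
  rw [mem_Fx, mem_Fx, mul_smul, mul_smul, inv_smul_smul, smul_left_cancel_iff]

theorem ncard_smul (g : G) {A B : Set Ω} (h : ∀ x, g • x ∈ A ↔ x ∈ B) : A.ncard = B.ncard := by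
  rw [← Set.ncard_image_of_injective B (MulAction.injective g)]
  congr 1
  ext x
  refine ⟨fun hx => ⟨g⁻¹ • x, (h _).1 (by rwa [smul_inv_smul]), smul_inv_smul _ _⟩, ?_⟩
  rintro ⟨y, hy, rfl⟩
  exact (h y).2 hy

theorem ncard_FS_cj (U : Subgroup G) (g : G) : (FS Ω (U ^ᶜ g)).ncard = (FS Ω U).ncard := by
  exact ncard_smul g fun _ => smul_mem_FS_cj

theorem ncard_Fx_conj (t g : G) : (Fx Ω (g * t * g⁻¹)).ncard = (Fx Ω t).ncard := by
  exact ncard_smul g fun _ => smul_mem_Fx_conj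

/-- common fixed points of two elements, transported by conjugation -/
theorem ncard_two_conj (t u g : G) :
    {x | x ∈ Fx Ω (g * t * g⁻¹) ∧ (g * u * g⁻¹) • x = x}.ncard =
      {x | x ∈ Fx Ω t ∧ u • x = x}.ncard := by
  refine ncard_smul g fun x => ?_
  exact and_congr smul_mem_Fx_conj (smul_mem_Fx_conj (t := u))

theorem FS_sup_zp (U : Subgroup G) (v : G) :
    FS Ω (U ⊔ zpowers v) = {x | x ∈ FS Ω U ∧ v • x = x} := by
  ext x
  refine ⟨fun hx => ⟨FS_anti le_sup_left hx, hx v (mem_sup_right (mem_zpowers v))⟩, fun hx => ?_⟩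
  have : U ⊔ zpowers v ≤ stabilizer G x := sup_le (fun u hu => hx.1 u hu) (zpowers_le.2 hx.2)
  exact fun u hu => this hu

theorem FS_zp (v : G) : FS Ω (zpowers v) = Fx Ω v := by
  ext x
  refine ⟨fun hx => hx v (mem_zpowers v), fun hx => ?_⟩
  have : zpowers v ≤ stabilizer G x := zpowers_le.2 hx
  exact fun u hu => this hu

theorem FS_bot : FS Ω (⊥ : Subgroup G) = Set.univ := by
  ext x
  exact ⟨fun _ => trivial, fun _ u hu => by rw [mem_bot.1 hu, one_smul]⟩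

theorem H2_cj (g : G) : H2 G α β ^ᶜ g = H2 G (g • α) (g • β) := by
  ext x
  rw [mem_cj, mem_H2, mem_H2]
  simp only [mul_smul, inv_smul_eq_iff]

theorem par_FS {U : Subgroup G} (hU : IsPGroup 2 U) : Nat.card Ω ≡ (FS Ω U).ncard [MOD 2] := by
  have := TP.ncard_modEq hU (Set.toFinite (Set.univ : Set Ω)) fun _ _ _ _ => trivial
  rw [Set.ncard_univ] at this
  convert this using 2
  ext x
  exact ⟨fun h => ⟨trivial, h⟩, fun h => h.2⟩

theorem par_Fx {t : G} (ht : t * t = 1) : Nat.card Ω ≡ (Fx Ω t).ncard [MOD 2] := by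
  have := TP.ncard_modEq_elt (p := 2) (g := t) (by rw [pow_two, ht])
    (Set.toFinite (Set.univ : Set Ω)) fun _ _ => trivial
  rw [Set.ncard_univ] at this
  convert this using 2
  ext x
  exact ⟨fun h => ⟨trivial, h⟩, fun h => h.2⟩

/-- an element acting as an involution on an invariant set -/
theorem par_on {F : Set Ω} {r : G} (hF : ∀ x ∈ F, r • x ∈ F) (h2 : ∀ x ∈ F, r • r • x = x) :
    F.ncard ≡ {x | x ∈ F ∧ r • x = x}.ncard [MOD 2] := by
  classical
  let f : Function.End F := fun x => ⟨r • x.1, hF _ x.2⟩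
  have hf : Function.Involutive f := fun x => Subtype.ext (h2 _ x.2)
  have := Fintype.ofFinite F
  have h1 := Equiv.Perm.card_fixedPoints_modEq (f := f) (p := 2) (n := 1)
    (by rw [pow_one, pow_two]; exact funext hf)
  rw [← Nat.card_eq_fintype_card, ← Nat.card_eq_fintype_card, Nat.card_coe_set_eq] at h1
  convert h1 using 1
  rw [Nat.card_coe_set_eq, ← Set.ncard_image_of_injective _ Subtype.val_injective]
  congr 1
  ext x
  refine ⟨fun hx => ⟨⟨x, hx.1⟩, Subtype.ext hx.2, rfl⟩, ?_⟩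
  rintro ⟨y, hy, rfl⟩
  exact ⟨y.2, congrArg Subtype.val hy⟩

/-- an element interchanging two points is conjugate to one interchanging `α`, `β` -/
theorem T2_swap {M : Subgroup G} {F : Set Ω} (h : T2 M F α β) {x : G} {a : Ω} (ha : a ∈ F)
    (ha' : x • a ∈ F) (h1 : x • a ≠ a) (h2 : x • x • a = a) :
    ∃ g ∈ M, g • α = a ∧ g • β = x • a ∧ (g⁻¹ * x * g) • α = β ∧ (g⁻¹ * x * g) • β = α := by
  obtain ⟨g, hg, e1, e2⟩ := h.tr a ha _ ha' h1.symm
  refine ⟨g, hg, e1, e2, ?_, ?_⟩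
  · rw [mul_smul, mul_smul, e1, inv_smul_eq_iff, e2]
  · rw [mul_smul, mul_smul, e2, h2, inv_smul_eq_iff, e1]

/-- a normal subgroup acting non-trivially is transitive -/
theorem T2_ntr {M N : Subgroup G} {F : Set Ω} (h : T2 M F α β) (hN : N ≤ M) (hn : M ≤ 𝐍(N))
    {n : G} (hnN : n ∈ N) {c : Ω} (hc : c ∈ F) (h1 : n • c ≠ c) {a b : Ω} (ha : a ∈ F) (hb : b ∈ F) :
    ∃ g ∈ N, g • a = b := by
  by_cases hab : a = b
  · exact ⟨1, one_mem _, by rw [one_smul, hab]⟩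
  obtain ⟨g, hg, e1, e2⟩ := h.tr c hc _ (h.inv n (hN hnN) c hc) h1.symm
  obtain ⟨g', hg', e3, e4⟩ := h.tr a ha b hb hab
  refine ⟨g' * g⁻¹ * n * (g' * g⁻¹)⁻¹,
    (mem_normalizer_iff.1 (hn (mul_mem hg' (inv_mem hg))) n).1 hnN, ?_⟩
  rw [← e3, ← e4, mul_inv_rev, inv_inv]
  simp only [mul_smul, inv_smul_smul]
  rw [e1, ← e2, inv_smul_smul]

/-- orbit-stabiliser for a subgroup transitive on a set -/
theorem card_of_tr {N : Subgroup G} {F : Set Ω} (hF : ∀ g ∈ N, ∀ x ∈ F, g • x ∈ F) {a : Ω}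
    (ha : a ∈ F) (h : ∀ b ∈ F, ∃ g ∈ N, g • a = b) :
    Nat.card N = F.ncard * Nat.card (N ⊓ stabilizer G a : Subgroup G) := by
  have h1 : orbit N a = F := by
    ext b
    refine ⟨?_, fun hb => ?_⟩
    · rintro ⟨g, rfl⟩
      exact hF g g.2 a ha
    · obtain ⟨g, hg, e⟩ := h b hb
      exact ⟨⟨g, hg⟩, e⟩
  have h2 := (stabilizer N a).card_mul_index
  rw [index_stabilizer, h1] at h2
  rw [← h2, mul_comm]
  congr 1
  have : stabilizer N a = (N ⊓ stabilizer G a).subgroupOf N := by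
    ext x
    simp [mem_subgroupOf, Subgroup.smul_def]
  rw [this]
  exact Nat.card_congr (subgroupOfEquivOfLe inf_le_left).toEquiv

/-- a 2-subgroup that is not Sylow is properly contained in a 2-group with index 2 -/
theorem exists_sq_mem {Q X : Subgroup G} (hQ : IsPGroup 2 Q) (hle : Q ≤ X) (hn : X ≤ 𝐍(Q))
    (h : 2 * Nat.card Q ∣ Nat.card X) : ∃ x ∈ X, x ∉ Q ∧ x * x ∈ Q := by
  obtain ⟨P, hP, hQP⟩ := exists_isSylowIn_le hQ hle
  have hne : ¬ P ≤ Q := fun e => by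
    have e' : Q = P := le_antisymm hQP e
    apply hP.not_dvd_relIndex
    rw [← e']
    have h1 : Nat.card Q * Q.relIndex X = Nat.card X := by
      rw [relIndex, ← (Q.subgroupOf X).card_mul_index,
        Nat.card_congr (subgroupOfEquivOfLe hle).toEquiv]
    rw [← h1, mul_comm 2] at h
    exact (Nat.mul_dvd_mul_iff_left Nat.card_pos).1 h
  obtain ⟨y, hy, hyQ⟩ := SetLike.not_le_iff_exists.1 hne
  obtain ⟨k, hk⟩ := hP.isP ⟨y, hy⟩
  have hk' : y ^ 2 ^ k ∈ Q := by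
    have : y ^ 2 ^ k = 1 := congrArg Subtype.val hk
    rw [this]; exact one_mem _
  clear hk
  induction k generalizing y with
  | zero => exact absurd (by simpa using hk') hyQ
  | succ k ih =>
    by_cases h2 : y * y ∈ Q
    · exact ⟨y, hP.le hy, hyQ, h2⟩
    · exact ih (y * y) (mul_mem hy hy) h2 (by rwa [← pow_two, ← pow_mul, ← pow_succ'])

namespace W0

variable (h : W0 H T)
include h

theorem le : T ≤ H := h.syl.le

theorem two : IsPGroup 2 T := by
  exact h.syl.isP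

theorem comm {a b : G} (ha : a ∈ T) (hb : b ∈ T) : a * b = b * a := by
  have h1 := h.sq _ (mul_mem ha hb)
  have h2 := h.sq a ha
  have h3 := h.sq b hb
  calc a * b = a * (a * b * (a * b)) * b := by rw [h1, mul_one]
    _ = (a * a) * (b * a) * (b * b) := by group
    _ = b * a := by rw [h2, h3, one_mul, mul_one]

theorem le_cent : T ≤ 𝐂(T) := by
  exact fun a ha b hb => h.comm hb ha

theorem exists_ne : ∃ t ∈ T, t ≠ 1 := by
  by_contra hc
  push Not at hc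
  have : T = ⊥ := (eq_bot_iff_forall _).2 hc
  have h4 := h.four
  rw [this, card_bot] at h4
  omega

theorem exists_ne' (t : G) : ∃ v ∈ T, v ≠ 1 ∧ v ≠ t := by
  by_contra hc
  push Not at hc
  have h1 : (T : Set G) ⊆ {1, t} := fun v hv => by
    by_cases e : v = 1
    · exact Or.inl e
    · exact Or.inr (hc v hv e)
  have h2 := Set.ncard_le_ncard h1
  have h3 := (Set.ncard_insert_le (1 : G) {t}).trans_eq (by rw [Set.ncard_singleton])
  have h4 := h.four
  rw [← SetLike.coe_sort_coe, Nat.card_coe_set_eq] at h4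
  omega

theorem normal {K : Subgroup G} (hK : K ≤ H) (hn : H ≤ 𝐍(K)) : K = ⊥ ∨ K = H := by
  have := h.simple
  have hN : (K.subgroupOf H).Normal := (normal_subgroupOf_iff_le_normalizer hK).2 hn
  rcases hN.eq_bot_or_eq_top with e | e
  · left
    rwa [subgroupOf_eq_bot, disjoint_iff, inf_eq_left.2 hK] at e
  · exact Or.inr (le_antisymm hK (subgroupOf_eq_top.1 e))

theorem zero {g : G} (hg : g ∈ H) (hc : ∀ x ∈ H, g * x = x * g) : g = 1 := by
  rcases h.normal (K := H ⊓ 𝐂(H)) inf_le_left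
    (le_normalizer_inf le_normalizer (le_normalizer_centralizer le_normalizer)) with e | e
  · exact mem_bot.1 (e ▸ ⟨hg, fun x hx => (hc x hx).symm⟩)
  · exact absurd ⟨⟨fun a b => Subtype.ext ((e.ge b.2).2 a a.2)⟩⟩ h.nab

theorem inv_conj {u t : G} (hu : u ∈ H) (u2 : u * u = 1) (u1 : u ≠ 1) (ht : t ∈ T) (t1 : t ≠ 1) :
    ∃ g ∈ H, g * u * g⁻¹ = t := by
  obtain ⟨g, hg, e⟩ := h.syl.exists_cj_le (TP.isPGroup_zpowers (p := 2) (g := u) (by rw [pow_two, u2]))
    (zpowers_le.2 hu)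
  have h1 : g * u * g⁻¹ ∈ T := e (cj_mem g (mem_zpowers u))
  obtain ⟨b, hb, -, e'⟩ := h.tr _ h1 (by simpa using u1) t ht t1
  exact ⟨b * g, mul_mem hb hg, by rw [← e']; group⟩

theorem sq_of_pow {g : G} (hg : g ∈ H) {k : ℕ} (hk : g ^ 2 ^ k = 1) : g * g = 1 := by
  have hp : IsPGroup 2 (zpowers g) := IsPGroup.of_card (n := (orderOf g).factorization 2) (by
    rw [Nat.card_zpowers]
    obtain ⟨j, -, hj⟩ := (Nat.dvd_prime_pow Nat.prime_two).1 (orderOf_dvd_of_pow_eq_one hk)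
    rw [hj, Nat.Prime.factorization_pow Nat.prime_two]; simp)
  obtain ⟨x, -, e⟩ := h.syl.exists_cj_le hp (zpowers_le.2 hg)
  have h1 := h.sq _ (e (cj_mem x (mem_zpowers g)))
  rw [conj_mul] at h1
  simpa using h1

theorem odd_pow {b : G} (hb : b ∈ H) (hn : b ∈ 𝐍(T)) : ∃ m, Odd m ∧ b ^ m ∈ T := by
  obtain ⟨k, m, hm, e⟩ := Nat.exists_eq_two_pow_mul_odd (orderOf_pos b).ne'
  refine ⟨m, hm, ?_⟩
  have hp : IsPGroup 2 (zpowers (b ^ m)) := by
    rintro ⟨x, j, rfl⟩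
    refine ⟨k, Subtype.ext ?_⟩
    change ((b ^ m) ^ j) ^ 2 ^ k = 1
    rw [← zpow_natCast, ← zpow_mul, mul_comm, zpow_mul, zpow_natCast, ← pow_mul, mul_comm m, ← e,
      pow_orderOf_eq_one, one_zpow]
  exact h.syl.le_of_le_normalizer' hp (zpowers_le.2 (pow_mem hb m)) (zpowers_le.2 (pow_mem hn m))
    (mem_zpowers _)

theorem mem_of_sq {b : G} (hb : b ∈ H) (hn : b ∈ 𝐍(T)) (h2 : b * b ∈ T) : b ∈ T := by
  obtain ⟨m, ⟨j, rfl⟩, hm⟩ := h.odd_pow hb hn
  rw [pow_succ, pow_mul, pow_two] at hm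
  exact (mul_mem_cancel_left (pow_mem h2 j)).1 hm

/-- two involutions of `H` that do not commute -/
theorem exists_not_comm : ∃ a ∈ H, ∃ b ∈ H, a * a = 1 ∧ b * b = 1 ∧ a * b ≠ b * a := by
  by_contra hc
  push Not at hc
  obtain ⟨t, ht, t1⟩ := h.exists_ne
  let A : Subgroup G :=
    { carrier := {a | a ∈ H ∧ a * a = 1}
      one_mem' := ⟨one_mem _, one_mul _⟩
      mul_mem' := fun {a b} ha hb => ⟨mul_mem ha.1 hb.1, by
        calc a * b * (a * b) = a * (b * a) * b := by group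
          _ = (a * a) * (b * b) := by rw [← hc a ha.1 b hb.1 ha.2 hb.2]; group
          _ = 1 := by rw [ha.2, hb.2, one_mul]⟩
      inv_mem' := fun {a} ha => ⟨inv_mem ha.1, by rw [← mul_inv_rev, ha.2, inv_one]⟩ }
  rcases h.normal (K := A) (fun _ ha => ha.1) (le_normalizer_of_cj_le fun g hg x hx => by
      obtain ⟨a, ha, rfl⟩ := mem_cj'.1 hx
      exact ⟨mul_mem (mul_mem hg ha.1) (inv_mem hg), by rw [conj_mul, ha.2]; simp⟩) with e | e
  · exact t1 (mem_bot.1 (e ▸ (⟨h.le ht, h.sq t ht⟩ : t ∈ A)))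
  · exact h.nab ⟨⟨fun a b => Subtype.ext (hc a a.2 b b.2 (e.ge a.2).2 (e.ge b.2).2)⟩⟩

/-- a normal subgroup of the ambient group containing an involution of `H` contains `H` -/
theorem le_of_mem {L : Subgroup G} (hn : H ≤ 𝐍(L)) {u : G} (hu : u ∈ H) (u1 : u ≠ 1) (huL : u ∈ L) :
    H ≤ L := by
  rcases h.normal (K := H ⊓ L) inf_le_left (le_normalizer_inf le_normalizer hn) with e | e
  · exact absurd (mem_bot.1 (e ▸ ⟨hu, huL⟩)) u1
  · exact e.ge.trans inf_le_right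

theorem cj (g : G) : W0 (H ^ᶜ g) (T ^ᶜ g) := by
  have e : H ≃* (H ^ᶜ g : Subgroup G) := (MulAut.conj g).subgroupMap H
  have := h.simple
  refine ⟨e.symm.isSimpleGroup, fun hc => h.nab ⟨⟨fun a b => e.injective ?_⟩⟩, h.syl.cj g,
    fun u hu => ?_, fun x hx hc => ?_, fun u hu u1 v hv v1 => ?_, (card_cj T g).symm ▸ h.four⟩
  · rw [map_mul, map_mul]; exact hc.1.1 _ _
  · obtain ⟨a, ha, rfl⟩ := mem_cj'.1 hu
    rw [conj_mul, h.sq a ha]; simp
  · rw [← cj_centralizer] at hc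
    exact mem_cj.2 (h.cent _ (mem_cj.1 hx) (mem_cj.1 hc))
  · obtain ⟨a, ha, rfl⟩ := mem_cj'.1 hu
    obtain ⟨c, hc, rfl⟩ := mem_cj'.1 hv
    obtain ⟨b, hb, hn, e'⟩ := h.tr a ha (by simpa using u1) c hc (by simpa using v1)
    refine ⟨g * b * g⁻¹, cj_mem g hb, cj_normalizer T g ▸ cj_mem g hn, ?_⟩
    rw [← e']; group

end W0

theorem WA.cj (h : WA H T) (g : G) : WA (H ^ᶜ g) (T ^ᶜ g) := by
  refine ⟨fun u hu u1 x hx e => ?_, ?_⟩
  · obtain ⟨a, ha, rfl⟩ := mem_cj'.1 hu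
    obtain ⟨b, hb, rfl⟩ := mem_cj'.1 hx
    refine cj_mem g (h.cen a ha (by simpa using u1) b hb ?_)
    rw [conj_mul, conj_mul] at e
    simpa using e
  · obtain ⟨ρ, h1, h2, h3, h4⟩ := h.cyc
    refine ⟨g * ρ * g⁻¹, cj_mem g h1, cj_normalizer T g ▸ cj_mem g h2, ?_, fun b hb hn => ?_⟩
    · rw [card_cj, ← h3]
      congr 1
      exact ((MulAut.conj g).orderOf_eq ρ)
    · rw [← cj_normalizer] at hn
      obtain ⟨k, u, hu, e⟩ := h4 _ (mem_cj.1 hb) (mem_cj.1 hn)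
      refine ⟨k, g * u * g⁻¹, cj_mem g hu, ?_⟩
      rw [conj_pow, conj_mul, ← e]; group

end H45.TS
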