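import Mathlib
import Cfsg.Agent.Lib.TS.BA

/-! Basic lemmas on the configuration.  See `blueprint/TS/README.md`. -/

set_option autoImplicit false
set_option linter.unusedSectionVars false

namespace H45.TS

open Subgroup MulAction Cfsg H69 H45 H81
open H81.TP (T2)

universe u v

variable {G : Type u} [Group G] [Finite G] {Ω : Type v} [MulAction G Ω] [Finite Ω]
  {α β : Ω} {H T : Subgroup G}

local instance factBB : Fact (Nat.Prime 2) := ⟨Nat.prime_two⟩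

namespace BB

open scoped Pointwise

theorem smul_of_sq {u : G} (h : u * u = 1) {a b : Ω} (e : u • a = b) : u • b = a := by
  rw [← e, ← mul_smul, h, one_smul]

theorem cj_smul {g u : G} {a b : Ω} (e : u • g • a = g • b) : (g⁻¹ * u * g⁻¹⁻¹) • a = b := by
  rw [inv_inv, mul_smul, mul_smul, e, inv_smul_smul]

theorem mem_star {g : G} : g ∈ stabilizer G ({α, β} : Set Ω) ↔
    (g • α = α ∧ g • β = β) ∨ (g • α = β ∧ g • β = α) := by
  rw [mem_stabilizer_iff, Set.smul_set_insert, Set.smul_set_singleton, Set.pair_eq_pair_iff]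

theorem norm_H {s : G} (sa : s • α = β) (sb : s • β = α) : s ∈ 𝐍(H2 G α β) := by
  rw [← cj_eq_self_iff, H2_cj, sa, sb]
  exact inf_comm _ _

end BB

open scoped Pointwise

namespace Cf

variable (h : Cf α β T)
include h

theorem top : T2 (⊤ : Subgroup G) (Set.univ : Set Ω) α β := by
  exact ⟨h.ne, trivial, trivial, fun _ _ _ _ => trivial, fun a _ b _ hab =>
    (h.two a b hab).imp fun _ e => ⟨trivial, e⟩⟩

theorem two' : IsMultiplyPretransitive G Ω 2 := by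
  rw [is_two_pretransitive_iff]
  intro a b c d hab hcd
  obtain ⟨g, rfl, rfl⟩ := h.two a b hab
  obtain ⟨k, rfl, rfl⟩ := h.two c d hcd
  exact ⟨k * g⁻¹, by rw [mul_smul, inv_smul_smul], by rw [mul_smul, inv_smul_smul]⟩

theorem faithful : FaithfulSMul G Ω := by
  refine ⟨fun {a b} e => ?_⟩
  have := h.faith (b⁻¹ * a) fun x => by rw [mul_smul, e, inv_smul_smul]
  exact (inv_mul_eq_one.1 this).symm

theorem cj (g : G) : Cf (g • α) (g • β) (T ^ᶜ g) := by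
  refine ⟨fun e => h.ne (smul_left_cancel g e), fun a b hab => ?_, h.faith,
    H2_cj (α := α) (β := β) g ▸ h.w.cj g⟩
  obtain ⟨k, rfl, rfl⟩ := h.two a b hab
  exact ⟨k * g⁻¹, by rw [mul_smul, inv_smul_smul], by rw [mul_smul, inv_smul_smul]⟩

theorem fixa {u : G} (hu : u ∈ T) : u • α = α := (h.w.le hu).1

theorem fixb {u : G} (hu : u ∈ T) : u • β = β := (h.w.le hu).2

theorem ma : α ∈ FS Ω T := fun _ hu => h.fixa hu

theorem mb : β ∈ FS Ω T := fun _ hu => h.fixb hu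

theorem moves {u : G} (u1 : u ≠ 1) : ∃ a : Ω, u • a ≠ a := by
  by_contra e
  push Not at e
  exact u1 (h.faith u e)

theorem card_H2 {a b : Ω} (hab : a ≠ b) : Nat.card (H2 G a b) = Nat.card (H2 G α β) := by
  obtain ⟨g, rfl, rfl⟩ := h.two a b hab
  rw [← H2_cj, card_cj]

theorem conj_of_fix {t u : G} (ht : t ∈ T) (t1 : t ≠ 1) (u2 : u * u = 1) (u1 : u ≠ 1) {a b : Ω}
    (hab : a ≠ b) (ha : u • a = a) (hb : u • b = b) : IsConj t u := by
  obtain ⟨g, rfl, rfl⟩ := h.two a b hab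
  obtain ⟨k, -, e⟩ := h.w.inv_conj (u := g⁻¹ * u * g⁻¹⁻¹) ⟨BB.cj_smul ha, BB.cj_smul hb⟩
    (by rw [conj_mul, u2]; simp) (mt conj_eq_one_iff.1 u1) ht t1
  exact ((isConj_iff.2 ⟨g⁻¹, rfl⟩).trans (isConj_iff.2 ⟨k, e⟩)).symm

theorem sq_of_fix {g : G} {k : ℕ} (hk : g ^ 2 ^ k = 1) {a b : Ω} (hab : a ≠ b) (ha : g • a = a)
    (hb : g • b = b) : g * g = 1 := by
  obtain ⟨x, rfl, rfl⟩ := h.two a b hab
  have := h.w.sq_of_pow (g := x⁻¹ * g * x⁻¹⁻¹) ⟨BB.cj_smul ha, BB.cj_smul hb⟩ (k := k)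
    (by rw [conj_pow, hk]; simp)
  rwa [conj_mul, conj_eq_one_iff] at this

/-- a 2-group fixing two points is conjugate into `T` -/
theorem exists_cj_le {U : Subgroup G} (hU : IsPGroup 2 U) {a b : Ω} (hab : a ≠ b) (ha : a ∈ FS Ω U)
    (hb : b ∈ FS Ω U) : ∃ g : G, g • a = α ∧ g • b = β ∧ U ^ᶜ g ≤ T := by
  obtain ⟨g, rfl, rfl⟩ := h.two a b hab
  obtain ⟨k, hk, e⟩ := h.w.syl.exists_cj_le (isPGroup_cj hU g⁻¹) fun x hx => by
    obtain ⟨u, hu, rfl⟩ := mem_cj'.1 hx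
    exact ⟨BB.cj_smul (ha u hu), BB.cj_smul (hb u hu)⟩
  exact ⟨k * g⁻¹, by rw [mul_smul, inv_smul_smul]; exact hk.1,
    by rw [mul_smul, inv_smul_smul]; exact hk.2, by rwa [cj_cj] at e⟩

theorem wittC {t : G} (ht : t ∈ T) (t1 : t ≠ 1) : T2 𝐂[t] (Fx Ω t) α β := by
  refine ⟨h.ne, h.fixa ht, h.fixb ht, fun g hg x hx =>
    Fx_smul (mem_centralizer_singleton_iff.1 hg) hx, fun a ha b hb hab => ?_⟩
  obtain ⟨g, rfl, rfl⟩ := h.two a b hab
  obtain ⟨k, hk, e⟩ := h.w.inv_conj (u := g⁻¹ * t * g⁻¹⁻¹) ⟨BB.cj_smul ha, BB.cj_smul hb⟩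
    (by rw [conj_mul, h.w.sq t ht]; simp) (mt conj_eq_one_iff.1 t1) ht t1
  have hk' := inv_mem hk
  refine ⟨g * k⁻¹, mem_centralizer_singleton_iff.2 ?_, by rw [mul_smul, show k⁻¹ • α = α from hk'.1],
    by rw [mul_smul, show k⁻¹ • β = β from hk'.2]⟩
  calc g * k⁻¹ * t = g * k⁻¹ * (k * (g⁻¹ * t * g⁻¹⁻¹) * k⁻¹) := by rw [e]
    _ = _ := by group

theorem wittN : T2 𝐍(T) (FS Ω T) α β := by
  refine ⟨h.ne, h.ma, h.mb, fun g hg x hx => FS_smul hg hx, fun a ha b hb hab => ?_⟩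
  obtain ⟨g, rfl, rfl, e⟩ := h.exists_cj_le h.w.two hab ha hb
  exact ⟨g⁻¹, inv_mem (mem_normalizer_of_cj_le e), inv_smul_smul g a, inv_smul_smul g b⟩

theorem centT {g : G} (hg : g ∈ 𝐂(T)) {a b : Ω} (ha : a ∈ FS Ω T) (hb : b ∈ FS Ω T) (hab : a ≠ b)
    (e1 : g • a = a) (e2 : g • b = b) : g ∈ T := by
  obtain ⟨n, hn, rfl, rfl⟩ := h.wittN.tr a ha b hb hab
  have := h.w.cent (n⁻¹ * g * n⁻¹⁻¹) ⟨BB.cj_smul e1, BB.cj_smul e2⟩
    (conj_mem_of_mem_normalizer (normalizer_le_normalizer_centralizer T (inv_mem hn)) hg)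
  simpa [mul_assoc] using conj_mem_of_mem_normalizer hn this

/-- an element of `N(T)` with square in `T` that fixes two points of `Fix T` lies in `T` -/
theorem memT {g : G} (hg : g ∈ 𝐍(T)) (h2 : g * g ∈ T) {a b : Ω} (ha : a ∈ FS Ω T) (hb : b ∈ FS Ω T)
    (hab : a ≠ b) (e1 : g • a = a) (e2 : g • b = b) : g ∈ T := by
  obtain ⟨n, hn, rfl, rfl⟩ := h.wittN.tr a ha b hb hab
  have := h.w.mem_of_sq (b := n⁻¹ * g * n⁻¹⁻¹) ⟨BB.cj_smul e1, BB.cj_smul e2⟩
    (mul_mem (mul_mem (inv_mem hn) hg) (inv_mem (inv_mem hn)))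
    (by rw [conj_mul]; exact conj_mem_of_mem_normalizer (inv_mem hn) h2)
  simpa [mul_assoc] using conj_mem_of_mem_normalizer hn this

theorem two_le_f : 2 ≤ (FS Ω T).ncard := by
  exact h.wittN.two_le

theorem card_C {t : G} (ht : t ∈ T) (t1 : t ≠ 1) : Nat.card (𝐂[t] : Subgroup G) =
    (Fx Ω t).ncard * (((Fx Ω t).ncard - 1) * Nat.card (H2 G α β ⊓ 𝐂[t] : Subgroup G)) := by
  have := (h.wittC ht t1).card_eq
  rwa [inf_assoc, inf_comm] at this

theorem card_N : Nat.card (𝐍(T) : Subgroup G) =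
    (FS Ω T).ncard * (((FS Ω T).ncard - 1) * Nat.card (H2 G α β ⊓ 𝐍(T) : Subgroup G)) := by
  have := h.wittN.card_eq
  rwa [inf_assoc, inf_comm] at this

/-- Sylow's theorem in the stabiliser of `{α, β}` -/
theorem cm {s : G} (s2 : s * s = 1) (sa : s • α = β) (sn : s ∈ 𝐍(T)) {x : G} {k : ℕ}
    (hk : x ^ 2 ^ k = 1) (xa : x • α = β) (xb : x • β = α) :
    ∃ g ∈ H2 G α β, ∃ u ∈ T, g * x * g⁻¹ = s * u := by
  have sb := BB.smul_of_sq s2 sa
  have hP : IsPGroup 2 (T ⊔ zpowers s : Subgroup G) := isPGroup_sup_of_le_normalizer_left h.w.two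
    (TP.isPGroup_zpowers (by rw [sq, s2])) (zpowers_le.2 sn)
  have hsw : ∀ y : G, y • α = β → y • β = α → s * y ∈ H2 G α β := fun y e1 e2 =>
    ⟨show (s * y) • α = α by rw [mul_smul, e1, sb], show (s * y) • β = β by rw [mul_smul, e2, sa]⟩
  have hT : ∀ R : Subgroup G, IsPGroup 2 R → T ⊔ zpowers s ≤ R → ∀ y ∈ R, y ∈ H2 G α β → y ∈ T :=
    fun R hR hle y hy hy' => by
      rw [← h.w.syl.max (R ⊓ H2 G α β) (le_inf (le_sup_left.trans hle) h.w.le) inf_le_right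
        hR.to_inf_left]
      exact ⟨hy, hy'⟩
  have hs : s ∈ T ⊔ zpowers s := mem_sup_right (mem_zpowers s)
  have hS : IsSylowIn 2 (T ⊔ zpowers s) (stabilizer G ({α, β} : Set Ω)) := by
    refine ⟨sup_le (fun u hu => BB.mem_star.2 (Or.inl (h.w.le hu)))
      (zpowers_le.2 (BB.mem_star.2 (Or.inr ⟨sa, sb⟩))), hP, fun R h1 h2 h3 =>
      le_antisymm (fun y hy => ?_) h1⟩
    rcases BB.mem_star.1 (h2 hy) with e | e
    · exact mem_sup_left (hT R h3 h1 y hy e)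
    · exact (mul_mem_cancel_left hs).1
        (mem_sup_left (hT R h3 h1 _ (mul_mem (h1 hs) hy) (hsw y e.1 e.2)))
  obtain ⟨g, hg, e⟩ := hS.exists_cj_le (R := zpowers x) (isPGroup_iff_mem.2 (by
      rintro _ ⟨i, rfl⟩
      exact ⟨k, by rw [← zpow_natCast, ← zpow_mul, mul_comm, zpow_mul, zpow_natCast, hk, one_zpow]⟩))
    (zpowers_le.2 (BB.mem_star.2 (Or.inr ⟨xa, xb⟩)))
  have hy : g * x * g⁻¹ ∈ T ⊔ zpowers s := e (cj_mem g (mem_zpowers x))
  have key : ∀ g ∈ H2 G α β, g * x * g⁻¹ ∈ T ⊔ zpowers s →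
      ∃ g ∈ H2 G α β, ∃ u ∈ T, g * x * g⁻¹ = s * u := fun g hg hy => by
    have ga : g • α = α := hg.1
    have gb : g • β = β := hg.2
    refine ⟨g, hg, s * (g * x * g⁻¹), hT _ hP le_rfl _ (mul_mem hs hy) (hsw _ ?_ ?_),
      by rw [← mul_assoc s s, s2, one_mul]⟩
    · rw [mul_smul, mul_smul, inv_smul_eq_iff.2 ga.symm, xa, gb]
    · rw [mul_smul, mul_smul, inv_smul_eq_iff.2 gb.symm, xb, ga]
  rcases BB.mem_star.1 hg with e | e
  · exact key g e hy
  · refine key (s * g) (hsw g e.1 e.2) ?_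
    rw [show s * g * x * (s * g)⁻¹ = s * (g * x * g⁻¹) * s⁻¹ by group]
    exact mul_mem (mul_mem hs hy) (inv_mem hs)

theorem exists_s : ∃ s : G, s * s = 1 ∧ s • α = β ∧ s ∈ 𝐍(T) := by
  obtain ⟨t, ht, t1⟩ := h.w.exists_ne
  obtain ⟨a, ha⟩ := h.moves t1
  obtain ⟨g, -, -, -, wa, wb⟩ := T2_swap h.top (x := t) (a := a) trivial trivial ha
    (by rw [← mul_smul, h.w.sq t ht, one_smul])
  have w2 : g⁻¹ * t * g * (g⁻¹ * t * g) = 1 := by
    rw [show g⁻¹ * t * g * (g⁻¹ * t * g) = g⁻¹ * (t * t) * g by group, h.w.sq t ht]; simp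
  generalize g⁻¹ * t * g = w at wa wb w2
  obtain ⟨P, hP, hw⟩ := exists_isSylowIn_le (TP.isPGroup_zpowers (p := 2) (g := w) (by rw [sq, w2]))
    (zpowers_le.2 (BB.mem_star.2 (Or.inr ⟨wa, wb⟩)))
  have hn : stabilizer G ({α, β} : Set Ω) ≤ 𝐍(H2 G α β) := fun y hy =>
    (BB.mem_star.1 hy).elim (fun e => le_normalizer e) fun e => BB.norm_H e.1 e.2
  obtain ⟨k, hk, e⟩ := (hP.inf_normal (fun y hy => BB.mem_star.2 (Or.inl hy)) hn).conj h.w.syl
  have ka : k • α = α := hk.1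
  have kb : k • β = β := hk.2
  refine ⟨k * w * k⁻¹, by rw [conj_mul, w2]; simp,
    by rw [mul_smul, mul_smul, inv_smul_eq_iff.2 ka.symm, wa, kb], ?_⟩
  rw [← e, ← cj_normalizer]
  exact cj_mem k (le_normalizer_inf le_normalizer (hP.le.trans hn) (hw (mem_zpowers w)))

/-- every involution is conjugate to one interchanging `α`, `β` -/
theorem inv_swap {u : G} (u2 : u * u = 1) (u1 : u ≠ 1) :
    ∃ w, IsConj u w ∧ w * w = 1 ∧ w • α = β ∧ w • β = α := by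
  obtain ⟨a, ha⟩ := h.moves u1
  obtain ⟨g, -, -, -, wa, wb⟩ := T2_swap h.top (x := u) (a := a) trivial trivial ha
    (by rw [← mul_smul, u2, one_smul])
  refine ⟨_, isConj_iff.2 ⟨g⁻¹, by rw [inv_inv]⟩, ?_, wa, wb⟩
  rw [show g⁻¹ * u * g * (g⁻¹ * u * g) = g⁻¹ * (u * u) * g by group, u2]; simp

theorem norm_H {s : G} (sa : s • α = β) (sb : s • β = α) : s ∈ 𝐍(H2 G α β) := by
  exact BB.norm_H sa sb

theorem syl_stab (he : Even (Nat.card Ω)) : IsSylowIn 2 T (stabilizer G α) := by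
  refine h.w.syl.trans_of_not_dvd inf_le_left fun hd => ?_
  have h1 := h.top.card_stab
  rw [top_inf_eq, Set.ncard_univ] at h1
  have h2 := ((H2 G α β).subgroupOf (stabilizer G α)).index_mul_card
  rw [card_subgroupOf inf_le_left, h1] at h2
  have h3 := Nat.eq_of_mul_eq_mul_right Nat.card_pos h2
  have h4 := h.top.two_le
  rw [Set.ncard_univ] at h4
  obtain ⟨m, hm⟩ := he
  change 2 ∣ ((H2 G α β).subgroupOf (stabilizer G α)).index at hd
  omega

/-- a subgroup conjugate to `H` that centralises `t` acts faithfully on `Fix t` -/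
theorem faith_cj {t g : G} (ht : t ∈ T) (t1 : t ≠ 1) (hc : H2 G α β ^ᶜ g ≤ 𝐂[t]) {u : G}
    (hu : u ∈ H2 G α β ^ᶜ g) (hf : ∀ x ∈ Fx Ω t, u • x = x) : u = 1 := by
  rcases (h.w.cj g).normal (K := H2 G α β ^ᶜ g ⊓ fixingSubgroup G (Fx Ω t)) inf_le_left
    (fun x hx => mem_normalizer_fintype fun y hy => ⟨(H2 G α β ^ᶜ g).mul_mem ((H2 G α β ^ᶜ g).mul_mem hx hy.1) (inv_mem hx),
      (mem_fixingSubgroup_iff G).2 fun p hp => by
        rw [mul_smul, mul_smul, (mem_fixingSubgroup_iff G).1 hy.2 _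
          (Fx_smul (mem_centralizer_singleton_iff.1 (hc (inv_mem hx))) hp), smul_inv_smul]⟩)
    with e | e
  · exact mem_bot.1 (e ▸ ⟨hu, (mem_fixingSubgroup_iff G).2 hf⟩)
  · have h1 : H2 G α β ^ᶜ g ≤ H2 G α β := fun x hx =>
      have := (mem_fixingSubgroup_iff G).1 (e.ge hx).2
      ⟨this α (h.fixa ht), this β (h.fixb ht)⟩
    rw [cj_eq_of_cj_le h1] at hc
    exact absurd (h.w.zero (h.w.le ht) fun x hx => (mem_centralizer_singleton_iff.1 (hc hx)).symm) t1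

end Cf

theorem In.sb {z : G} (h : In α β z) : z • β = α := by
  exact BB.smul_of_sq h.sq h.sw

theorem Out.sb {s : G} (h : Out α β T s) : s • β = α := by
  exact BB.smul_of_sq h.sq h.sw

/-- the elements interchanging `α`, `β` in the inner case -/
theorem In.inv_cases (h : Cf α β T) {z t : G} (hz : In α β z) (ht : t ∈ T) (t1 : t ≠ 1) {w : G}
    (w2 : w * w = 1) (wa : w • α = β) : w = z ∨ ∃ g ∈ H2 G α β, g * w * g⁻¹ = z * t := by
  have wb := BB.smul_of_sq w2 wa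
  have da : (z * w) • α = α := by rw [mul_smul, wa, hz.sb]
  have db : (z * w) • β = β := by rw [mul_smul, wb, hz.sw]
  have e := hz.cen _ da db
  rw [← mul_assoc, hz.sq, one_mul] at e
  by_cases d1 : z * w = 1
  · exact Or.inl (by rw [← hz.sq, mul_right_inj] at d1; exact d1)
  obtain ⟨g, hg, k⟩ := h.w.inv_conj (u := z * w) ⟨da, db⟩ (by rw [← mul_assoc, ← e, w2]) d1 ht t1
  refine Or.inr ⟨g, hg, ?_⟩
  rw [← k, ← mul_assoc, ← mul_assoc, hz.cen g hg.1 hg.2, mul_assoc g z, ← mul_assoc z, hz.sq, one_mul]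

/-- in the inner case `t` is not a square -/
theorem In.not_sq (h : Cf α β T) {z t : G} (hz : In α β z) (ht : t ∈ T) (t1 : t ≠ 1) (x : G) :
    x * x ≠ t := by
  intro e
  have x4 : x ^ 2 ^ 2 = 1 := by
    rw [show x ^ 2 ^ 2 = x * x * (x * x) by simp [pow_succ, mul_assoc], e, h.w.sq t ht]
  have key : ∀ a : Ω, t • a = a → x • a = a := fun a ha => by
    by_contra hx
    obtain ⟨g, -, -, -, ya, yb⟩ := T2_swap h.top (x := x) (a := a) trivial trivial hx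
      (by rw [← mul_smul, e, ha])
    have y4 : (g⁻¹ * x * g) ^ 2 ^ 2 = 1 := by
      have := conj_pow (a := g⁻¹) (b := x) (i := 2 ^ 2)
      rw [inv_inv] at this
      rw [this, x4]; simp
    have y2 : g⁻¹ * x * g * (g⁻¹ * x * g) ≠ 1 := fun k => t1 (by
      rw [show g⁻¹ * x * g * (g⁻¹ * x * g) = g⁻¹ * (x * x) * g⁻¹⁻¹ by group, e] at k
      exact conj_eq_one_iff.1 k)
    generalize g⁻¹ * x * g = y at ya yb y4 y2
    have da : (z * y) • α = α := by rw [mul_smul, ya, hz.sb]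
    have db : (z * y) • β = β := by rw [mul_smul, yb, hz.sw]
    have c := hz.cen _ da db
    rw [← mul_assoc, hz.sq, one_mul] at c
    have d2 : z * y * (z * y) = y * y := by rw [← mul_assoc, ← c]
    refine y2 (d2 ▸ h.w.sq_of_pow (g := z * y) ⟨da, db⟩ (k := 2) ?_)
    rw [← y4, show (2 : ℕ) ^ 2 = 2 * 2 from rfl, pow_mul, pow_mul, pow_two (z * y), d2,
      pow_two y]
  exact t1 (e ▸ h.sq_of_fix x4 h.ne (key α (h.fixa ht)) (key β (h.fixb ht)))

/-- in the outer case `C(T) / T` has odd order -/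
theorem Out.cent2 (h : Cf α β T) {s : G} (hs : Out α β T s) {x : G} (hx : x ∈ 𝐂(T))
    (h2 : x * x ∈ T) : x ∈ T := by
  have key : ∀ a ∈ FS Ω T, x • a = a := fun a ha => by
    by_contra e
    obtain ⟨g, hg, -, -, ya, yb⟩ := T2_swap h.wittN (x := x) ha
      (FS_smul (le_normalizer_of_le_centralizer le_rfl hx) ha) e (by rw [← mul_smul]; exact ha _ h2)
    exact hs.no _ ya yb (conj_mem_of_mem_normalizer' (normalizer_le_normalizer_centralizer T hg) hx)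
  exact h.w.cent x ⟨key α h.ma, key β h.mb⟩ hx

end H45.TS
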