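import Mathlib
import Cfsg.Agent.Lib.TS.BA

/-! Sharply transitive sets of fixed-point-free involutions.  See `blueprint/TS/README.md`. -/

set_option autoImplicit false
set_option linter.unusedSectionVars false

namespace H45.TS

open Subgroup MulAction Cfsg H69 H45 H81
open H81.TP (T2)

universe u v

variable {G : Type u} [Group G] [Finite G] {Ω : Type v} [MulAction G Ω] [Finite Ω]
  {α β : Ω} {H T : Subgroup G}

local instance factSH : Fact (Nat.Prime 2) := ⟨Nat.prime_two⟩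

theorem SH.core {Γ X : Type*} [Group Γ] [Finite Γ] [Finite X] [MulAction Γ X]
    (hs : ∀ (g : Γ) (a b : X), a ≠ b → g • a = a → g • b = b → g = 1) {R : Set Γ}
    (h2 : ∀ r ∈ R, r * r = 1) (hf : ∀ r ∈ R, ∀ a : X, r • a ≠ a)
    (hex : ∀ a b : X, a ≠ b → ∃ r ∈ R, r • a = b) (h1 : ∀ g : Γ, (∀ x : X, g • x = x) → g = 1) (a0 : X) :
    (∃ e, Nat.card X = 2 ^ e) ∧ (∀ g : Γ, (∀ a : X, g • a ≠ a) → g ∈ R) ∧
    (∀ r ∈ R, ∀ r' ∈ R, ∀ a : X, r • a = r' • a → r = r') ∧
    ∀ r ∈ R, ∀ r' ∈ R, (r * r') * (r * r') = 1 := by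
  classical
  letI := Fintype.ofFinite Γ
  letI := Fintype.ofFinite X
  haveI : IsPretransitive Γ X := ⟨fun a b => by
    by_cases e : a = b
    · exact ⟨1, by rw [one_smul, e]⟩
    · obtain ⟨r, -, er⟩ := hex a b e; exact ⟨r, er⟩⟩
  haveI : Nonempty X := ⟨a0⟩
  let P : Finset Γ := Finset.univ.filter fun g => ∀ a : X, g • a ≠ a
  have hP : P.card + 1 = Fintype.card X := by
    have hb := sum_card_fixedBy_eq_card_orbits_mul_card_group Γ X
    have hq : Fintype.card (Quotient (orbitRel Γ X)) = 1 :=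
      Fintype.card_eq_one_iff_nonempty_unique.2 ((pretransitive_iff_unique_quotient_of_nonempty Γ X).1
        inferInstance)
    rw [hq, one_mul] at hb
    have e : ∀ g : Γ, Fintype.card (fixedBy X g) + (if ∀ a : X, g • a ≠ a then 1 else 0) +
        (if g = 1 then 1 else 0) = 1 + (if g = 1 then Fintype.card X else 0) := by
      intro g
      by_cases g1 : g = 1
      · subst g1
        have : ¬ ∀ a : X, (1 : Γ) • a ≠ a := fun h => h a0 (one_smul _ _)
        rw [if_neg this, if_pos rfl, if_pos rfl, add_zero, add_comm]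
        congr 1
        exact Fintype.card_congr (Equiv.subtypeUnivEquiv fun x => one_smul Γ x)
      rw [if_neg g1, if_neg g1, add_zero, add_zero]
      by_cases hg : ∀ a : X, g • a ≠ a
      · rw [if_pos hg, Fintype.card_eq_zero_iff.2 ⟨fun x => hg x.1 x.2⟩]
      · rw [if_neg hg, add_zero]
        push Not at hg
        obtain ⟨a, ha⟩ := hg
        exact Fintype.card_eq_one_iff.2 ⟨⟨a, ha⟩, fun y => Subtype.ext
          (by_contra fun hy => g1 (hs g _ _ hy y.2 ha))⟩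
    have := Finset.sum_congr rfl fun g (_ : g ∈ Finset.univ) => e g
    simp only [Finset.sum_add_distrib, hb, Finset.sum_ite_eq', Finset.mem_univ, if_true,
      Finset.sum_const, Finset.card_univ, smul_eq_mul, mul_one, Finset.sum_boole, Nat.cast_id] at this
    change _ + P.card + _ = _ at this
    omega
  have key : ∀ a : X, ∀ g : Γ, (∀ a : X, g • a ≠ a) → g ∈ R ∧ ∀ g' : Γ, (∀ a : X, g' • a ≠ a) →
      g • a = g' • a → g = g' := by
    intro a
    choose! ρ hρ eρ using hex a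
    have hsur := Finset.surj_on_of_inj_on_of_card_le (s := Finset.univ.erase a) (t := P)
      (fun b _ => ρ b)
      (fun b hb => Finset.mem_filter.2 ⟨Finset.mem_univ _, hf _ (hρ b (Finset.ne_of_mem_erase hb).symm)⟩)
      (fun b c hb hc e => by
        rw [← eρ b (Finset.ne_of_mem_erase hb).symm, ← eρ c (Finset.ne_of_mem_erase hc).symm]
        exact congrArg (· • a) e)
      (by rw [Finset.card_erase_of_mem (Finset.mem_univ _), Finset.card_univ]; omega)
    intro g hg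
    obtain ⟨b, hb, rfl⟩ := hsur g (Finset.mem_filter.2 ⟨Finset.mem_univ _, hg⟩)
    refine ⟨hρ b (Finset.ne_of_mem_erase hb).symm, fun g' hg' e => ?_⟩
    obtain ⟨c, hc, rfl⟩ := hsur g' (Finset.mem_filter.2 ⟨Finset.mem_univ _, hg'⟩)
    rw [eρ b (Finset.ne_of_mem_erase hb).symm, eρ c (Finset.ne_of_mem_erase hc).symm] at e
    rw [e]
  have k3 : ∀ r ∈ R, ∀ r' ∈ R, ∀ a : X, r • a = r' • a → r = r' := fun r hr r' hr' a e =>
    (key a r (hf r hr)).2 r' (hf r' hr') e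
  have km : ∀ r ∈ R, ∀ r' ∈ R, r * r' = 1 ∨ r * r' ∈ R := by
    intro r hr r' hr'
    by_cases hg : ∀ a : X, (r * r') • a ≠ a
    · exact Or.inr (key a0 _ hg).1
    push Not at hg
    obtain ⟨a, ha⟩ := hg
    have : r • a = r' • a := by
      conv_lhs => rw [← ha, ← mul_smul, ← mul_assoc, h2 r hr, one_mul]
    rw [← k3 r hr r' hr' a this]
    exact Or.inl (h2 r hr)
  refine ⟨?_, fun g hg => (key a0 g hg).1, k3, fun r hr r' hr' => ?_⟩
  · let V : Subgroup Γ :=
      { carrier := {g | g = 1 ∨ g ∈ R}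
        one_mem' := Or.inl rfl
        mul_mem' := by
          rintro a b (rfl | ha) (rfl | hb)
          · exact Or.inl (mul_one 1)
          · exact Or.inr (by rwa [one_mul])
          · exact Or.inr (by rwa [mul_one])
          · exact km a ha b hb
        inv_mem' := by
          rintro a (rfl | ha)
          · exact Or.inl inv_one
          · exact Or.inr (by rwa [inv_eq_of_mul_eq_one_right (h2 a ha)]) }
    have hV : IsPGroup 2 V := by
      rintro ⟨g, rfl | hg⟩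
      · exact ⟨0, Subtype.ext (by simp)⟩
      · exact ⟨1, Subtype.ext (by simpa [pow_two] using h2 g hg)⟩
    obtain ⟨e, he⟩ := IsPGroup.iff_card.1 hV
    refine ⟨e, he ▸ ?_⟩
    have : (V : Set Γ) = ↑(insert 1 P) := by
      ext g
      simp only [Finset.coe_insert, Set.mem_insert_iff, Finset.mem_coe, P, Finset.mem_filter,
        Finset.mem_univ, true_and]
      exact or_congr_right ⟨fun h => hf g h, fun h => (key a0 g h).1⟩
    rw [Nat.card_eq_fintype_card, ← hP, ← SetLike.coe_sort_coe, this, Nat.card_coe_set_eq,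
      Set.ncard_coe_finset, Finset.card_insert_of_notMem]
    exact fun h => (Finset.mem_filter.1 h).2 a0 (one_smul _ _)
  · rcases km r hr r' hr' with e | e
    · rw [e, mul_one]
    · exact h2 _ e

theorem she {M : Subgroup G} {F : Set Ω} (hF : ∀ g ∈ M, ∀ x ∈ F, g • x ∈ F)
    (hs : ∀ g ∈ M, ∀ a ∈ F, ∀ b ∈ F, a ≠ b → g • a = a → g • b = b → ∀ x ∈ F, g • x = x)
    {R : Set G} (hR : R ⊆ M) (h2 : ∀ r ∈ R, ∀ x ∈ F, r • r • x = x)
    (hf : ∀ r ∈ R, ∀ a ∈ F, r • a ≠ a)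
    (hex : ∀ a ∈ F, ∀ b ∈ F, a ≠ b → ∃ r ∈ R, r • a = b) (hne : F.Nonempty) :
    (∃ e, F.ncard = 2 ^ e) ∧
    (∀ g ∈ M, (∀ a ∈ F, g • a ≠ a) → ∃ r ∈ R, ∀ x ∈ F, g • x = r • x) ∧
    (∀ r ∈ R, ∀ r' ∈ R, ∀ a ∈ F, r • a = r' • a → ∀ x ∈ F, r • x = r' • x) ∧
    ∀ r ∈ R, ∀ r' ∈ R, ∀ x ∈ F, (r * r') • (r * r') • x = x := by
  let X := TP.sub M F hF
  let φ := MulAction.toPermHom M X
  let im : ∀ g ∈ M, φ.range := fun g hg => ⟨φ ⟨g, hg⟩, _, rfl⟩
  have ims : ∀ g (hg : g ∈ M) (x : X), ((im g hg • x : X) : Ω) = g • (x : Ω) := fun _ _ _ => rfl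
  have ex : ∀ u : φ.range, ∃ g, ∃ hg : g ∈ M, u = im g hg := by
    rintro ⟨_, g, rfl⟩; exact ⟨g.1, g.2, rfl⟩
  have h1 : ∀ g : φ.range, (∀ x : X, g • x = x) → g = 1 := fun g hg =>
    Subtype.ext (Equiv.ext hg)
  obtain ⟨a0, ha0⟩ := hne
  obtain ⟨k1, k2, k3, k4⟩ := SH.core (Γ := φ.range) (X := X)
    (R := {u | ∃ r, ∃ hr : r ∈ R, u = im r (hR hr)})
    (fun u a b hab e1 e2 => by
      obtain ⟨g, hg, rfl⟩ := ex u
      exact h1 _ fun x => Subtype.ext (hs g hg a a.2 b b.2 (fun e => hab (Subtype.ext e))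
        (congrArg Subtype.val e1) (congrArg Subtype.val e2) x x.2))
    (by rintro _ ⟨r, hr, rfl⟩; exact h1 _ fun x => Subtype.ext (h2 r hr x x.2))
    (by rintro _ ⟨r, hr, rfl⟩ a e; exact hf r hr a a.2 (congrArg Subtype.val e))
    (fun a b hab => by
      obtain ⟨r, hr, e⟩ := hex a a.2 b b.2 fun e => hab (Subtype.ext e)
      exact ⟨_, ⟨r, hr, rfl⟩, Subtype.ext e⟩) h1 ⟨a0, ha0⟩
  refine ⟨TP.card_sub M F hF ▸ k1, fun g hg hgf => ?_, fun r hr r' hr' a ha e x hx => ?_,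
    fun r hr r' hr' x hx => ?_⟩
  · obtain ⟨r, hr, e⟩ := k2 (im g hg) fun a e => hgf a a.2 (congrArg Subtype.val e)
    exact ⟨r, hr, fun x hx => by rw [← ims g hg ⟨x, hx⟩, e, ims]⟩
  · rw [← ims r (hR hr) ⟨x, hx⟩, k3 _ ⟨r, hr, rfl⟩ _ ⟨r', hr', rfl⟩ ⟨a, ha⟩ (Subtype.ext e), ims]
  · have := congrArg (fun u : φ.range => ((u • (⟨x, hx⟩ : X) : X) : Ω))
      (k4 _ ⟨r, hr, rfl⟩ _ ⟨r', hr', rfl⟩)
    simp only [mul_smul, ims, one_smul] at this
    rw [mul_smul, mul_smul]; exact this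

end H45.TS
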