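import Mathlib
import Cfsg.Agent.Lib.TS.BB
import Cfsg.Agent.Lib.TS.SH

/-! Inner case, `z ≁ t`: the class of `z`.  See `blueprint/TS/README.md`. -/

set_option autoImplicit false
set_option linter.unusedSectionVars false

namespace H45.TS

open Subgroup MulAction Cfsg H69 H45 H81
open H81.TP (T2)

universe u v

variable {G : Type u} [Group G] [Finite G] {Ω : Type v} [MulAction G Ω] [Finite Ω]
  {α β : Ω} {H T : Subgroup G}

local instance factJ0 : Fact (Nat.Prime 2) := ⟨Nat.prime_two⟩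

namespace J1

variable {t z : G} (h : J1 α β T t z)
include h

theorem z_ne : z ≠ 1 := fun e => h.ne (by rw [← h.inn.sw, e, one_smul])

theorem sq {w : G} (hw : IsConj z w) : w * w = 1 := by
  obtain ⟨g, rfl⟩ := isConj_iff.1 hw
  rw [conj_mul, h.inn.sq]; simp

theorem le_one {w : G} (hw : IsConj z w) {a b : Ω} (e1 : w • a = a) (e2 : w • b = b) : a = b := by
  by_contra hab
  exact h.nc ((h.toCf.conj_of_fix h.ht h.t1 (h.sq hw)
    (fun e => h.z_ne (isConj_one_left.1 (e ▸ hw))) hab e1 e2).trans hw.symm)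

theorem ex {a b : Ω} (hab : a ≠ b) : ∃ w, IsConj z w ∧ w • a = b := by
  obtain ⟨g, rfl, rfl⟩ := h.two a b hab
  exact ⟨g * z * g⁻¹, isConj_iff.2 ⟨g, rfl⟩, (TP.conj_smul_iff g z α β).2 h.inn.sw⟩

theorem conj_zt' : IsConj t (z * t) := by
  obtain ⟨w, hw, w2, wa, -⟩ := h.toCf.inv_swap (h.w.sq t h.ht) h.t1
  rcases In.inv_cases h.toCf h.inn h.ht h.t1 w2 wa with e | ⟨g, -, e⟩
  · exact absurd (e ▸ hw) h.nc
  · exact hw.trans (isConj_iff.2 ⟨g, e⟩)

theorem eq_z {w : G} (hw : IsConj z w) (e : w • α = β) : w = z := by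
  rcases In.inv_cases h.toCf h.inn h.ht h.t1 (h.sq hw) e with e1 | ⟨g, -, e1⟩
  · exact e1
  · exact absurd (h.conj_zt'.trans (hw.trans (isConj_iff.2 ⟨g, e1⟩)).symm) h.nc

theorem eq_cj {w g : G} (hw : IsConj z w) (e : w • g • α = g • β) : w = g * z * g⁻¹ := by
  have k := h.eq_z (w := g⁻¹ * w * g⁻¹⁻¹) (hw.trans (isConj_iff.2 ⟨g⁻¹, rfl⟩))
    (by rw [inv_inv, mul_smul, mul_smul, e, inv_smul_smul])
  rw [← k]; group

theorem uq {w w' : G} (hw : IsConj z w) (hw' : IsConj z w') {a : Ω} (e : w • a = w' • a)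
    (h1 : w • a ≠ a) : w = w' := by
  obtain ⟨g, e1, e2⟩ := h.two a (w • a) h1.symm
  rw [h.eq_cj (g := g) hw (by rw [e1, e2]), h.eq_cj (g := g) hw' (by rw [e1, e2, e])]

theorem cen {w : G} (hw : IsConj z w) {a : Ω} (h1 : w • a ≠ a) {g : G} (e1 : g • a = a)
    (e2 : g • w • a = w • a) : w * g = g * w := by
  obtain ⟨k, k1, k2⟩ := h.two a (w • a) h1.symm
  have hk := h.inn.cen (k⁻¹ * g * k) (by rw [mul_smul, mul_smul, k1, e1, inv_smul_eq_iff, k1])
    (by rw [mul_smul, mul_smul, k2, e2, inv_smul_eq_iff, k2])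
  rw [h.eq_cj (g := k) hw (by rw [k1, k2])]
  calc k * z * k⁻¹ * g = k * (z * (k⁻¹ * g * k)) * k⁻¹ := by group
    _ = g * (k * z * k⁻¹) := by rw [hk]; group

theorem conj_zt : IsConj t (z * t) := h.conj_zt'

theorem n_sq : Nat.card Ω = (Fx Ω t).ncard ^ 2 := by
  have key := h.toCf.top.dc (D := {u | IsConj t u}) (fun _ _ => trivial)
    (fun g _ u hu => IsConj.trans hu (isConj_iff.2 ⟨g, rfl⟩)) (f := (Fx Ω t).ncard)
    (fun u hu => by
      obtain ⟨g, rfl⟩ := isConj_iff.1 hu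
      rw [← ncard_Fx_conj t g]
      congr 1; ext x; simp [mem_Fx])
  have hb : {u | u ∈ {u | IsConj t u} ∧ (u • α = α ∧ u • β = β)}.ncard =
      {u | u ∈ {u | IsConj t u} ∧ u • α = β}.ncard := by
    refine Set.ncard_congr (fun u _ => z * u) (fun u hu => ⟨?_, ?_⟩)
      (fun a b _ _ e => by simpa using e) (fun w hw => ?_)
    · obtain ⟨k, hk⟩ := isConj_iff.1 hu.1
      have u2 : u * u = 1 := by rw [← hk, conj_mul, h.w.sq t h.ht]; simp
      have u1 : u ≠ 1 := fun e => h.t1 (conj_eq_one_iff.1 (hk.trans e))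
      obtain ⟨g, hg, e⟩ := h.w.inv_conj (u := u) hu.2 u2 u1 h.ht h.t1
      refine h.conj_zt'.trans (IsConj.symm (isConj_iff.2 ⟨g, ?_⟩))
      rw [← e, ← mul_assoc, ← h.inn.cen g hg.1 hg.2]; group
    · rw [mul_smul, hu.2.1, h.inn.sw]
    · obtain ⟨k, hk⟩ := isConj_iff.1 hw.1
      have w2 : w * w = 1 := by rw [← hk, conj_mul, h.w.sq t h.ht]; simp
      rcases In.inv_cases h.toCf h.inn h.ht h.t1 w2 hw.2 with e | ⟨g, hg, e⟩
      · exact absurd (e ▸ hw.1) h.nc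
      · have hm : g⁻¹ * t * g⁻¹⁻¹ ∈ H2 G α β :=
          mul_mem (mul_mem (inv_mem hg) (h.w.le h.ht)) (inv_mem (inv_mem hg))
        refine ⟨g⁻¹ * t * g⁻¹⁻¹, ⟨isConj_iff.2 ⟨g⁻¹, rfl⟩, hm⟩, ?_⟩
        have hi := h.inn.cen g⁻¹ (inv_mem hg).1 (inv_mem hg).2
        calc z * (g⁻¹ * t * g⁻¹⁻¹) = (z * g⁻¹) * t * g := by group
          _ = g⁻¹ * (z * t) * g := by rw [hi]; group
          _ = w := by rw [← e]; group
  have h0 : ({u | u ∈ {u | IsConj t u} ∧ u • α = β}.ncard : ℤ) ≠ 0 := by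
    rw [← hb]
    have hm : t ∈ {u | u ∈ {u | IsConj t u} ∧ (u • α = α ∧ u • β = β)} :=
      ⟨IsConj.refl t, h.toCf.fixa h.ht, h.toCf.fixb h.ht⟩
    exact_mod_cast Set.ncard_ne_zero_of_mem hm
  rw [hb, Set.ncard_univ] at key
  have := mul_left_cancel₀ h0 key
  zify; linarith

theorem fpf (he : Even (Nat.card Ω)) {w : G} (hw : IsConj z w) (a : Ω) : w • a ≠ a := by
  intro e
  have h1 := par_Fx (Ω := Ω) (h.sq hw)
  rw [show Fx Ω w = {a} from Set.eq_singleton_iff_unique_mem.2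
    ⟨e, fun x hx => h.le_one hw hx e⟩, Set.ncard_singleton] at h1
  rw [Nat.even_iff] at he
  exact absurd (he ▸ h1 : 0 = 1 % 2) (by norm_num)

theorem f_pow (he : Even (Nat.card Ω)) : ∃ e, (FS Ω T).ncard = 2 ^ e := by
  refine (she (M := 𝐂(T)) (F := FS Ω T) (R := {w | IsConj z w ∧ w ∈ 𝐂(T)})
    (fun g hg x hx => FS_smul (centralizer_le_normalizer _ hg) hx)
    (fun g hg a ha b hb hab e1 e2 x hx => hx g (h.toCf.centT hg ha hb hab e1 e2))
    (fun r hr => hr.2) (fun r hr x _ => by rw [← mul_smul, h.sq hr.1, one_smul])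
    (fun r hr a _ => h.fpf he hr.1 a) (fun a ha b hb hab => ?_) ⟨α, h.toCf.ma⟩).1
  obtain ⟨w, hw, e⟩ := h.ex hab
  exact ⟨w, ⟨hw, mem_centralizer_iff.2 fun u hu =>
    (h.cen hw (e ▸ hab.symm) (ha u hu) (by rw [e]; exact hb u hu)).symm⟩, e⟩

end J1

end H45.TS
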