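import Mathlib
import Cfsg.Agent.Lib.TS.J0

/-! Inner case, `z ≁ t`, even degree: the recurrence for fixed points.  See `blueprint/TS/README.md`. -/

set_option autoImplicit false
set_option linter.unusedSectionVars false

namespace H45.TS

open Subgroup MulAction Cfsg H69 H45 H81
open H81.TP (T2)

universe u v

variable {G : Type u} [Group G] [Finite G] {Ω : Type v} [MulAction G Ω] [Finite Ω]
  {α β : Ω} {H T : Subgroup G}

local instance factRC : Fact (Nat.Prime 2) := ⟨Nat.prime_two⟩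

namespace RC

theorem ncard_part {A B : Type*} [Finite A] [Finite B] (s : Set A) (J : Set B) (S : B → Set A)
    (h1 : ∀ x, x ∈ s ↔ ∃ w ∈ J, x ∈ S w) (h2 : ∀ w ∈ J, ∀ w' ∈ J, ∀ x ∈ S w, x ∈ S w' → w = w') :
    s.ncard = ∑ w ∈ J.toFinite.toFinset, (S w).ncard := by
  classical
  have e : s.toFinite.toFinset = J.toFinite.toFinset.biUnion fun w => (S w).toFinite.toFinset := by
    ext x
    simp [h1]
  rw [Set.ncard_eq_toFinset_card s, e, Finset.card_biUnion fun w hw w' hw' n =>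
    Finset.disjoint_left.2 fun x k k' => n (h2 w (by simpa using hw) w' (by simpa using hw') x
      (by simpa using k) (by simpa using k'))]
  exact Finset.sum_congr rfl fun w _ => (Set.ncard_eq_toFinset_card _ _).symm

variable {t z : G} (h : J1 α β T t z) (he : Even (Nat.card Ω)) {U : Subgroup G} (hU : U ≤ T)
  {v : G} (hv : v ∈ T)
include h he hU hv

theorem ma : α ∈ FS Ω (U ⊔ zpowers v) := FS_anti (sup_le hU (zpowers_le.2 hv)) h.toCf.ma

theorem cm {w : G} (hw : IsConj z w) (hα : w • α ∈ FS Ω (U ⊔ zpowers v)) {u : G}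
    (hu : u ∈ U ⊔ zpowers v) : w * u = u * w :=
  h.cen hw (h.fpf he hw α) (ma h he hU hv u hu) (hα u hu)

theorem card_J : {w | IsConj z w ∧ w • α ∈ FS Ω (U ⊔ zpowers v)}.ncard + 1 =
    (FS Ω (U ⊔ zpowers v)).ncard := by
  rw [← Set.ncard_diff_singleton_add_one (ma h he hU hv)]
  congr 1
  refine Set.ncard_congr (fun w _ => w • α) (fun w hw => ⟨hw.2, h.fpf he hw.1 α⟩)
    (fun w w' hw hw' e => h.uq hw.1 hw'.1 e (h.fpf he hw.1 α)) fun x hx => ?_
  obtain ⟨w, hw, e⟩ := h.ex (Ne.symm hx.2 : α ≠ x)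
  exact ⟨w, ⟨hw, e ▸ hx.1⟩, e⟩

theorem sum : (FS Ω U).ncard = (FS Ω (U ⊔ zpowers v)).ncard +
    ∑ w ∈ {w | IsConj z w ∧ w • α ∈ FS Ω (U ⊔ zpowers v)}.toFinite.toFinset,
      {x | x ∈ FS Ω U ∧ (v * w) • x = x}.ncard := by
  have v2 : ∀ x : Ω, v • v • x = x := fun x => by rw [← mul_smul, h.w.sq v hv, one_smul]
  rw [← ncard_part (FS Ω U \ FS Ω (U ⊔ zpowers v)) _ _ (fun x => ⟨fun hx => ?_, ?_⟩)
    fun w hw w' hw' x k k' => ?_, add_comm, Set.ncard_diff_add_ncard_of_subset (FS_anti le_sup_left)]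
  · have n : v • x ≠ x := fun e => hx.2 (by rw [FS_sup_zp]; exact ⟨hx.1, e⟩)
    obtain ⟨w, hw, e⟩ := h.ex n.symm
    have w2 : ∀ x : Ω, w • w • x = x := fun x => by rw [← mul_smul, h.sq hw, one_smul]
    have c1 : ∀ u ∈ U, w * u = u * w := fun u hu => h.cen hw (e ▸ n) (hx.1 u hu) (by
      rw [e, ← mul_smul, h.w.comm (hU hu) hv, mul_smul, hx.1 u hu])
    have c2 : w = v * w * v⁻¹ := h.uq hw (hw.trans (isConj_iff.2 ⟨v, rfl⟩)) (a := v • x)
      (by rw [mul_smul, inv_smul_smul, mul_smul, e, v2, ← e, w2]) (by rw [← e, w2, e]; exact n.symm)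
    refine ⟨w, ⟨hw, ?_⟩, hx.1, by rw [mul_smul, e, v2]⟩
    rw [FS_sup_zp]
    exact ⟨fun u hu => by rw [← mul_smul, ← c1 u hu, mul_smul, h.toCf.fixa (hU hu)],
      by rw [← mul_smul, ← eq_mul_inv_iff_mul_eq.1 c2, mul_smul, h.toCf.fixa hv]⟩
  · rintro ⟨w, hw, k1, k2⟩
    refine ⟨k1, fun k => h.fpf he hw.1 x ?_⟩
    have m : v ∈ U ⊔ zpowers v := mem_sup_right (mem_zpowers v)
    rwa [← cm h he hU hv hw.1 hw.2 m, mul_smul, k v m] at k2
  · exact h.uq hw.1 hw'.1 (a := x) (smul_left_cancel v (by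
      rw [← mul_smul, ← mul_smul, k.2, k'.2])) (h.fpf he hw.1 x)

end RC

namespace J1

variable {t z : G} (h : J1 α β T t z) (he : Even (Nat.card Ω)) {U : Subgroup G} (hU : U ≤ T)
  {v : G} (hv : v ∈ T)
include h he hU hv

theorem term {w : G} (hw : IsConj z w) (hα : w • α ∈ FS Ω (U ⊔ zpowers v))
    (hne : {x | x ∈ FS Ω U ∧ (v * w) • x = x}.Nonempty) :
    ∃ v' ∈ T, FS Ω (U ⊔ zpowers v') ≠ FS Ω U ∧
      {x | x ∈ FS Ω U ∧ (v * w) • x = x}.ncard = (FS Ω (U ⊔ zpowers v')).ncard := by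
  obtain ⟨x, hx, e⟩ := hne
  have cv := RC.cm h he hU hv hw hα (mem_sup_right (mem_zpowers v))
  have n : (v * w) • α ≠ α := by
    rw [← cv, mul_smul, h.toCf.fixa hv]
    exact h.fpf he hw α
  obtain ⟨c, hc, ec⟩ := h.ex (a := x) (b := α) fun k => n (k ▸ e)
  have cU : c ∈ 𝐂(U) := fun u hu =>
    (h.cen hc (h.fpf he hc x) (hx u hu) (by rw [ec, h.toCf.fixa (hU hu)])).symm
  have yU : v * w ∈ 𝐂(U) := mul_mem (fun u hu => h.w.comm (hU hu) hv)
    fun u hu => (RC.cm h he hU hv hw hα (mem_sup_left hu)).symm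
  have y2 : (c * (v * w) * c⁻¹) ^ 2 = 1 := by
    rw [conj_pow, pow_two, mul_assoc v, ← mul_assoc w, cv, mul_assoc v, h.sq hw, mul_one, h.w.sq v hv,
      mul_one, mul_inv_cancel]
  obtain ⟨d, hd, k⟩ := ((h.toCf.syl_stab he).mono (K := stabilizer G α ⊓ 𝐂(U))
    (le_inf (fun _ => h.toCf.fixa) (h.w.le_cent.trans (centralizer_anti hU))) inf_le_left).exists_cj_le
      (TP.isPGroup_zpowers y2) (zpowers_le.2 (mem_inf.2 ⟨by
        rw [mem_stabilizer_iff, ← ec, mul_smul, inv_smul_smul, mul_smul, e],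
        mul_mem (mul_mem cU yU) (inv_mem cU)⟩))
  have gN : d * c ∈ 𝐍(U) := centralizer_le_normalizer _ (mul_mem (mem_inf.1 hd).2 cU)
  refine ⟨d * c * (v * w) * (d * c)⁻¹, by
    convert k (cj_mem d (mem_zpowers _)) using 1; group, fun k' => n ?_, ?_⟩
  · have := FS_smul gN (FS_anti hU h.toCf.ma)
    rw [← k', FS_sup_zp] at this
    exact (TP.conj_smul_iff _ _ _ _).1 this.2
  · rw [← FS_sup_zp, ← ncard_FS_cj _ (d * c), cj_sup, cj_eq_of_mem_normalizer gN, cj_zpowers]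

theorem rc1 {m : ℕ} (hm : ∀ w, IsConj z w → w • α ∈ FS Ω (U ⊔ zpowers v) →
      {x | x ∈ FS Ω U ∧ (v * w) • x = x}.ncard = 0 ∨
      {x | x ∈ FS Ω U ∧ (v * w) • x = x}.ncard = m) :
    ∃ a, a + 1 ≤ (FS Ω (U ⊔ zpowers v)).ncard ∧
      (FS Ω U).ncard = (FS Ω (U ⊔ zpowers v)).ncard + m * a := by
  have e := RC.sum h he hU hv
  rw [← Finset.sum_filter_ne_zero, Finset.sum_congr rfl (g := fun _ => m) fun w hw => by
    obtain ⟨h1, h2⟩ := Finset.mem_filter.1 hw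
    have h3 := (Set.Finite.mem_toFinset _).1 h1
    exact (hm w h3.1 h3.2).resolve_left h2, Finset.sum_const, smul_eq_mul, mul_comm] at e
  refine ⟨_, ?_, e⟩
  rw [← RC.card_J h he hU hv, Set.ncard_eq_toFinset_card _]
  exact Nat.succ_le_succ (Finset.card_filter_le _ _)

theorem rc2 {m : ℕ} (hm : ∀ w, IsConj z w → w • α ∈ FS Ω (U ⊔ zpowers v) →
      {x | x ∈ FS Ω U ∧ (v * w) • x = x}.ncard = m) :
    (FS Ω U).ncard = (FS Ω (U ⊔ zpowers v)).ncard + m * ((FS Ω (U ⊔ zpowers v)).ncard - 1) := by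
  have e := RC.sum h he hU hv
  rwa [Finset.sum_congr rfl (g := fun _ => m) fun w hw => by
    have h3 := (Set.Finite.mem_toFinset _).1 hw
    exact hm w h3.1 h3.2, Finset.sum_const, smul_eq_mul, mul_comm, ← Set.ncard_eq_toFinset_card _,
    Nat.eq_sub_of_add_eq (RC.card_J h he hU hv)] at e

theorem rc3 {m : ℕ} (hm : ∀ w, IsConj z w → w • α ∈ FS Ω (U ⊔ zpowers v) →
      {x | x ∈ FS Ω U ∧ (v * w) • x = x}.ncard ≤ m) :
    (FS Ω U).ncard ≤ (FS Ω (U ⊔ zpowers v)).ncard + m * ((FS Ω (U ⊔ zpowers v)).ncard - 1) := by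
  rw [RC.sum h he hU hv, ← Nat.eq_sub_of_add_eq (RC.card_J h he hU hv),
    Set.ncard_eq_toFinset_card {w | IsConj z w ∧ _}, mul_comm, ← smul_eq_mul]
  refine Nat.add_le_add_left (Finset.sum_le_card_nsmul _ _ _ fun w hw => ?_) _
  have h3 := (Set.Finite.mem_toFinset _).1 hw
  exact hm w h3.1 h3.2

end J1

end H45.TS
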