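import Mathlib
import Cfsg.Agent.Lib.TS.RC

/-! Inner case, `z ≁ t`, even degree, type `L₂(2^m)`: the block design.  See `blueprint/TS/README.md`. -/

set_option autoImplicit false
set_option linter.unusedSectionVars false

namespace H45.TS

open Subgroup MulAction Cfsg H69 H45 H81
open H81.TP (T2)

universe u v

variable {G : Type u} [Group G] [Finite G] {Ω : Type v} [MulAction G Ω] [Finite Ω]
  {α β : Ω} {H T : Subgroup G}

local instance factA0 : Fact (Nat.Prime 2) := ⟨Nat.prime_two⟩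

theorem Cf.part (h : Cf α β T) (hA : WA (H2 G α β) T) (he : Even (Nat.card Ω)) {U : Subgroup G}
    (hU : U ≤ T) (h1 : U ≠ ⊥) :
    (FS Ω U).ncard = 1 + ((FS Ω T).ncard - 1) * (SylO (stabilizer G α) U).ncard := by
  have hT := h.syl_stab he
  obtain ⟨u, hu, u1⟩ : ∃ u ∈ U, u ≠ 1 := by
    by_contra! k
    exact h1 (eq_bot_iff.2 fun u hu => mem_bot.2 (k u hu))
  have ha : α ∈ FS Ω U := FS_anti hU h.ma
  have key := TP.ncard_bip (s := FS Ω U \ {α}) (t := SylO (stabilizer G α) U) (Set.toFinite _)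
    (Set.toFinite _) (fun γ S => γ ∈ FS Ω S) (m := 1) (n := (FS Ω T).ncard - 1) ?_ ?_
  · rw [Set.ncard_sdiff_singleton_of_mem ha, mul_one, mul_comm] at key
    have : 0 < (FS Ω U).ncard := (Set.ncard_pos (Set.toFinite _)).2 ⟨α, ha⟩
    omega
  · rintro γ ⟨hγ, hne⟩
    obtain ⟨g, ga, gb, hg⟩ := h.exists_cj_le (h.w.two.to_le hU) (Ne.symm hne) ha hγ
    have hS : IsSylowIn 2 (T ^ᶜ g⁻¹) (stabilizer G α) := hT.cj_of_mem (inv_mem ga)
    refine Set.ncard_eq_one.2 ⟨T ^ᶜ g⁻¹, Set.eq_singleton_iff_unique_mem.2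
      ⟨⟨⟨hS, cj_le_iff.1 hg⟩, ?_⟩, ?_⟩⟩
    · have := (smul_mem_FS_cj (g := g⁻¹)).2 h.mb
      rwa [← gb, inv_smul_smul] at this
    · rintro S ⟨⟨hS', hUS⟩, hγS⟩
      refine (hS'.max _ (cj_le_iff.1 fun x hx => ?_) hS.le hS.isP).symm
      obtain ⟨y, hy, rfl⟩ := mem_cj'.1 hx
      obtain ⟨m, -, rfl⟩ := hT.conj hS'
      have hc := (h.w.cj m).comm hy (hUS hu)
      refine hA.cen (g * u * g⁻¹) (hg (cj_mem g hu)) (fun e => u1 (by simpa using e)) _
        ⟨(stabilizer G α).mul_mem ((stabilizer G α).mul_mem ga (hS'.le hy))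
          ((stabilizer G α).inv_mem ga), ?_⟩ ?_
      · change (g * y * g⁻¹) • β = β
        rw [← gb, mul_smul, mul_smul, inv_smul_smul, hγS y hy]
      · calc g * y * g⁻¹ * (g * u * g⁻¹) = g * (y * u) * g⁻¹ := by group
          _ = _ := by rw [hc]; group
  · rintro S ⟨hS, hUS⟩
    have e : {a | a ∈ FS Ω U \ {α} ∧ a ∈ FS Ω S} = FS Ω S \ {α} :=
      Set.ext fun a => ⟨fun k => ⟨k.2, k.1.2⟩, fun k => ⟨⟨FS_anti hUS k.1, k.2⟩, k.1⟩⟩
    rw [e, Set.ncard_sdiff_singleton_of_mem (show α ∈ FS Ω S from fun x hx => hS.le hx)]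
    obtain ⟨m, -, rfl⟩ := hT.conj hS
    rw [ncard_FS_cj]

theorem J1.max_sq {t z : G} (h : J1 α β T t z) (hA : WA (H2 G α β) T) (he : Even (Nat.card Ω))
    {U : Subgroup G} (hU : U ≤ T) (h1 : U ≠ ⊥) (hne : FS Ω U ≠ FS Ω T)
    (hmax : ∀ v ∈ T, v ∉ U → FS Ω (U ⊔ zpowers v) = FS Ω T) :
    (FS Ω U).ncard = (FS Ω T).ncard ^ 2 := by
  obtain ⟨v, hv, hvU⟩ : ∃ v ∈ T, v ∉ U := by
    by_contra! k
    exact hne (by rw [le_antisymm hU k])
  obtain ⟨a, h2, h3⟩ := h.rc1 he hU hv (m := (FS Ω T).ncard) fun w hw hα => by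
    by_cases hn : {x | x ∈ FS Ω U ∧ (v * w) • x = x}.Nonempty
    · obtain ⟨v', hv', k1, k2⟩ := h.term he hU hv hw hα hn
      right
      rw [k2, hmax v' hv' fun k => k1 (by rw [sup_eq_left.2 (zpowers_le.2 k)])]
    · left
      rw [Set.not_nonempty_iff_eq_empty.1 hn, Set.ncard_empty]
  rw [hmax v hv hvU] at h2 h3
  have h4 := h.toCf.part hA he hU h1
  have a0 : a ≠ 0 := by
    rintro rfl
    exact hne (Set.eq_of_subset_of_ncard_le (FS_anti hU) (by omega) (Set.toFinite _)).symm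
  obtain ⟨e, he'⟩ : ∃ e, (FS Ω T).ncard = e + 1 := ⟨(FS Ω T).ncard - 1, by omega⟩
  rw [he'] at h2 h3 h4 ⊢
  rw [Nat.add_sub_cancel, h3] at h4
  have h5 : e ∣ a := by
    have h6 : e * (a + 1) + a = e * (SylO (stabilizer G α) U).ncard := by linarith
    exact (Nat.dvd_add_right (dvd_mul_right e _)).1 (h6 ▸ dvd_mul_right e _)
  have h7 : a = e := le_antisymm (by omega) (Nat.le_of_dvd (by omega) h5)
  rw [h3, h7]
  ring

end H45.TS
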