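import Mathlib
import Cfsg.Agent.Lib.TS.Defs

/-! Transport of the Walter data along injective homomorphisms. -/

set_option autoImplicit false
set_option linter.unusedSectionVars false

namespace H45.TS.WFMap

open Subgroup Cfsg H69 H45

variable {G X : Type*} [Group G] [Group X] [Finite G] [Finite X] {θ : X →* G}

local instance factWFMap : Fact (Nat.Prime 2) := ⟨Nat.prime_two⟩

theorem exists_theta {H T : Subgroup G} (hT : IsSylowIn 2 T H) (e : H ≃* X) {P : Subgroup X}
    (hP : IsSylowIn 2 P ⊤) :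
    ∃ θ : X →* G, Function.Injective θ ∧ (⊤ : Subgroup X).map θ = H ∧ P.map θ = T := by
  have h0 : (⊤ : Subgroup X).map (H.subtype.comp e.symm.toMonoidHom) = H := by
    rw [← map_map, map_top_of_surjective _ e.symm.surjective, map_subtype_top]
  have h1 := hP.map (H.subtype.comp e.symm.toMonoidHom)
  rw [h0] at h1
  obtain ⟨g, hg, e1⟩ := h1.conj hT
  refine ⟨(MulAut.conj g).toMonoidHom.comp (H.subtype.comp e.symm.toMonoidHom),
    (MulAut.conj g).injective.comp (H.subtype_injective.comp e.symm.injective), ?_, ?_⟩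
  · rw [← map_map, h0]; exact cj_eq_of_mem hg
  · rw [← e1, ← map_map]

theorem nab_map (hθ : Function.Injective θ) {H : Subgroup X} (h : ¬ IsMulCommutative H) :
    ¬ IsMulCommutative (H.map θ) := fun c => h ⟨⟨fun a b => Subtype.ext (hθ (by
  have := congrArg Subtype.val (c.1.1 ⟨θ a, mem_map_of_mem θ a.2⟩ ⟨θ b, mem_map_of_mem θ b.2⟩)
  simpa only [coe_mul, map_mul] using this))⟩⟩

theorem w0_map (hθ : Function.Injective θ) {H T : Subgroup X} (h : W0 H T) :
    W0 (H.map θ) (T.map θ) where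
  simple := have := h.simple; (H.equivMapOfInjective θ hθ).symm.isSimpleGroup
  nab := nab_map hθ h.nab
  syl := h.syl.map θ
  sq := by rintro _ ⟨u, hu, rfl⟩; rw [← map_mul, h.sq u hu, map_one]
  cent := by
    rintro _ ⟨g, hg, rfl⟩ hc
    refine mem_map_of_mem θ (h.cent g hg (mem_centralizer_iff_commute.2 fun a ha => hθ ?_))
    rw [map_mul, map_mul]
    exact mem_centralizer_iff_commute.1 hc _ (mem_map_of_mem θ ha)
  tr := by
    rintro _ ⟨u, hu, rfl⟩ u1 _ ⟨v, hv, rfl⟩ v1
    obtain ⟨b, hb, hn, e⟩ := h.tr u hu (fun c => u1 (by rw [c, map_one])) v hv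
      (fun c => v1 (by rw [c, map_one]))
    exact ⟨θ b, mem_map_of_mem θ hb, le_normalizer_map θ (mem_map_of_mem θ hn),
      by rw [← e, map_mul, map_mul, map_inv]⟩
  four := by rw [card_map_of_injective hθ]; exact h.four

theorem wa_map (hθ : Function.Injective θ) {H T : Subgroup X} (h : WA H T) :
    WA (H.map θ) (T.map θ) where
  cen := by
    rintro _ ⟨u, hu, rfl⟩ u1 _ ⟨g, hg, rfl⟩ e
    exact mem_map_of_mem θ (h.cen u hu (fun c => u1 (by rw [c, map_one])) g hg
      (hθ (by rw [map_mul, map_mul, e])))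
  cyc := by
    obtain ⟨ρ, h1, h2, h3, h4⟩ := h.cyc
    refine ⟨θ ρ, mem_map_of_mem θ h1, le_normalizer_map θ (mem_map_of_mem θ h2),
      by rw [orderOf_injective θ hθ, card_map_of_injective hθ, h3], ?_⟩
    rintro _ ⟨b, hb, rfl⟩ hn
    obtain ⟨k, u, hu, e⟩ := h4 b hb (mem_normalizer_of_cj_le fun x hx => by
      obtain ⟨a, ha, rfl⟩ := mem_cj'.1 hx
      have := conj_mem_of_mem_normalizer hn (mem_map_of_mem θ ha)
      rwa [← map_inv, ← map_mul, ← map_mul, mem_map_iff_mem hθ] at this)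
    exact ⟨k, θ u, mem_map_of_mem θ hu, by rw [e, map_mul, map_pow]⟩

theorem ck_map (hθ : Function.Injective θ) {H K : Subgroup X} {t : X} (h : CK H t K) :
    CK (H.map θ) (θ t) (K.map θ) where
  le := map_mono h.le
  comm := by rintro _ ⟨g, hg, rfl⟩; rw [← map_mul, h.comm g hg, map_mul]
  nmem := by rw [mem_map_iff_mem hθ]; exact h.nmem
  dec := by
    rintro _ ⟨g, hg, rfl⟩ e
    rw [← map_mul, mem_map_iff_mem hθ, mem_map_iff_mem hθ]
    exact h.dec g hg (hθ (by rw [map_mul, map_mul, e]))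
  iso := by
    obtain ⟨F, _, _, h1, ⟨e⟩⟩ := h.iso
    exact ⟨F, _, _, h1, ⟨(K.equivMapOfInjective θ hθ).symm.trans e⟩⟩

theorem wc_map (hθ : Function.Injective θ) {H T : Subgroup X} (h : WC H T) :
    WC (H.map θ) (T.map θ) where
  card := by rw [card_map_of_injective hθ, h.card]
  ck := by
    rintro _ ⟨t, ht, rfl⟩ t1
    obtain ⟨K, hK⟩ := h.ck t ht fun c => t1 (by rw [c, map_one])
    exact ⟨_, ck_map hθ hK⟩

/-- a simple group with two distinct commuting involutions is not commutative -/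
theorem nab_top [IsSimpleGroup X] {a b : X} (ha : a * a = 1) (a1 : a ≠ 1) (b1 : b ≠ 1)
    (hab : b ≠ a) : ¬ IsMulCommutative (⊤ : Subgroup X) := by
  classical
  intro c
  have hc : ∀ x y : X, x * y = y * x := fun x y =>
    congrArg Subtype.val (c.1.1 ⟨x, mem_top x⟩ ⟨y, mem_top y⟩)
  have hn : (zpowers a).Normal := ⟨fun n hn g => by rwa [hc g n, mul_inv_cancel_right]⟩
  rcases hn.eq_bot_or_eq_top with e | e
  · exact a1 (mem_bot.1 (e ▸ mem_zpowers a))
  · have hb : b ∈ zpowers a := e ▸ mem_top b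
    rw [mem_zpowers_iff_mem_range_orderOf, orderOf_eq_prime (p := 2) (by rw [pow_two, ha]) a1] at hb
    simp only [Finset.mem_image, Finset.mem_range] at hb
    obtain ⟨k, hk, rfl⟩ := hb
    interval_cases k
    · exact b1 (pow_zero a)
    · exact hab (pow_one a)

end H45.TS.WFMap
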