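import Mathlib
import Cfsg.Agent.Lib.TS.BA
import Cfsg.Agent.Lib.TS.WFMap
import Cfsg.Agent.Lib.GL.Two
import Cfsg.Agent.Lib.GL.Simple
import Cfsg.Agent.Lib.SL2Elt.Order
import Cfsg.Agent.S0252

/-! Walter groups: `L₂(2^n)`.  See `blueprint/TS/README.md`. -/

set_option autoImplicit false
set_option linter.unusedSectionVars false

namespace H45.TS

open Subgroup MulAction Cfsg H69 H45 H81
open H81.TP (T2)

universe u v

variable {G : Type u} [Group G] [Finite G] {Ω : Type v} [MulAction G Ω] [Finite Ω]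
  {α β : Ω} {H T : Subgroup G}

local instance factWFA : Fact (Nat.Prime 2) := ⟨Nat.prime_two⟩

namespace WFA

open H64.SL2 H10
open scoped MatrixGroups

variable {F : Type} [Field F] [Fintype F]

theorem mem_U {g : SL(2, F)} : g ∈ unitriSL (Fin 2) F ↔ g 1 0 = 0 ∧ g 0 0 = 1 ∧ g 1 1 = 1 :=
  mem_unitriSL_two

theorem ne01 {u : SL(2, F)} (hu : u ∈ unitriSL (Fin 2) F) (u1 : u ≠ 1) : u 0 1 ≠ 0 := fun e => by
  obtain ⟨h1, h2, h3⟩ := mem_U.1 hu
  exact u1 (ext' (by simpa using h2) (by simpa using e) (by simpa using h1) (by simpa using h3))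

theorem sq (h2 : (2 : F) = 0) {u : SL(2, F)} (hu : u ∈ unitriSL (Fin 2) F) : u * u = 1 := by
  obtain ⟨a, b, c⟩ := mem_U.1 hu
  refine ext' ?_ ?_ ?_ ?_ <;> simp [mul_apply', a, b, c]
  linear_combination u 0 1 * h2

theorem cen (h2 : (2 : F) = 0) {u g : SL(2, F)} (hu : u ∈ unitriSL (Fin 2) F) (u1 : u ≠ 1)
    (e : g * u = u * g) : g ∈ unitriSL (Fin 2) F := by
  obtain ⟨a, b, c⟩ := mem_U.1 hu
  have n := ne01 hu u1
  obtain ⟨e1, e2, -, -⟩ := ext_iff'.1 e
  simp only [mul_apply', a, b, c] at e1 e2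
  have g10 : g 1 0 = 0 := by
    apply mul_left_cancel₀ n
    linear_combination -e1
  have g00 : g 0 0 = g 1 1 := by
    apply mul_left_cancel₀ n
    linear_combination e2
  have d := det_eq g
  rw [g10, g00] at d
  have : (g 1 1 - 1) ^ 2 = 0 := by linear_combination d + (1 - g 1 1) * h2
  have g11 : g 1 1 = 1 := sub_eq_zero.1 (pow_eq_zero_iff two_ne_zero |>.1 this)
  exact mem_U.2 ⟨g10, g00.trans g11, g11⟩

/-- the diagonal matrices -/
noncomputable def dg : Fˣ →* SL(2, F) where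
  toFun a := mk a 0 0 (a⁻¹ : Fˣ) (by simp)
  map_one' := ext' (by simp [mk_00]) (by simp [mk_01]) (by simp [mk_10]) (by simp [mk_11])
  map_mul' a b := by
    refine ext' ?_ ?_ ?_ ?_ <;> simp [mul_apply', mk_00, mk_01, mk_10, mk_11, mul_comm]

theorem eqns : True := by
  have := @dg.eq_1
  trivial

theorem dg_00 (a : Fˣ) : dg a 0 0 = a := rfl
theorem dg_01 (a : Fˣ) : dg a 0 1 = 0 := rfl
theorem dg_10 (a : Fˣ) : dg a 1 0 = 0 := rfl
theorem dg_11 (a : Fˣ) : dg a 1 1 = (a⁻¹ : Fˣ) := rfl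

theorem dg_inj : Function.Injective (dg : Fˣ →* SL(2, F)) := fun a b e =>
  Units.ext (by rw [← dg_00, e, dg_00])

theorem dg_N (a : Fˣ) : dg a ∈ 𝐍(unitriSL (Fin 2) F) :=
  borelSL_le_normalizer_unitriSL (mem_borelSL_two.2 (dg_10 a))

theorem core (h2 : (2 : F) = 0) (h4 : 4 ≤ Fintype.card F) (hS : IsSylowIn 2 (unitriSL (Fin 2) F) ⊤) :
    W0 ⊤ (unitriSL (Fin 2) F) ∧ WA ⊤ (unitriSL (Fin 2) F) := by
  have hc : Nat.card (unitriSL (Fin 2) F) = Fintype.card F := by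
    rw [card_unitriSL_two, Nat.card_eq_fintype_card]
  have hs : IsSimpleGroup SL(2, F) :=
    have := isSimpleGroup_PSL_fin (F := F) 2 le_rfl fun _ => by rwa [Nat.card_eq_fintype_card]
    (projEquiv h2).isSimpleGroup
  have ex : ∀ x : F, ∃ u ∈ unitriSL (Fin 2) F, u 0 1 = x := fun x =>
    ⟨mk 1 x 0 1 (by simp), mem_U.2 ⟨rfl, rfl, rfl⟩, rfl⟩
  obtain ⟨a, ha, a1⟩ := ex 1
  have a1' : a ≠ 1 := by
    rintro rfl
    simp at a1
  refine ⟨⟨topEquiv.isSimpleGroup, ?_, hS, fun u hu => sq h2 hu, fun g _ hg => cen h2 ha a1'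
    (mem_centralizer_iff_commute.1 hg a ha).symm, fun u hu u1 v hv v1 => ?_, hc ▸ h4⟩,
    fun u hu u1 g _ e => cen h2 hu u1 e, ?_⟩
  · obtain ⟨x, x0, x1⟩ : ∃ x : F, x ≠ 0 ∧ x ≠ 1 := by
      classical
      by_contra hn
      have : (Finset.univ : Finset F) ⊆ {0, 1} := fun x _ => by
        simp only [Finset.mem_insert, Finset.mem_singleton]
        by_contra hx
        exact hn ⟨x, fun e => hx (.inl e), fun e => hx (.inr e)⟩
      have := (Finset.card_le_card this).trans Finset.card_le_two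
      rw [Finset.card_univ] at this
      omega
    obtain ⟨b, -, b1⟩ := ex x
    refine WFMap.nab_top (b := b) (sq h2 ha) a1' ?_ ?_
    · rintro rfl
      exact x0 (by simpa using b1.symm)
    · rintro rfl
      exact x1 (b1.symm.trans a1)
  · obtain ⟨x, hx⟩ := exists_sq_eq_of_two_eq_zero h2 (v 0 1 / u 0 1)
    have nu := ne01 hu u1
    have x0 : x ≠ 0 := by
      rintro rfl
      exact div_ne_zero (ne01 hv v1) nu (by simpa using hx.symm)
    refine ⟨dg (Units.mk0 x x0), mem_top _, dg_N _, mul_inv_eq_iff_eq_mul.2 ?_⟩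
    obtain ⟨p1, p2, p3⟩ := mem_U.1 hu
    obtain ⟨q1, q2, q3⟩ := mem_U.1 hv
    refine ext' ?_ ?_ ?_ ?_ <;> simp [mul_apply', dg_00, dg_01, dg_10, dg_11, p1, p2, p3, q1, q2, q3]
    field_simp
    rw [hx]
    field_simp
  · obtain ⟨l, hl⟩ := IsCyclic.exists_generator (α := Fˣ)
    refine ⟨dg l, mem_top _, dg_N l, ?_, fun b _ hb => ?_⟩
    · classical
      rw [orderOf_injective dg dg_inj, orderOf_eq_card_of_forall_mem_zpowers hl, hc,
        Nat.card_eq_fintype_card, Fintype.card_units]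
      omega
    · have b10 : b 1 0 = 0 := mem_borelSL_two.1 (mem_borelSL_two_of_conj ha a1'
        (mem_borelSL_two.2 (mem_U.1 (conj_mem_of_mem_normalizer hb ha)).1))
      have d := det_eq b
      rw [b10, mul_zero, sub_zero] at d
      have b0 : b 0 0 ≠ 0 := left_ne_zero_of_mul_eq_one d
      obtain ⟨k, hk⟩ := (mem_powers_iff_mem_zpowers.2 (hl (Units.mk0 _ b0)) :)
      refine ⟨k, dg (Units.mk0 _ b0)⁻¹ * b, mem_U.2 ⟨?_, ?_, ?_⟩, ?_⟩
      · rw [mul_apply', dg_10, b10]; simp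
      · rw [mul_apply', dg_00, dg_01]; simp [b0]
      · rw [mul_apply', dg_10, dg_11]; simp [d]
      · rw [← map_pow, show l ^ k = Units.mk0 _ b0 from hk, map_inv, mul_inv_cancel_left]

end WFA

theorem wfa (hT : IsSylowIn 2 T H) {F : Type} [Field F] [Fintype F] {n : ℕ} (hn : 2 ≤ n)
    (hF : Fintype.card F = 2 ^ n) (e : H ≃* Matrix.ProjectiveSpecialLinearGroup (Fin 2) F) :
    W0 H T ∧ WA H T ∧ (Nat.card T = 4 → Nonempty (H ≃* alternatingGroup (Fin 5))) := by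
  have h2 : (2 : F) = 0 := H64.SL2.two_eq_zero_of_even (hF ▸ dvd_pow_self 2 (by omega))
  have : CharP F 2 := (CharP.charP_iff_prime_eq_zero Nat.prime_two).2 (by simpa using h2)
  have hS : IsSylowIn 2 (H10.unitriSL (Fin 2) F) ⊤ := isSylowIn_top (H10.unitriSylowSL (Fin 2) F 2)
  obtain ⟨h0, ha⟩ := WFA.core h2 (hF ▸ Nat.pow_le_pow_right (n := 2) (by norm_num) hn) hS
  obtain ⟨θ, hθ, e1, e2⟩ := WFMap.exists_theta hT (e.trans (H64.SL2.projEquiv h2).symm) hS
  have hw := WFMap.w0_map hθ h0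
  have hw' := WFMap.wa_map hθ ha
  rw [e1, e2] at hw hw'
  refine ⟨hw, hw', fun h4 => ?_⟩
  rw [← e2, card_map_of_injective hθ, H10.card_unitriSL_two, Nat.card_eq_fintype_card] at h4
  obtain ⟨e'⟩ := Cfsg.Agent.S0252.result h4
  exact ⟨e.trans e'⟩

end H45.TS
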