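import Mathlib
import Cfsg.Agent.Lib.TS.BA
import Cfsg.Agent.Lib.TS.WFMap
import Cfsg.Agent.Lib.GW.TorAbs
import Cfsg.Agent.Lib.Walter.Struct
import Cfsg.Agent.Lib.GL.Simple
import Cfsg.Agent.S0276
import Cfsg.Agent.S0253

/-! Walter groups: `L₂(q)`, `q ≡ ±3 (mod 8)`.  See `blueprint/TS/README.md`. -/

set_option autoImplicit false
set_option linter.unusedSectionVars false

namespace H45.TS

open Subgroup MulAction Cfsg H69 H45 H81
open H81.TP (T2)

universe u v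

variable {G : Type u} [Group G] [Finite G] {Ω : Type v} [MulAction G Ω] [Finite Ω]
  {α β : Ω} {H T : Subgroup G}

local instance factWFB : Fact (Nat.Prime 2) := ⟨Nat.prime_two⟩

theorem WFB.core {F : Type} [Field F] [Fintype F] (h5 : 5 ≤ Fintype.card F)
    (h8 : Fintype.card F % 8 = 3 ∨ Fintype.card F % 8 = 5)
    (P : Sylow 2 (Matrix.ProjectiveSpecialLinearGroup (Fin 2) F)) :
    W0 ⊤ (P : Subgroup (Matrix.ProjectiveSpecialLinearGroup (Fin 2) F)) ∧
      Nat.card (P : Subgroup (Matrix.ProjectiveSpecialLinearGroup (Fin 2) F)) = 4 := by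
  have hK := Cfsg.Agent.S0276.result rfl h8 P
  have hs : IsSimpleGroup (Matrix.ProjectiveSpecialLinearGroup (Fin 2) F) :=
    H10.isSimpleGroup_PSL_fin 2 le_rfl fun _ => by rw [Nat.card_eq_fintype_card]; omega
  have hc := hK.card_four
  obtain ⟨a, ha, a1⟩ : ∃ a ∈ (P : Subgroup (Matrix.ProjectiveSpecialLinearGroup (Fin 2) F)),
      a ≠ 1 := by
    by_contra hn
    push Not at hn
    rw [(eq_bot_iff_forall _).2 hn, card_bot] at hc
    omega
  obtain ⟨b, f⟩ := H23.GW.four_of_isKleinFour hK ha a1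
  have b1 : b ≠ 1 := H44.Wal.ne_one_of_two f.hb
  have nab := WFMap.nab_top f.aa a1 b1 f.ne.symm
  have hS := isSylowIn_top P
  have sn : H44.Wal.SN (⊤ : Subgroup (Matrix.ProjectiveSpecialLinearGroup (Fin 2) F)) :=
    ⟨topEquiv.isSimpleGroup, nab⟩
  refine ⟨⟨topEquiv.isSimpleGroup, nab, hS, fun u hu => ?_, fun g _ hg => ?_,
    fun u hu u1 v hv v1 => ?_, hc.ge⟩, hc⟩
  · exact congrArg Subtype.val (IsKleinFour.mul_self (⟨u, hu⟩ : P))
  · obtain ⟨e2⟩ := IsKleinFour.nonempty_mulEquiv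
      (G₁ := (P : Subgroup (Matrix.ProjectiveSpecialLinearGroup (Fin 2) F))) (G₂ := DihedralGroup 2)
    obtain ⟨R, hR⟩ := H29.exists_tor (L := ⊤) (H29.D2.of_sylow_equiv P e2) topEquiv
      (eq_bot_iff.2 fun x hx => mem_bot.2 (sn.eq_one (mem_top x) hx))
      (H64.SL2.two_ne_zero_of_odd (Nat.odd_iff.2 (by omega)))
      (by rw [Nat.card_eq_fintype_card]; omega) f.ha
    have hg' := hg
    rw [f.cent] at hg'
    have g2 : g * g = 1 := by
      by_contra h1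
      have h2 := hR.inv ⟨mem_top b, mem_centralizer_singleton_iff.2 f.comm.symm⟩
        (fun e => f.ne (hR.invol f.ha (mem_top a) e f.hb).symm) (hR.mem_of_sq ⟨mem_top g, hg'.1⟩ h1)
      rw [← mem_centralizer_singleton_iff.1 hg'.2, mul_inv_cancel_right] at h2
      exact h1 (mul_eq_one_iff_eq_inv.2 h2)
    refine zpowers_le.1 (hS.le_of_le_normalizer' (isPGroup_iff_mem.2 fun x hx => ⟨1, ?_⟩) le_top
      (zpowers_le.2 (centralizer_le_normalizer _ hg)))
    obtain ⟨k, rfl⟩ := hx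
    change (g ^ k) ^ 2 ^ 1 = 1
    rw [pow_one, ← zpow_natCast, ← zpow_mul, mul_comm, zpow_mul, zpow_natCast, pow_two, g2, one_zpow]
  · obtain ⟨n, h1, h2, h3⟩ := H44.Wal.exists_not_cent hS sn.not_sol
    obtain ⟨g, hg, e⟩ := H44.Wal.four_trans f hS h1 h2 h3 u hu u1 v hv v1
    exact ⟨g, hg.1, hg.2, e⟩

theorem wfb (hT : IsSylowIn 2 T H) {F : Type} [Field F] [Fintype F] (h5 : 5 ≤ Fintype.card F)
    (h8 : Fintype.card F % 8 = 3 ∨ Fintype.card F % 8 = 5)
    (e : H ≃* Matrix.ProjectiveSpecialLinearGroup (Fin 2) F) :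
    W0 H T ∧ Nat.card T = 4 ∧ (Nonempty (H ≃* alternatingGroup (Fin 5)) ∨ WB H T) := by
  obtain ⟨P⟩ : Nonempty (Sylow 2 (Matrix.ProjectiveSpecialLinearGroup (Fin 2) F)) := inferInstance
  obtain ⟨h0, h4⟩ := WFB.core h5 h8 P
  obtain ⟨θ, hθ, e1, e2⟩ := WFMap.exists_theta hT e (isSylowIn_top P)
  have hw := WFMap.w0_map hθ h0
  rw [e1, e2] at hw
  have hc : Nat.card T = 4 := by rw [← e2, card_map_of_injective hθ, h4]
  refine ⟨hw, hc, ?_⟩
  by_cases hq : Fintype.card F = 5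
  · obtain ⟨e'⟩ := Cfsg.Agent.S0253.result hq
    exact .inl ⟨e.trans e'⟩
  · exact .inr ⟨hc, F, _, _, Nat.odd_iff.2 (by omega), by omega, ⟨e⟩⟩

end H45.TS
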