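import Mathlib
import Cfsg.Agent.Lib.TS.BA

/-! Hyperplanes of `T`.  See `blueprint/TS/README.md`. -/

set_option autoImplicit false
set_option linter.unusedSectionVars false

namespace H45.TS

open Subgroup MulAction Cfsg H69 H45 H81
open H81.TP (T2)

universe u v

variable {G : Type u} [Group G] [Finite G] {Ω : Type v} [MulAction G Ω] [Finite Ω]
  {α β : Ω} {H T : Subgroup G}

local instance factHY : Fact (Nat.Prime 2) := ⟨Nat.prime_two⟩

theorem HY.free (h0 : W0 H T) (hA : WA H T) {U : Subgroup G} (hU : U ≤ T) (h2 : U.relIndex T = 2)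
    {σ : G} (hσ : σ ∈ H) (n1 : σ ∈ 𝐍(T)) (n2 : σ ∈ 𝐍(U)) (o : Odd (orderOf σ)) : σ = 1 := by
  by_contra h1
  obtain ⟨p, hp, hd⟩ := Nat.exists_prime_and_dvd (mt orderOf_eq_one_iff.1 h1)
  have p2 : ¬ p ∣ 2 := fun e => by
    rw [(Nat.prime_dvd_prime_iff_eq hp Nat.prime_two).1 e] at hd
    exact (Nat.not_even_iff_odd.2 o) (even_iff_two_dvd.2 hd)
  haveI := Fact.mk hp
  have oτ := orderOf_pow_orderOf_div (orderOf_pos σ).ne' hd
  set τ := σ ^ (orderOf σ / p)
  have hc : (T : Set G).ncard = 2 * (U : Set G).ncard := by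
    have := (U.subgroupOf T).index_mul_card
    rw [show (U.subgroupOf T).index = 2 from h2, Nat.card_congr (subgroupOfEquivOfLe hU).toEquiv] at this
    exact this.symm
  obtain ⟨m, hm⟩ := IsPGroup.iff_card.1 (h0.two.to_le hU)
  obtain ⟨u, hu, e⟩ := TP.exists_fix_elt (p := p) (g := ConjAct.toConjAct τ)
    (by rw [← map_pow, ← oτ, pow_orderOf_eq_one, map_one]) (F := (T : Set G) \ U) (Set.toFinite _)
    (fun x hx => by
      rw [ConjAct.toConjAct_smul]
      exact ⟨conj_mem_of_mem_normalizer (pow_mem n1 _) hx.1,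
        fun h => hx.2 ((mem_normalizer_iff.1 (pow_mem n2 _) x).2 h)⟩)
    (by
      rw [Set.ncard_diff hU, hc, two_mul, Nat.add_sub_cancel, show (U : Set G).ncard = 2 ^ m from hm]
      exact fun e => p2 (hp.dvd_of_dvd_pow e))
  rw [ConjAct.toConjAct_smul, mul_inv_eq_iff_eq_mul] at e
  have := h0.sq τ (hA.cen u hu.1 (fun e => hu.2 (e ▸ U.one_mem)) τ (pow_mem hσ _) e)
  exact p2 (oτ ▸ orderOf_dvd_of_pow_eq_one (by rw [pow_two, this]))

theorem HY.card_le (T : Subgroup G) : Nat.card {W : Subgroup G // W ≤ T ∧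
    ∀ a ∈ T, ∀ b ∈ T, (a * b ∈ W ↔ (a ∈ W ↔ b ∈ W))} ≤ Nat.card T := by
  classical
  let χ : {W : Subgroup G // W ≤ T ∧ ∀ a ∈ T, ∀ b ∈ T, (a * b ∈ W ↔ (a ∈ W ↔ b ∈ W))} → (T →* ℚ) :=
    fun W =>
      { toFun := fun x => if x.1 ∈ W.1 then 1 else -1
        map_one' := if_pos W.1.one_mem
        map_mul' := fun a b => by
          have := W.2.2 a a.2 b b.2
          by_cases ha : a.1 ∈ W.1 <;> by_cases hb : b.1 ∈ W.1 <;> simp [this, ha, hb] }
  have hχ : Function.Injective χ := fun W W' e => Subtype.ext (Subgroup.ext fun x => by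
    by_cases hx : x ∈ T
    · have : (if x ∈ W.1 then (1 : ℚ) else -1) = if x ∈ W'.1 then 1 else -1 :=
        DFunLike.congr_fun e ⟨x, hx⟩
      by_cases ha : x ∈ W.1 <;> by_cases hb : x ∈ W'.1 <;> simp [ha, hb] at this ⊢ <;> norm_num at this
    · exact ⟨fun h => absurd (W.2.1 h) hx, fun h => absurd (W'.2.1 h) hx⟩)
  letI := Fintype.ofFinite {W : Subgroup G // W ≤ T ∧ ∀ a ∈ T, ∀ b ∈ T, (a * b ∈ W ↔ (a ∈ W ↔ b ∈ W))}
  letI := Fintype.ofFinite T
  have := ((linearIndependent_monoidHom T ℚ).comp χ hχ).fintype_card_le_finrank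
  rwa [Module.finrank_fintype_fun_eq_card, ← Nat.card_eq_fintype_card, ← Nat.card_eq_fintype_card] at this

theorem hyp_conj (h0 : W0 H T) (hA : WA H T) {U U' : Subgroup G} (hU : U ≤ T) (hU' : U' ≤ T)
    (h2 : U.relIndex T = 2) (h2' : U'.relIndex T = 2) : ∃ b ∈ H, b ∈ 𝐍(T) ∧ U ^ᶜ b = U' := by
  obtain ⟨ρ, hρ, nρ, oρ, -⟩ := hA.cyc
  have two : ∀ W : Subgroup G, W.relIndex T = 2 → ∀ a ∈ T, ∀ b ∈ T, (a * b ∈ W ↔ (a ∈ W ↔ b ∈ W)) :=
    fun W hW a ha b hb => mul_mem_iff_of_index_two (H := W.subgroupOf T) hW (a := ⟨a, ha⟩) (b := ⟨b, hb⟩)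
  have odd : Odd (orderOf ρ) := by
    obtain ⟨m, hm⟩ := IsPGroup.iff_card.1 h0.two
    have h4 := h0.four
    rw [hm] at h4 oρ
    have m0 : m ≠ 0 := by rintro rfl; simp at h4
    rw [← Nat.not_even_iff_odd, ← Nat.even_add_one, oρ]
    exact (Nat.even_pow' m0).2 even_two
  have nz : zpowers ρ ≤ 𝐍(T) := zpowers_le.2 nρ
  have hz : zpowers ρ ≤ H := zpowers_le.2 hρ
  have ne : ∀ W : Subgroup G, W.relIndex T = 2 → W ≠ T := fun W hW e => by
    rw [e, relIndex_self] at hW; omega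
  have idx : ∀ σ : zpowers ρ, (U ^ᶜ σ.1).relIndex T = 2 := fun σ => by
    conv_lhs => rw [← cj_eq_of_mem_normalizer (nz σ.2)]
    rw [relIndex_map_map_of_injective _ _ (MulAut.conj σ.1).injective, h2]
  let f : Option (zpowers ρ) → {W : Subgroup G // W ≤ T ∧
      ∀ a ∈ T, ∀ b ∈ T, (a * b ∈ W ↔ (a ∈ W ↔ b ∈ W))} := fun o =>
    o.elim ⟨T, le_rfl, fun a ha b hb => by simp [ha, hb, mul_mem ha hb]⟩
      fun σ => ⟨U ^ᶜ σ.1, cj_le_of_mem_normalizer hU (nz σ.2), two _ (idx σ)⟩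
  have hf : Function.Injective f := by
    rintro (_ | σ) (_ | τ) e
    · rfl
    · exact absurd (congrArg Subtype.val e).symm (ne _ (idx τ))
    · exact absurd (congrArg Subtype.val e) (ne _ (idx σ))
    · have e' : U ^ᶜ σ.1 = U ^ᶜ τ.1 := congrArg Subtype.val e
      rw [cj_eq_iff, cj_cj, eq_comm, cj_eq_self_iff] at e'
      have hm := mul_mem (inv_mem σ.2) τ.2
      have := HY.free h0 hA hU h2 (hz hm) (nz hm) e' (Odd.of_dvd_nat odd (orderOf_dvd_of_mem_zpowers hm))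
      rw [Subtype.ext (inv_mul_eq_one.1 this)]
  have hb := hf.bijective_of_nat_card_le (by
    rw [Finite.card_option, Nat.card_zpowers, oρ]; exact HY.card_le T)
  obtain ⟨_ | σ, e⟩ := hb.2 ⟨U', hU', two _ h2'⟩
  · exact absurd (congrArg Subtype.val e).symm (ne _ h2')
  · exact ⟨σ.1, hz σ.2, nz σ.2, congrArg Subtype.val e⟩

theorem relIndex_sup_zp (h0 : W0 H T) {U : Subgroup G} (hU : U ≤ T) {v : G} (hv : v ∈ T)
    (h1 : v ∉ U) : 2 * (U ⊔ zpowers v).relIndex T = U.relIndex T := by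
  rw [← relIndex_mul_relIndex U (U ⊔ zpowers v) T le_sup_left (sup_le hU (zpowers_le.2 hv))]
  congr 1
  refine (relIndex_eq_two_iff.2 ⟨v, mem_sup_right (mem_zpowers v), fun b hb => ?_⟩).symm
  have hn : zpowers v ≤ 𝐍(U) := le_normalizer_of_le_centralizer
    (zpowers_le.2 fun u hu => h0.comm (hU hu) hv)
  have v2 := h0.sq v hv
  have : b * v ∈ U ∨ b ∈ U := by
    obtain ⟨u, hu, _, ⟨k, rfl⟩, rfl⟩ := (mem_sup_of_le_normalizer_left hn).1 hb
    have e2 : ∀ j : ℤ, v ^ (2 * j) = 1 := fun j => by rw [zpow_mul, zpow_two, v2, one_zpow]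
    rcases Int.even_or_odd' k with ⟨j, rfl | rfl⟩
    · right; simpa [e2] using hu
    · left; simpa [zpow_add, e2, mul_assoc, v2] using hu
  rcases this with h | h
  · exact Or.inl ⟨h, fun h' => h1 ((U.mul_mem_cancel_left h').1 h)⟩
  · exact Or.inr ⟨h, fun h' => h1 ((U.mul_mem_cancel_left h).1 h')⟩

theorem exists_half (h0 : W0 H T) {U : Subgroup G} (hU : U ≤ T) (h1 : U ≠ ⊥) :
    ∃ V ≤ U, V.relIndex T = 2 * U.relIndex T := by
  obtain ⟨m, hm⟩ := IsPGroup.iff_card.1 (h0.two.to_le hU)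
  obtain _ | m := m
  · exact absurd (card_eq_one.1 hm) h1
  obtain ⟨K, hK⟩ := Sylow.exists_subgroup_card_pow_prime (G := U) 2 (n := m)
    (hm ▸ pow_dvd_pow 2 (Nat.le_succ m))
  refine ⟨K.map U.subtype, map_subtype_le K, ?_⟩
  rw [← relIndex_mul_relIndex _ U T (map_subtype_le K) hU]
  congr 1
  have := K.index_mul_card
  rw [hK, hm, pow_succ'] at this
  rw [relIndex, subgroupOf, comap_map_eq_self_of_injective U.subtype_injective]
  exact Nat.eq_of_mul_eq_mul_right (by positivity) this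

end H45.TS
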