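import Mathlib
import Cfsg.Agent.Lib.TS.BA
import Cfsg.Agent.Lib.H81.TP2
import Cfsg.Agent.Lib.ZD.BW

/-! The number of Sylow 2-subgroups of a group with Klein four Sylow 2-subgroups.  See `blueprint/TS/README.md`. -/

set_option autoImplicit false
set_option linter.unusedSectionVars false

namespace H45.TS

open Subgroup MulAction Cfsg H69 H45 H81
open H81.TP (T2)

universe u v

variable {G : Type u} [Group G] [Finite G] {Ω : Type v} [MulAction G Ω] [Finite Ω]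
  {α β : Ω} {H T : Subgroup G}

local instance factVK1 : Fact (Nat.Prime 2) := ⟨Nat.prime_two⟩

namespace VK1

theorem fiber {X K : Subgroup G} {g : G} (P : G → Prop) (hP : ∀ x ∈ X, P x ↔ g⁻¹ * x ∈ K)
    (hg : g ∈ X) : {x | x ∈ (X : Set G) ∧ P x}.ncard = Nat.card (X ⊓ K : Subgroup G) := by
  rw [← SetLike.coe_sort_coe, Nat.card_coe_set_eq]
  refine Set.ncard_congr (fun x _ => g⁻¹ * x)
    (fun x hx => ⟨X.mul_mem (X.inv_mem hg) hx.1, (hP x hx.1).1 hx.2⟩)
    (fun a b _ _ e => mul_left_cancel e) fun y hy => ⟨g * y, ⟨X.mul_mem hg hy.1,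
      (hP _ (X.mul_mem hg hy.1)).2 (by rw [inv_mul_cancel_left]; exact hy.2)⟩, by group⟩

theorem count {X : Subgroup G} (hT : IsSylowIn 2 T X) :
    Nat.card X = {S | IsSylowIn 2 S X}.ncard * Nat.card (X ⊓ 𝐍(T) : Subgroup G) := by
  have := TP.ncard_bip (s := (X : Set G)) (t := {S | IsSylowIn 2 S X}) (Set.toFinite _)
    (Set.toFinite _) (fun g S => T ^ᶜ g = S) (m := 1) (n := Nat.card (X ⊓ 𝐍(T) : Subgroup G))
    (fun g hg => Set.ncard_eq_one.2 ⟨T ^ᶜ g, Set.eq_singleton_iff_unique_mem.2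
      ⟨⟨hT.cj_of_mem hg, rfl⟩, fun S hS => hS.2.symm⟩⟩) fun S hS => by
      obtain ⟨g, hg, rfl⟩ := hT.conj hS
      refine fiber _ (fun x _ => ?_) hg
      rw [← cj_eq_self_iff, ← cj_cj, cj_eq_iff (g := g⁻¹), inv_inv]
  rwa [mul_one, ← Nat.card_coe_set_eq] at this

theorem card_inf {K X : Subgroup G} :
    Nat.card X = K.relIndex X * Nat.card (K ⊓ X : Subgroup G) := by
  rw [← (K.subgroupOf X).index_mul_card, ← inf_subgroupOf_right, card_subgroupOf inf_le_right,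
    inf_subgroupOf_right]
  rfl

theorem pair (sq : ∀ u ∈ T, u * u = 1) {a b : G} (ha : a ∈ T) (hb : b ∈ T) (a1 : a ≠ 1)
    (b1 : b ≠ 1) (ab : a ≠ b) : H29.IsPair a b :=
  ⟨sq a ha, a1, sq b hb, b1, ab, by
    have := sq _ (T.mul_mem ha hb)
    rw [← mul_left_inj (b * a), show a * b * (b * a) = a * (b * b) * a by group, sq b hb, mul_one,
      sq a ha, show b * a * (b * a) = (a * b * (a * b))⁻¹ by
        simp only [mul_inv_rev, inv_eq_of_mul_eq_one_left (sq a ha),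
          inv_eq_of_mul_eq_one_left (sq b hb), mul_assoc], this, inv_one]⟩

theorem mem4 (h4 : Nat.card T = 4) {a b : G} (ha : a ∈ T) (hb : b ∈ T) (hp : H29.IsPair a b)
    {u : G} (hu : u ∈ T) : u = 1 ∨ u = a ∨ u = b ∨ u = a * b := by
  have : closure ({a, b} : Set G) = T := eq_of_le_of_card_ge
    ((closure_le _).2 (by rintro x (rfl | rfl) <;> assumption))
    (by rw [h4, hp.isKleinFour.card_four])
  exact hp.mem_closure.1 (this ▸ hu)

theorem exists_b (h4 : Nat.card T = 4) {a : G} (a2 : a * a = 1) (a1 : a ≠ 1) :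
    ∃ b ∈ T, b ≠ 1 ∧ a ≠ b := by
  by_contra h
  push Not at h
  have : T ≤ zpowers a := fun b hb => by
    by_cases e : b = 1
    · exact e ▸ one_mem _
    · exact h b hb e ▸ mem_zpowers a
  have := card_le_of_le this
  rw [Nat.card_zpowers, TP.orderOf_two a2 a1] at this
  omega

theorem cent_eq (h4 : Nat.card T = 4) {a b : G} (ha : a ∈ T) (hb : b ∈ T) (hp : H29.IsPair a b) :
    (𝐂[a] ⊓ 𝐂[b] : Subgroup G) = 𝐂(T) := by
  ext g
  rw [mem_inf, mem_centralizer_singleton_iff, mem_centralizer_singleton_iff,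
    mem_centralizer_iff_commute]
  refine ⟨fun h u hu => ?_, fun h => ⟨(h a ha).symm, (h b hb).symm⟩⟩
  rcases mem4 h4 ha hb hp hu with rfl | rfl | rfl | rfl
  exacts [by simp, h.1.symm, h.2.symm, by rw [mul_assoc, ← h.2, ← mul_assoc, ← h.1, mul_assoc]]

theorem comm (sq : ∀ u ∈ T, u * u = 1) : T ≤ 𝐂(T) := fun a ha =>
  mem_centralizer_iff_commute.2 fun b hb => by
    by_cases a1 : a = 1
    · simp [a1]
    by_cases b1 : b = 1
    · simp [b1]
    by_cases ab : a = b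
    · rw [ab]
    exact (pair sq ha hb a1 b1 ab).comm.symm

theorem inf_norm (hT : IsSylowIn 2 T ⊤) (h4 : Nat.card T = 4) (sq : ∀ u ∈ T, u * u = 1) {a : G}
    (ha : a ∈ T) (a1 : a ≠ 1) : (𝐂[a] ⊓ 𝐍(T) : Subgroup G) = 𝐂(T) := by
  have hCN : 𝐂(T) ≤ 𝐍(T) := le_normalizer_of_le_centralizer le_rfl
  obtain ⟨b, hb, b1, ab⟩ := exists_b h4 (sq a ha) a1
  have hp := pair sq ha hb a1 b1 ab
  refine le_antisymm (fun g hg => ?_) (le_inf ((cent_eq h4 ha hb hp).ge.trans inf_le_left) hCN)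
  have ga : g * a * g⁻¹ = a := mul_inv_eq_iff_eq_mul.2 (mem_centralizer_singleton_iff.1 hg.1)
  rcases mem4 h4 ha hb hp (conj_mem_of_mem_normalizer hg.2 hb) with e | e | e | e
  · exact absurd (conj_eq_one_iff.1 e) b1
  · exact absurd ((MulAut.conj g).injective (ga.trans e.symm)) ab
  · exact (cent_eq h4 ha hb hp).le
      ⟨hg.1, mem_centralizer_singleton_iff.2 (mul_inv_eq_iff_eq_mul.1 e)⟩
  have g2 : g * g ∈ 𝐂(T) := (cent_eq h4 ha hb hp).le ⟨mul_mem hg.1 hg.1,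
    mem_centralizer_singleton_iff.2 (mul_inv_eq_iff_eq_mul.1 (by
      rw [show g * g * b * (g * g)⁻¹ = g * (g * b * g⁻¹) * g⁻¹ by group, e, ← conj_mul, ga, e,
        ← mul_assoc, sq a ha, one_mul]))⟩
  have : (𝐂(T).subgroupOf 𝐍(T)).Normal := (normal_subgroupOf_iff_le_normalizer hCN).2
    (normalizer_le_normalizer_centralizer T)
  have h1 : g ^ 𝐂(T).relIndex 𝐍(T) ∈ 𝐂(T) :=
    (𝐂(T).subgroupOf 𝐍(T)).pow_index_mem (⟨g, hg.2⟩ : 𝐍(T))
  obtain ⟨m, hm⟩ := Nat.odd_iff.2 (Nat.two_dvd_ne_zero.1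
    ((hT.mono le_normalizer le_top).not_dvd_relIndex_of_le (comm sq) hCN))
  rw [hm, pow_succ, pow_mul, pow_two] at h1
  exact (mul_mem_cancel_left (pow_mem g2 m)).1 h1

theorem sylO (hT : IsSylowIn 2 T ⊤) (sq : ∀ u ∈ T, u * u = 1) {a : G} (ha : a ∈ T) :
    SylO ⊤ (zpowers a) = {S | IsSylowIn 2 S 𝐂[a]} := by
  have hC : T ≤ 𝐂[a] := fun u hu => mem_centralizer_singleton_iff.2 (comm sq hu a ha).symm
  ext S
  refine ⟨fun ⟨h1, h2⟩ => h1.mono (fun u hu => ?_) le_top, fun h => ?_⟩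
  · obtain ⟨g, -, rfl⟩ := hT.conj h1
    have := cj_mono g (comm sq) hu
    rw [cj_centralizer] at this
    exact mem_centralizer_singleton_iff.2 (this a (h2 (mem_zpowers a))).symm
  · obtain ⟨g, hg, rfl⟩ := (hT.mono hC le_top).conj h
    refine ⟨hT.cj_of_mem trivial, zpowers_le.2 (mem_cj.2 ?_)⟩
    rwa [mul_assoc, ← mem_centralizer_singleton_iff.1 hg, inv_mul_cancel_left]

end VK1

open VK1 in
theorem vk1 (hT : IsSylowIn 2 T ⊤) (h4 : Nat.card T = 4) (sq : ∀ u ∈ T, u * u = 1) {k : ℕ}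
    (hk : ∀ v ∈ T, v ≠ 1 → (SylO ⊤ (zpowers v)).ncard = k) :
    k ^ 3 ≤ (SylO (⊤ : Subgroup G) ⊥).ncard := by
  have hC : ∀ v ∈ T, v ≠ 1 → Nat.card (𝐂[v] : Subgroup G) = k * Nat.card 𝐂(T) := fun v hv v1 => by
    rw [count (hT.mono (L := ⊤) (K := 𝐂[v]) (fun u hu => mem_centralizer_singleton_iff.2
      (comm sq hu v hv).symm) le_top), ← sylO hT sq hv, hk v hv v1, inf_norm hT h4 sq hv v1]
  have hG := count hT
  rw [top_inf_eq, card_top, show {S | IsSylowIn 2 S (⊤ : Subgroup G)} = SylO ⊤ ⊥ from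
    Set.ext fun S => ⟨fun h => ⟨h, bot_le⟩, fun h => h.1⟩] at hG
  generalize (SylO (⊤ : Subgroup G) ⊥).ncard = n at hG ⊢
  obtain ⟨a, ha, a1⟩ : ∃ a ∈ T, a ≠ 1 := by
    by_contra h
    push Not at h
    rw [(eq_bot_iff_forall T).2 h, card_bot] at h4
    omega
  have hodd : Odd T.index := by
    have := hT.not_dvd_relIndex
    rw [relIndex_top_right] at this
    exact Nat.odd_iff.2 (Nat.two_dvd_ne_zero.1 this)
  have hCN : 𝐂(T) ≤ 𝐍(T) := le_normalizer_of_le_centralizer le_rfl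
  have hpos : 0 < Nat.card 𝐂(T) := Nat.card_pos
  by_cases hN : 𝐍(T) ≤ 𝐂(T)
  · obtain ⟨b, hb, b1, ab⟩ := exists_b h4 (sq a ha) a1
    have hp := pair sq ha hb a1 b1 ab
    obtain ⟨P, rfl⟩ := hT.exists_sylow_top
    have hc := MonoidHom.ker_transferSylow_isComplement' P hN
    generalize hO : (MonoidHom.transferSylow P hN).ker = O at hc
    have : O.Normal := hO ▸ inferInstance
    have hX : ∀ X : Subgroup G, (P : Subgroup G) ≤ X →
        Nat.card X = 4 * Nat.card (O ⊓ X : Subgroup G) := fun X hX => by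
      rw [card_inf (K := O), ← relIndex_sup_left, top_le_iff.1 (hc.sup_eq_top.ge.trans
        (sup_le_sup_left hX O)), relIndex_top_right, hc.symm.index_eq_card, h4]
    have hn : ∀ x, x ∈ 𝐍(O) := fun x => normal_iff_top_le_normalizer.1 this trivial
    have h := H24.ZD.card_four (X := O) hp.sq₁ hp.sq₂ hp.comm a1 b1 ab
      (hc.index_eq_card ▸ hodd) (hn a) (hn b)
    have hv : ∀ v ∈ (P : Subgroup G), v ≠ 1 → Nat.card (O ⊓ 𝐂[v] : Subgroup G) =
        k * Nat.card (O ⊓ 𝐂((P : Subgroup G)) : Subgroup G) := fun v hv v1 => by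
      have := hC v hv v1
      rw [hX _ (fun u hu => mem_centralizer_singleton_iff.2 (comm sq hu v hv).symm),
        hX _ (comm sq)] at this
      linarith
    have hO' : Nat.card O = n * Nat.card (O ⊓ 𝐂((P : Subgroup G)) : Subgroup G) := by
      have := hX ⊤ le_top
      rw [card_top, inf_top_eq, hG, le_antisymm hN hCN, hX _ (comm sq)] at this
      linarith
    rw [inf_assoc, cent_eq h4 ha hb hp, hv a ha a1, hv b hb b1, hv _ (mul_mem ha hb) hp.rot.ne₂,
      hO'] at h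
    have hc0 : 0 < Nat.card (O ⊓ 𝐂((P : Subgroup G)) : Subgroup G) := Nat.card_pos
    generalize Nat.card (O ⊓ 𝐂((P : Subgroup G)) : Subgroup G) = c at h hc0
    exact le_of_eq (Nat.eq_of_mul_eq_mul_right (show 0 < c ^ 3 by positivity) (by linarith))
  obtain ⟨y, hy, hy'⟩ := SetLike.not_le_iff_exists.1 hN
  have hb := conj_mem_of_mem_normalizer hy ha
  have hp := pair sq ha hb a1 (mt conj_eq_one_iff.1 a1) fun e => hy' (inf_norm hT h4 sq ha a1 ▸
    ⟨mem_centralizer_singleton_iff.2 (mul_inv_eq_iff_eq_mul.1 e.symm), hy⟩)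
  have h3 : Nat.card 𝐍(T) ≤ 3 * Nat.card 𝐂(T) := by
    have := TP.ncard_bip (s := (𝐍(T) : Set G)) (t := {u | ∃ g ∈ 𝐍(T), g * a * g⁻¹ = u})
      (Set.toFinite _) (Set.toFinite _) (fun g u => g * a * g⁻¹ = u) (m := 1)
      (n := Nat.card 𝐂(T)) (fun g hg => Set.ncard_eq_one.2 ⟨g * a * g⁻¹,
        Set.eq_singleton_iff_unique_mem.2 ⟨⟨⟨g, hg, rfl⟩, rfl⟩, fun S hS => hS.2.symm⟩⟩) (by
      rintro _ ⟨g, hg, rfl⟩
      rw [← inf_norm hT h4 sq ha a1, inf_comm]
      refine fiber _ (fun x _ => ?_) hg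
      rw [mem_centralizer_singleton_iff]
      constructor
      · intro e
        rw [mul_assoc, show x * a = g * a * g⁻¹ * x by rw [← e]; group]; group
      · intro e
        rw [show x * a * x⁻¹ = g * (g⁻¹ * x * a) * x⁻¹ by group, e]; group)
    rw [mul_one, ← Nat.card_coe_set_eq] at this
    refine this.le.trans (Nat.mul_le_mul_right _ ((Set.ncard_le_ncard
      (t := {a, y * a * y⁻¹, a * (y * a * y⁻¹)}) ?_).trans ((Set.ncard_insert_le _ _).trans
      (Nat.succ_le_succ ((Set.ncard_insert_le _ _).trans (by simp))))))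
    rintro _ ⟨g, hg, rfl⟩
    exact (mem4 h4 ha hb hp (conj_mem_of_mem_normalizer hg ha)).resolve_left
      (mt conj_eq_one_iff.1 a1)
  have hA := TP.klein_aux hp rfl hodd (by rw [← h4, T.card_mul_index])
    (𝐂[a] : Subgroup G).index_mul_card.symm (k := k) (by rw [cent_eq h4 ha hb hp, hC a ha a1])
  have hA' := (𝐂[a] : Subgroup G).index_mul_card
  rw [hC a ha a1, hG] at hA'
  generalize (𝐂[a] : Subgroup G).index = A at hA hA'
  have h5 : 3 * k ^ 2 ≤ A := by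
    rcases hA with ⟨h, -⟩ | ⟨m, m0, ⟨d, rfl⟩, h⟩
    · omega
    rcases d with _ | _ | d
    · simp
    · nlinarith
    · nlinarith [Nat.zero_le (m * m * d), Nat.zero_le (m * m * d * d)]
  have h6 : A * k ≤ n * 3 := Nat.le_of_mul_le_mul_right (by
    rw [mul_assoc, hA', mul_assoc]; exact Nat.mul_le_mul_left _ h3) hpos
  nlinarith [Nat.mul_le_mul_right k h5]

end H45.TS
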