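import Mathlib
import Cfsg.Agent.Lib.TS.VK1

/-! The same modulo a central subgroup.  See `blueprint/TS/README.md`. -/

set_option autoImplicit false
set_option linter.unusedSectionVars false

namespace H45.TS

open Subgroup MulAction Cfsg H69 H45 H81
open H81.TP (T2)

universe u v

variable {G : Type u} [Group G] [Finite G] {Ω : Type v} [MulAction G Ω] [Finite Ω]
  {α β : Ω} {H T : Subgroup G}

local instance factVK2 : Fact (Nat.Prime 2) := ⟨Nat.prime_two⟩

theorem vk2 {M U : Subgroup G} (hT : IsSylowIn 2 T M) (sq : ∀ u ∈ T, u * u = 1) (hU : U ≤ T)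
    (h4 : U.relIndex T = 4) {k : ℕ}
    (hk : ∀ v ∈ T, v ∉ U → (SylO M (U ⊔ zpowers v)).ncard = k) : k ^ 3 ≤ (SylO M U).ncard := by
  have ab : ∀ S : Subgroup G, (∀ u ∈ S, u * u = 1) → U ≤ S → S ≤ 𝐂(U) := fun S h hS a ha b hb => by
    have hb' := hS hb
    rw [← inv_eq_of_mul_eq_one_right (h _ (mul_mem hb' ha)), mul_inv_rev,
      inv_eq_of_mul_eq_one_right (h a ha), inv_eq_of_mul_eq_one_right (h b hb')]
  set X := M ⊓ 𝐂(U) with hX
  have TX : T ≤ X := le_inf hT.le (ab T sq hU)
  have UX : U ≤ X := hU.trans TX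
  have hTX := hT.mono TX inf_le_left
  haveI hN : (U.subgroupOf X).Normal := ⟨fun n hn g => by
    have : g * n * g⁻¹ = n := Subtype.ext (conj_eq_of_mem_centralizer g.2.2 hn)
    rwa [this]⟩
  set π := QuotientGroup.mk' (U.subgroupOf X) with hπ
  have πs : Function.Surjective π := QuotientGroup.mk'_surjective _
  have πk : π.ker = U.subgroupOf X := QuotientGroup.ker_mk' _
  let Φ : Subgroup (X ⧸ U.subgroupOf X) → Subgroup G := fun S => (S.comap π).map X.subtype
  have Φi : Function.Injective Φ := fun S S' e =>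
    comap_injective πs (map_injective X.subtype_injective e)
  have Φm : ∀ S : Subgroup G, U ≤ S → S ≤ X → Φ ((S.subgroupOf X).map π) = S := fun S h1 h2 => by
    simp only [Φ]
    have : U.subgroupOf X ≤ S.subgroupOf X := comap_mono h1
    rw [comap_map_eq, πk, sup_eq_left.2 this, map_subgroupOf_eq_of_le h2]
  have Φ0 : Φ ⊥ = U := by
    simp only [Φ]
    rw [MonoidHom.comap_bot, πk, map_subgroupOf_eq_of_le UX]
  have mono : ∀ {S S'}, S ≤ S' → Φ S ≤ Φ S' := fun h => map_mono (comap_mono h)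
  have down : ∀ S : Subgroup G, IsSylowIn 2 S X → IsSylowIn 2 ((S.subgroupOf X).map π) ⊤ := fun S h => by
    have := h.subgroupOf_top.map π
    rwa [map_top_of_surjective _ πs] at this
  have key : ∀ W, (SylO M (Φ W)).ncard = (SylO ⊤ W).ncard := by
    intro W
    rw [← Set.ncard_image_of_injective _ Φi]
    congr 1
    ext S
    constructor
    · rintro ⟨h1, h2⟩
      have US : U ≤ S := Φ0 ▸ (mono bot_le).trans h2
      obtain ⟨g, -, rfl⟩ := hT.conj h1
      have SX : T ^ᶜ g ≤ X := le_inf h1.le (ab _ (fun u hu => by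
        obtain ⟨a, ha, rfl⟩ := mem_cj'.1 hu
        rw [conj_mul, sq a ha, mul_one, mul_inv_cancel]) US)
      refine ⟨_, ⟨down _ (h1.mono SX inf_le_left), ?_⟩, Φm _ US SX⟩
      rw [← map_comap_eq_self_of_surjective πs W]
      exact map_mono (map_le_iff_le_comap.1 h2)
    · rintro ⟨S, ⟨h1, h2⟩, rfl⟩
      have p1 : IsPGroup 2 (S.comap π) :=
        h1.isP.comap_of_ker_isPGroup π (by rw [πk]; exact (hT.isP.to_le hU).comap_subtype)
      have s1 : IsSylowIn 2 (S.comap π) ⊤ := ⟨le_top, p1, fun R r1 _ r3 => le_antisymm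
        (map_le_iff_le_comap.1 (h1.max _ (by
          rw [← map_comap_eq_self_of_surjective πs S]; exact map_mono r1) le_top (r3.map π)).le) r1⟩
      have s2 := s1.map_subtype
      rw [← MonoidHom.range_eq_map, range_subtype] at s2
      exact ⟨hT.of_card_le s2.isP (s2.le.trans inf_le_left) (hTX.card_eq s2).le, mono h2⟩
  rw [← Φ0, key]
  refine vk1 (down T hTX) ?_ ?_ ?_
  · rw [← relIndex_ker, πk, relIndex_subgroupOf TX, h4]
  · rintro _ ⟨u, hu, rfl⟩
    rw [← map_mul, show u * u = 1 from Subtype.ext (sq _ hu), map_one]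
  · rintro _ ⟨u, hu, rfl⟩ h1
    rw [← key, ← hk u hu fun e => h1 ((QuotientGroup.eq_one_iff u).2 e)]
    congr 2
    simp only [Φ]
    rw [← MonoidHom.map_zpowers, comap_map_eq, πk, Subgroup.map_sup, map_subgroupOf_eq_of_le UX,
      MonoidHom.map_zpowers, sup_comm]
    rfl

end H45.TS
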