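import Mathlib
import Cfsg.Agent.Lib.TS.A0
import Cfsg.Agent.Lib.TS.VK2
import Cfsg.Agent.Lib.TS.HY

/-! Inner case, `z ≁ t`, even degree, type `L₂(2^m)`: hyperplanes.  See `blueprint/TS/README.md`. -/

set_option autoImplicit false
set_option linter.unusedSectionVars false

namespace H45.TS

open Subgroup MulAction Cfsg H69 H45 H81
open H81.TP (T2)

universe u v

variable {G : Type u} [Group G] [Finite G] {Ω : Type v} [MulAction G Ω] [Finite Ω]
  {α β : Ω} {H T : Subgroup G}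

local instance factA2 : Fact (Nat.Prime 2) := ⟨Nat.prime_two⟩

theorem J1.hyp {t z : G} (h : J1 α β T t z) (hA : WA (H2 G α β) T) (h8 : 8 ≤ Nat.card T)
    (he : Even (Nat.card Ω)) {U : Subgroup G} (hU : U ≤ T) (h2 : U.relIndex T = 2) :
    FS Ω U = FS Ω T := by
  by_contra hne
  have w := h.w
  have hle : ∀ {W : Subgroup G} {v : G}, W ≤ T → v ∈ T → W ⊔ zpowers v ≤ T := fun hW hv =>
    sup_le hW (zpowers_le.2 hv)
  have hbot : ∀ {W : Subgroup G}, W.relIndex T ≤ 4 → W ≠ ⊥ := fun hW e => by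
    rw [e, relIndex_bot_left] at hW
    omega
  have hsq : (FS Ω U).ncard = (FS Ω T).ncard ^ 2 :=
    h.max_sq hA he hU (hbot (by omega)) hne fun v hv hvU => by
      have h3 := relIndex_sup_zp w hU hv hvU
      rw [le_antisymm (hle hU hv) (relIndex_eq_one.1 (by omega))]
  have hall : ∀ {W : Subgroup G}, W ≤ T → W.relIndex T = 2 →
      (FS Ω W).ncard = (FS Ω T).ncard ^ 2 := fun hW hW2 => by
    obtain ⟨b, -, -, rfl⟩ := hyp_conj w hA hU hW h2 hW2
    rw [ncard_FS_cj, hsq]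
  obtain ⟨V, hVU, hV4⟩ := exists_half w hU (hbot (by omega))
  rw [h2] at hV4
  have hV := hVU.trans hU
  have hidx : ∀ v ∈ T, v ∉ V → (V ⊔ zpowers v).relIndex T = 2 := fun v hv hvV => by
    have h3 := relIndex_sup_zp w hV hv hvV
    omega
  obtain ⟨a, ha⟩ : ∃ a, (FS Ω T).ncard = a + 2 := ⟨_, (Nat.sub_add_cancel h.toCf.two_le_f).symm⟩
  have hk : ∀ v ∈ T, v ∉ V → (SylO (stabilizer G α) (V ⊔ zpowers v)).ncard = a + 3 :=
    fun v hv hvV => by
      have h3 := h.toCf.part hA he (hle hV hv) (hbot (by rw [hidx v hv hvV]; omega))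
      rw [hall (hle hV hv) (hidx v hv hvV), ha, show a + 2 - 1 = a + 1 from rfl] at h3
      refine Nat.eq_of_mul_eq_mul_left (Nat.succ_pos a) ?_
      rw [Nat.succ_eq_add_one]
      nlinarith
  have h4 := vk2 (h.toCf.syl_stab he) w.sq hV hV4 hk
  have h5 := h.toCf.part hA he hV (hbot (by omega))
  obtain ⟨v, hv, hvV⟩ : ∃ v ∈ T, v ∉ V := by
    by_contra hcon
    have : V.relIndex T = 1 := relIndex_eq_one.2 fun v hv => by
      by_contra h3
      exact hcon ⟨v, hv, h3⟩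
    omega
  have h6 := h.rc3 he hV hv (m := (a + 2) ^ 2) fun x hx hα => by
    rcases Set.eq_empty_or_nonempty {y | y ∈ FS Ω V ∧ (v * x) • y = y} with e | e
    · rw [e, Set.ncard_empty]
      exact Nat.zero_le _
    · obtain ⟨v', hv', h7, h8⟩ := h.term he hV hv hx hα e
      have h9 : v' ∉ V := fun h' => h7 (by rw [sup_eq_left.2 (zpowers_le.2 h')])
      rw [h8, hall (hle hV hv') (hidx v' hv' h9), ha]
  rw [hall (hle hV hv) (hidx v hv hvV), h5, ha, show a + 2 - 1 = a + 1 from rfl,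
    show (a + 2) ^ 2 - 1 = (a + 1) * (a + 3) from Nat.sub_eq_of_eq_add (by ring)] at h6
  have h7 := Nat.mul_le_mul_left (a + 1) h4
  nlinarith [Nat.zero_le (a ^ 3), Nat.zero_le (a ^ 2), Nat.zero_le a]

end H45.TS
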