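import Mathlib
import Cfsg.Agent.Lib.TS.BB
import Cfsg.Agent.Lib.Wielandt.FixPoint
import Cfsg.Agent.Lib.Inv73.ZStar

/-! The inner / outer dichotomy.  See `blueprint/TS/README.md`. -/

set_option autoImplicit false
set_option linter.unusedSectionVars false

namespace H45.TS

open Subgroup MulAction Cfsg H69 H45 H81
open H81.TP (T2)

universe u v

variable {G : Type u} [Group G] [Finite G] {Ω : Type v} [MulAction G Ω] [Finite Ω]
  {α β : Ω} {H T : Subgroup G}

local instance factDI : Fact (Nat.Prime 2) := ⟨Nat.prime_two⟩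

namespace DI

theorem fixed (h : W0 H T) {x : G} (hx : x ∈ 𝐂(T))
    (hb : ∀ b ∈ H ⊓ 𝐍(T), x⁻¹ * (b * x * b⁻¹) ∈ T) :
    ∃ u ∈ T, ∀ b ∈ H ⊓ 𝐍(T), b * (x * u) * b⁻¹ = x * u := by
  have hB : H ⊓ 𝐍(T) ≤ 𝐍(𝐂(T)) := inf_le_right.trans (normalizer_le_normalizer_centralizer T)
  let ψ : (H ⊓ 𝐍(T) : Subgroup G) →* MulAut 𝐂(T) :=
    (𝐂(T)).normalizerMonoidHom.comp (inclusion hB)
  have hψ : ∀ (b : (H ⊓ 𝐍(T) : Subgroup G)) (c : 𝐂(T)), (ψ b c : G) = b * c * (b : G)⁻¹ :=
    fun b c => rfl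
  have hT : T ≤ H ⊓ 𝐍(T) := le_inf h.le le_normalizer
  have hk : T.subgroupOf (H ⊓ 𝐍(T)) ≤ ψ.ker := fun b hb => by
    rw [MonoidHom.mem_ker]
    ext c
    rw [hψ, mem_centralizer_iff_commute.1 c.2 b (mem_subgroupOf.1 hb)]
    simp
  have ho : ¬ 2 ∣ Nat.card ψ.range := fun e => (h.syl.mono hT inf_le_left).not_dvd_relIndex
    (e.trans (by rw [← index_ker]; exact index_dvd_of_le hk))
  obtain ⟨n, hn⟩ := IsPGroup.iff_card.1 (isPGroup_subgroupOf h.two 𝐂(T))
  obtain ⟨u, hu, e⟩ := H53.Wielandt.exists_fixed_in_coset ψ.range.subtype (T.subgroupOf 𝐂(T))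
    (by
      rintro ⟨_, b, rfl⟩ c hc
      exact conj_mem_of_mem_normalizer b.2.2 (mem_subgroupOf.1 hc))
    (fun a b => Subtype.ext (Subtype.ext (h.comm a.2 b.2))) ⊤
    (by
      rw [card_top, hn]
      exact ((Nat.Prime.coprime_iff_not_dvd Nat.prime_two).2 ho).symm.pow_right n)
    ⟨x, hx⟩ (by rintro ⟨_, b, rfl⟩ -; exact hb b b.2)
  exact ⟨u, hu, fun b hb => congrArg Subtype.val (e ⟨_, ⟨b, hb⟩, rfl⟩ trivial)⟩

/-- the stabiliser of the pair -/
def pair (G : Type u) [Group G] {Ω : Type v} [MulAction G Ω] (α β : Ω) : Subgroup G where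
  carrier := {g | (g • α = α ∧ g • β = β) ∨ (g • α = β ∧ g • β = α)}
  one_mem' := Or.inl ⟨one_smul _ _, one_smul _ _⟩
  mul_mem' := by
    rintro a b (⟨a1, a2⟩ | ⟨a1, a2⟩) (⟨b1, b2⟩ | ⟨b1, b2⟩) <;>
      simp [mul_smul, a1, a2, b1, b2]
  inv_mem' := by
    rintro a (⟨a1, a2⟩ | ⟨a1, a2⟩)
    · exact Or.inl ⟨inv_smul_eq_iff.2 a1.symm, inv_smul_eq_iff.2 a2.symm⟩
    · exact Or.inr ⟨inv_smul_eq_iff.2 a2.symm, inv_smul_eq_iff.2 a1.symm⟩

theorem eqns : True := by
  have := @pair.eq_1.{0, 0}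
  trivial

end DI

theorem Cf.inner (h : Cf α β T) {x : G} (xa : x • α = β) (xb : x • β = α) (hx : x ∈ 𝐂(T)) :
    ∃ z : G, In α β z := by
  have xa' : x⁻¹ • α = β := inv_smul_eq_iff.2 xb.symm
  have xb' : x⁻¹ • β = α := inv_smul_eq_iff.2 xa.symm
  obtain ⟨u, hu, fx⟩ := DI.fixed h.w hx fun b hb => h.w.cent _
    (by
      have b1 : b⁻¹ • α = α := (inv_mem (mem_inf.1 hb).1).1
      have b2 : b⁻¹ • β = β := (inv_mem (mem_inf.1 hb).1).2
      have b3 : b • α = α := hb.1.1
      have b4 : b • β = β := hb.1.2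
      rw [mem_H2]
      simp only [mul_smul, b1, b2, b3, b4, xa, xb, xa', xb', and_self])
    (mul_mem (inv_mem hx) (conj_mem_of_mem_normalizer
      (normalizer_le_normalizer_centralizer T hb.2) hx))
  set y := x * u with hy
  have ya : y • α = β := by rw [hy, mul_smul, h.fixa hu, xa]
  have yb : y • β = α := by rw [hy, mul_smul, h.fixb hu, xb]
  have yC : y ∈ 𝐂(T) := mul_mem hx (h.w.le_cent hu)
  clear_value y
  have yyT : y * y ∈ T := h.w.cent _ (by rw [mem_H2]; simp only [mul_smul, ya, yb, and_self])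
    (mul_mem yC yC)
  have y2 : y * y = 1 := by
    by_contra k
    obtain ⟨v, hv, v1, vt⟩ := h.w.exists_ne' (y * y)
    obtain ⟨b, bH, bT, e⟩ := h.w.tr _ yyT k v hv v1
    apply vt
    rw [← e]
    calc b * (y * y) * b⁻¹ = b * y * b⁻¹ * (b * y * b⁻¹) := by group
      _ = _ := by rw [fx b ⟨bH, bT⟩]
  have y1 : y ≠ 1 := fun e => h.ne (by rw [← ya, e, one_smul])
  have iso : ∀ g ∈ H2 G α β, g * y * g⁻¹ * y = y * (g * y * g⁻¹) → g * y * g⁻¹ = y :=
    fun g hg hc => by
      have g1 : g⁻¹ • α = α := (inv_mem hg).1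
      have g2 : g⁻¹ • β = β := (inv_mem hg).2
      have g3 : g • α = α := hg.1
      have g4 : g • β = β := hg.2
      set y' := g * y * g⁻¹ with hy'
      have y'2 : y' * y' = 1 := by
        calc y' * y' = g * (y * y) * g⁻¹ := by rw [hy']; group
          _ = 1 := by rw [y2]; group
      have wH : y * y' ∈ H2 G α β ⊓ 𝐂[y] := by
        refine mem_inf.2 ⟨by
          rw [mem_H2]; simp only [hy', mul_smul, g1, g2, g3, g4, ya, yb, and_self], ?_⟩
        rw [mem_centralizer_singleton_iff, mul_assoc, hc]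
      have w2 : y * y' * (y * y') = 1 := by
        calc y * y' * (y * y') = y * (y' * y) * y' := by group
          _ = 1 := by rw [hc, ← mul_assoc y y, y2, one_mul, y'2]
      have TC : ∀ a ∈ 𝐂(T), T ≤ H2 G α β ⊓ 𝐂[a] := fun a ha => le_inf h.w.le fun t ht =>
        mem_centralizer_singleton_iff.2 (mem_centralizer_iff_commute.1 ha t ht)
      obtain ⟨c, hc', hle⟩ := (h.w.syl.mono (TC y yC) inf_le_left).exists_cj_le
        (R := zpowers (y * y')) (TP.isPGroup_zpowers (by rw [pow_two, w2])) ((zpowers_le).2 wH)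
      have cy : c * y * c⁻¹ = y := by
        rw [mem_centralizer_singleton_iff.1 hc'.2, mul_inv_cancel_right]
      have uT : c * (y * y') * c⁻¹ ∈ T := hle (cj_mem c (mem_zpowers _))
      have e1 : c * g * y * (c * g)⁻¹ = y * (c * (y * y') * c⁻¹) := by
        calc c * g * y * (c * g)⁻¹ = c * y' * c⁻¹ := by rw [hy']; group
          _ = c * (y * y * y') * c⁻¹ := by rw [y2, one_mul]
          _ = c * y * c⁻¹ * (c * (y * y') * c⁻¹) := by group
          _ = _ := by rw [cy]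
      have cg : c * g ∈ H2 G α β := mul_mem hc'.1 hg
      have aC : c * g * y * (c * g)⁻¹ ∈ 𝐂(T) := e1 ▸ mul_mem yC (h.w.le_cent uT)
      have S2 : IsSylowIn 2 (T ^ᶜ (c * g)) (H2 G α β ⊓ 𝐂[c * g * y * (c * g)⁻¹]) :=
        (h.w.syl.cj_of_mem cg).mono (le_inf (h.w.syl.cj_of_mem cg).le (by
          rw [← cj_centralizer_singleton]; exact cj_mono _ ((TC y yC).trans inf_le_right)))
          inf_le_left
      obtain ⟨d, hd, e2⟩ := S2.conj (h.w.syl.mono (TC _ aC) inf_le_left)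
      rw [cj_cj] at e2
      have e3 := fx (d * (c * g)) ⟨mul_mem hd.1 cg, cj_eq_self_iff.1 e2⟩
      have e4 : c * g * y * (c * g)⁻¹ = y := by
        rw [← e3]
        nth_rewrite 1 [e3]
        calc c * g * y * (c * g)⁻¹ = d * (c * g * y * (c * g)⁻¹) * d⁻¹ := by
              rw [mem_centralizer_singleton_iff.1 hd.2, mul_inv_cancel_right]
          _ = _ := by group
      calc y' = c⁻¹ * (c * g * y * (c * g)⁻¹) * c := by rw [hy']; group
        _ = c⁻¹ * (c * y * c⁻¹) * c := by rw [e4, cy]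
        _ = y := by group
  let K := DI.pair G α β
  let y0 : K := ⟨y, Or.inr ⟨ya, yb⟩⟩
  have zs := H73.centralizer_sup_oddCore_eq_top' (u := y0)
    (orderOf_eq_prime (Subtype.ext (by simpa [pow_two] using y2))
      fun e => y1 (congrArg Subtype.val e)) fun g hg => by
    have hg' : (g : G) * y * (g : G)⁻¹ * y = y * ((g : G) * y * (g : G)⁻¹) :=
      congrArg Subtype.val hg.eq
    apply Subtype.ext
    change (g : G) * y * (g : G)⁻¹ = y
    rcases g.2 with k | k
    · exact iso g k hg'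
    · have e : (g : G) * y * y * ((g : G) * y)⁻¹ = g * y * (g : G)⁻¹ := by group
      rw [← e] at hg' ⊢
      exact iso _ (by rw [mem_H2]; simp only [mul_smul, ya, yb, k.1, k.2, and_self]) hg'
  have HK : H2 G α β ≤ K := fun g hg => Or.inl hg
  have oO := H1.odd_card_oddCore (G := K)
  have oe : ∀ o ∈ oddCore K, o * o = 1 → o = 1 := fun o ho e => by
    have h1 := oO.of_dvd_nat ((oddCore K).orderOf_dvd_natCard ho)
    have h2 : orderOf o ∣ 2 := orderOf_dvd_of_pow_eq_one (by rw [pow_two, e])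
    rcases (Nat.dvd_prime Nat.prime_two).1 h2 with k | k
    · exact orderOf_eq_one_iff.1 k
    · rw [k] at h1; exact absurd h1 (by decide)
  have hO : oddCore K = ⊥ := by
    have n : H2 G α β ≤ 𝐍((oddCore K).map K.subtype ⊓ H2 G α β) := le_normalizer_inf
      (HK.trans (normal_iff_le_normalizer_map.1 inferInstance)) le_normalizer
    rcases h.w.normal inf_le_right n with e | e
    · rw [eq_bot_iff]
      intro o ho
      refine oe o ho (Subtype.ext ?_)
      have : (o : G) * o ∈ (oddCore K).map K.subtype ⊓ H2 G α β := by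
        refine mem_inf.2 ⟨mem_map_of_mem _ (mul_mem ho ho), ?_⟩
        rcases o.2 with k | k
        · exact mul_mem (show (o : G) ∈ H2 G α β from k) k
        · rw [mem_H2]; simp only [mul_smul, k.1, k.2, and_self]
      rwa [e] at this
    · obtain ⟨t, ht, t1⟩ := h.w.exists_ne
      obtain ⟨o, ho, rfl⟩ := (e.ge (h.w.le ht)).1
      exact absurd (congrArg Subtype.val (oe o ho (Subtype.ext (h.w.sq _ ht)))) t1
  rw [hO, sup_bot_eq] at zs
  refine ⟨y, y2, ya, fun g g1 g2 => ?_⟩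
  have := mem_centralizer_singleton_iff.1 (zs ▸ mem_top (⟨g, Or.inl ⟨g1, g2⟩⟩ : K))
  exact (congrArg Subtype.val this).symm

end H45.TS
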