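import Mathlib
import Cfsg.Agent.Lib.TS.BA
import Cfsg.Agent.Lib.TS.WFB
import Cfsg.Agent.Lib.Walter.Basic

/-! Control of fusion for the types `L₂(q)`, `q` odd, and Janko-Ree.  See `blueprint/TS/README.md`. -/

set_option autoImplicit false
set_option linter.unusedSectionVars false

namespace H45.TS

open Subgroup MulAction Cfsg H69 H45 H81
open H81.TP (T2)

universe u v

variable {G : Type u} [Group G] [Finite G] {Ω : Type v} [MulAction G Ω] [Finite Ω]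
  {α β : Ω} {H T : Subgroup G}

local instance factFB : Fact (Nat.Prime 2) := ⟨Nat.prime_two⟩

namespace FB

open H23.GW in
/-- an element of `N_X(V)` fixing an involution of the Sylow four-group `V` centralises it -/
theorem fix_cent {V X : Subgroup G} {a b : G} (f0 : Four V a b) (hX : IsSylowIn 2 V X) {n t : G}
    (hn : n ∈ X) (hN : n ∈ 𝐍(V)) (ht : t ∈ V) (t1 : t ≠ 1) (c1 : n * t * n⁻¹ = t) : n ∈ 𝐂(V) := by
  refine H44.Wal.cent_of_sq hX f0.abelian hn hN ?_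
  obtain ⟨u, f⟩ := f0.exists_of_mem ht t1
  have hc : n ∈ 𝐂[t] := mem_cent1_iff.2 (by rw [← c1, inv_mul_cancel_right, c1])
  rw [f.cent]
  refine ⟨Subgroup.mul_mem _ hc hc, mem_cent1_iff.2 ?_⟩
  have key : n * (n * u * n⁻¹) * n⁻¹ = u := by
    rcases f.mem_iff.1 (conj_mem_of_mem_normalizer hN f.mem_right) with e | e | e | e
    · exact absurd (by simpa using e) (H44.Wal.ne_one_of_two f.hb)
    · exact absurd (by simpa using c1.trans e.symm) f.ne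
    · rw [e, e]
    · rw [e, show n * (t * u) * n⁻¹ = n * t * n⁻¹ * (n * u * n⁻¹) by group, c1, e, ← mul_assoc, f.aa,
        one_mul]
  calc n * n * u = n * (n * u * n⁻¹) * n⁻¹ * (n * n) := by group
    _ = _ := by rw [key]

open H23.GW in
theorem rot {V X : Subgroup G} {a b : G} (f : Four V a b) (hX : IsSylowIn 2 V X) {n : G}
    (hn : n ∈ X) (hN : n ∈ 𝐍(V)) (e : n * a * n⁻¹ = b) : n * b * n⁻¹ = a * b := by
  have k : n ∉ 𝐂(V) := fun hc => f.ne ((conj_eq_of_mem_centralizer hc f.mem_left).symm.trans e)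
  rcases f.mem_iff.1 (conj_mem_of_mem_normalizer hN f.mem_right) with e1 | e1 | e1 | e1
  · exact absurd (by simpa using e1) (H44.Wal.ne_one_of_two f.hb)
  · refine absurd (fix_cent f hX hn hN f.mem_mul (H44.Wal.ne_one_of_two f.hab) ?_) k
    rw [← conj_mul, e, e1, f.comm.eq]
  · exact absurd (fix_cent f hX hn hN f.mem_right (H44.Wal.ne_one_of_two f.hb) e1) k
  · exact e1

open H23.GW in
theorem four (h0 : W0 H T) (h4 : Nat.card T = 4) {a b : G} (ha : a ∈ T) (hb : b ∈ T) (a1 : a ≠ 1)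
    (b1 : b ≠ 1) (hab : a ≠ b) : Four T a b := by
  have f := four_of (H44.Wal.two_of_sq (h0.sq a ha) a1) (H44.Wal.two_of_sq (h0.sq b hb) b1) hab
    (h0.comm ha hb)
  have e : zpowers a ⊔ zpowers b = T :=
    eq_of_le_of_card_ge (f.le_iff.2 ⟨ha, hb⟩) (by rw [h4, f.card])
  exact e ▸ f

end FB

theorem fc_four (h0 : W0 H T) (h4 : Nat.card T = 4) {M : Subgroup G} (hM : IsSylowIn 2 T M)
    {g : G} (hg : g ∈ M) (hn : g ∈ 𝐍(T)) :
    ∃ b ∈ H, b ∈ 𝐍(T) ∧ ∀ u ∈ T, g * u * g⁻¹ = b * u * b⁻¹ := by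
  obtain ⟨t, ht, t1⟩ := h0.exists_ne
  have ht' := conj_mem_of_mem_normalizer hn ht
  have t1' : g * t * g⁻¹ ≠ 1 := mt conj_eq_one_iff.1 t1
  obtain ⟨b, hb, bn, e⟩ := h0.tr t ht t1 _ ht' t1'
  refine ⟨b, hb, bn, fun u hu => ?_⟩
  by_cases e1 : g * t * g⁻¹ = t
  · obtain ⟨v, hv, v1, vt⟩ := h0.exists_ne' t
    have f := FB.four h0 h4 ht hv t1 v1 vt.symm
    rw [conj_eq_of_mem_centralizer (FB.fix_cent f hM hg hn ht t1 e1) hu,
      conj_eq_of_mem_centralizer (FB.fix_cent f h0.syl hb bn ht t1 (e.trans e1)) hu]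
  · have f := FB.four h0 h4 ht ht' t1 t1' (Ne.symm e1)
    have k1 := FB.rot f hM hg hn rfl
    have k2 := FB.rot f h0.syl hb bn e
    rcases f.mem_iff.1 hu with rfl | rfl | e2 | e2
    · simp
    · exact e.symm
    · rw [e2, k1, k2]
    · rw [e2, ← conj_mul (b := g), ← conj_mul (b := b), k1, k2, e]

theorem fc_eight (h0 : W0 H T) (hC : WC H T) {M : Subgroup G} (hHM : H ≤ M) (hM : IsSylowIn 2 T M)
    {g : G} (hg : g ∈ M) (hn : g ∈ 𝐍(T)) :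
    ∃ b ∈ H, b ∈ 𝐍(T) ∧ ∀ u ∈ T, g * u * g⁻¹ = b * u * b⁻¹ := by
  have e8 : H44.Wal.E8 T M := ⟨hM, h0.sq, hC.card⟩
  obtain ⟨t, ht, t1⟩ := h0.exists_ne
  obtain ⟨b, hb, bn, e⟩ := h0.tr t ht t1 _ (conj_mem_of_mem_normalizer hn ht)
    (mt conj_eq_one_iff.1 t1)
  obtain ⟨K, hK⟩ := hC.ck t ht t1
  have tt := h0.sq t ht
  have tK : t ∈ 𝐍(K) := centralizer_le_normalizer _ (mem_centralizer_iff.2 hK.comm)
  have hV : IsSylowIn 2 (T ⊓ K) K := by
    refine (h0.syl.mono (K := H ⊓ 𝐂[t]) (fun u hu => ⟨h0.le hu, mem_cent1_iff.2 (h0.comm hu ht)⟩)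
      inf_le_left).inf_normal (fun k hk => ⟨hK.le hk, mem_cent1_iff.2 (hK.comm k hk)⟩)
      fun d hd => ?_
    rcases hK.dec d hd.1 (mem_cent1_iff.1 hd.2) with h1 | h1
    · exact le_normalizer h1
    · exact (mul_mem_cancel_left tK).1 (le_normalizer h1)
  obtain ⟨F, _, _, hF, ⟨iso⟩⟩ := hK.iso
  have hF' : 5 ≤ Fintype.card F ∧ (Fintype.card F % 8 = 3 ∨ Fintype.card F % 8 = 5) := by
    rcases hF with h1 | ⟨m, hm, h1⟩ <;> rw [h1]
    · norm_num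
    · refine ⟨le_trans (by norm_num) (Nat.pow_le_pow_right (by norm_num) (show 3 ≤ 2 * m + 1 by omega)),
        Or.inl ?_⟩
      rw [pow_succ, pow_mul, Nat.mul_mod, Nat.pow_mod]; norm_num
  have hW := (wfb hV hF'.1 hF'.2 iso).1
  obtain ⟨v, hv, v1⟩ := hW.exists_ne
  have vt : t ≠ v := fun e => hK.nmem (e ▸ hv.2)
  set g₁ := b⁻¹ * g with hg₁
  have g1M : g₁ ∈ M := mul_mem (inv_mem (hHM hb)) hg
  have g1N : g₁ ∈ 𝐍(T) := mul_mem (inv_mem bn) hn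
  have g1t : g₁ * t * g₁⁻¹ = t := by
    calc g₁ * t * g₁⁻¹ = b⁻¹ * (g * t * g⁻¹) * b := by rw [hg₁]; group
      _ = t := by rw [← e]; group
  have hw := conj_mem_of_mem_normalizer g1N hv.1
  have f := e8.four ht hv.1 t1 v1 vt
  obtain ⟨c, hc, cn, ec⟩ : ∃ c ∈ K, c ∈ 𝐍((T ⊓ K : Subgroup G)) ∧
      (c * v * c⁻¹ = g₁ * v * g₁⁻¹ ∨ c * v * c⁻¹ = t * (g₁ * v * g₁⁻¹)) := by
    rcases hK.dec _ (h0.le hw) (h0.comm hw ht) with h1 | h1
    · obtain ⟨c, hc, cn, ec⟩ := hW.tr v hv v1 _ ⟨hw, h1⟩ (mt conj_eq_one_iff.1 v1)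
      exact ⟨c, hc, cn, Or.inl ec⟩
    · obtain ⟨c, hc, cn, ec⟩ := hW.tr v hv v1 _ ⟨mul_mem ht hw, h1⟩ (fun e1 =>
        H44.Wal.ne_one_of_two f.hab (conj_eq_one_iff.1 (show g₁ * (t * v) * g₁⁻¹ = 1 by
          rw [← conj_mul, g1t, e1])))
      exact ⟨c, hc, cn, Or.inr ec⟩
  have ct : c * t * c⁻¹ = t := by rw [hK.comm c hc, mul_inv_cancel_right]
  have cT : c ∈ 𝐍(T) := mem_normalizer_of_cj_le fun x hx => by
    obtain ⟨u, hu, rfl⟩ := mem_cj'.1 hx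
    rcases hK.dec u (h0.le hu) (h0.comm hu ht) with h1 | h1
    · exact (conj_mem_of_mem_normalizer cn ⟨hu, h1⟩).1
    · have h2 := (conj_mem_of_mem_normalizer cn ⟨mul_mem ht hu, h1⟩).1
      rw [← conj_mul, ct] at h2
      exact (mul_mem_cancel_left ht).1 h2
  have ct' : c⁻¹ * t * c = t := by rw [mul_assoc, ← hK.comm c hc, inv_mul_cancel_left]
  have nt : c⁻¹ * g₁ * t * (c⁻¹ * g₁)⁻¹ = t := by
    calc c⁻¹ * g₁ * t * (c⁻¹ * g₁)⁻¹ = c⁻¹ * (g₁ * t * g₁⁻¹) * c := by group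
      _ = t := by rw [g1t, ct']
  have hz := e8.cent_of_norm_ln (e8.ln ht hv.1 t1 v1 vt) f.mem_left t1
    (mul_mem (inv_mem (hHM (hK.le hc))) g1M) (mul_mem (inv_mem cT) g1N)
    (mem_cent1_iff.2 (by rw [← nt, inv_mul_cancel_right, nt]))
    (f.mem_norm (by rw [nt]; exact f.mem_left) (by
      have e1 : c⁻¹ * g₁ * v * (c⁻¹ * g₁)⁻¹ = c⁻¹ * (g₁ * v * g₁⁻¹) * c := by group
      rw [e1]
      rcases ec with ec | ec
      · rw [← ec, show c⁻¹ * (c * v * c⁻¹) * c = v by group]; exact f.mem_right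
      · rw [show g₁ * v * g₁⁻¹ = t * (c * v * c⁻¹) by rw [ec, ← mul_assoc, tt, one_mul],
          show c⁻¹ * (t * (c * v * c⁻¹)) * c = c⁻¹ * t * c * v by group, ct']
        exact f.mem_mul))
  refine ⟨b * c, mul_mem hb (hK.le hc), mul_mem bn cT, fun u hu => ?_⟩
  have h1 := conj_eq_of_mem_centralizer hz hu
  calc g * u * g⁻¹ = b * c * (c⁻¹ * g₁ * u * (c⁻¹ * g₁)⁻¹) * (b * c)⁻¹ := by rw [hg₁]; group
    _ = _ := by rw [h1]

end H45.TS
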