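import Mathlib
import Cfsg.Agent.Lib.TS.RC

/-! Inner case, `z ≁ t`, even degree, controlled fusion.  See `blueprint/TS/README.md`. -/

set_option autoImplicit false
set_option linter.unusedSectionVars false

namespace H45.TS

open Subgroup MulAction Cfsg H69 H45 H81
open H81.TP (T2)

universe u v

variable {G : Type u} [Group G] [Finite G] {Ω : Type v} [MulAction G Ω] [Finite Ω]
  {α β : Ω} {H T : Subgroup G}

local instance factFCI : Fact (Nat.Prime 2) := ⟨Nat.prime_two⟩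

theorem J1.wittU {t z : G} (h : J1 α β T t z) (he : Even (Nat.card Ω)) (hF : FC α β T)
    {U : Subgroup G} (hU : U ≤ T) : T2 𝐂(U) (FS Ω U) α β := by
  have c := h.toCf
  refine ⟨c.ne, FS_anti hU c.ma, FS_anti hU c.mb,
    fun g hg x hx => FS_smul (centralizer_le_normalizer _ hg) hx, fun a ha b hb hab => ?_⟩
  obtain ⟨g, ga, gb, gU⟩ := c.exists_cj_le (c.w.two.to_le hU) hab ha hb
  have γU : g • α ∈ FS Ω (U ^ᶜ g) := smul_mem_FS_cj.2 (FS_anti hU c.ma)
  obtain ⟨w, wγ, wC⟩ : ∃ w : G, w • g • α = α ∧ w ∈ 𝐂(U ^ᶜ g) := by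
    by_cases e : g • α = α
    · exact ⟨1, by rw [one_smul, e], one_mem _⟩
    · obtain ⟨w, hw, e1⟩ := h.ex e
      refine ⟨w, e1, fun u hu => (h.cen hw (a := g • α) (by rw [e1]; exact Ne.symm e) (γU u hu) ?_).symm⟩
      rw [e1]; exact c.fixa (gU hu)
  have hX : IsSylowIn 2 T (stabilizer G α ⊓ 𝐂(U ^ᶜ g)) :=
    (c.syl_stab he).mono (le_inf (c.syl_stab he).le fun x hx u hu => c.w.comm (gU hu) hx) inf_le_left
  have hle : T ^ᶜ (w * g) ≤ stabilizer G α ⊓ 𝐂(U ^ᶜ g) := by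
    intro x hx
    obtain ⟨y, hy, rfl⟩ := mem_cj'.1 hx
    refine ⟨?_, ?_⟩
    · have e : (w * g)⁻¹ • α = α := by rw [inv_smul_eq_iff, mul_smul, wγ]
      change (w * g * y * (w * g)⁻¹) • α = α
      rw [mul_smul, e, mul_smul, c.fixa hy, mul_smul, wγ]
    · have e : w * g * y * (w * g)⁻¹ = w * (g * y * g⁻¹) * w⁻¹ := by group
      change w * g * y * (w * g)⁻¹ ∈ 𝐂(U ^ᶜ g)
      rw [e]
      refine mul_mem (mul_mem wC fun u hu => ?_) (inv_mem wC)
      obtain ⟨u, hu', rfl⟩ := mem_cj'.1 hu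
      have k := c.w.comm (hU hu') hy
      calc g * u * g⁻¹ * (g * y * g⁻¹) = g * (u * y) * g⁻¹ := by group
        _ = g * (y * u) * g⁻¹ := by rw [k]
        _ = _ := by group
  obtain ⟨d, hd, dT⟩ := hX.exists_cj_le (isPGroup_cj c.w.two _) hle
  rw [cj_cj] at dT
  have da : d • α = α := hd.1
  obtain ⟨b₀, bH, -, hb₀⟩ := hF _ (mem_normalizer_of_cj_le dT) (by rw [mul_smul, mul_smul, wγ, da])
  refine ⟨g⁻¹ * b₀, fun u hu => ?_, ?_, ?_⟩
  · have k := hb₀ u (hU hu)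
    have k1 : g * u * g⁻¹ * (d * w) = d * w * (g * u * g⁻¹) := mul_mem hd.2 wC _ (cj_mem g hu)
    have k2 : g * u * g⁻¹ = b₀ * u * b₀⁻¹ := by
      rw [← k]
      calc g * u * g⁻¹ = g * u * g⁻¹ * (d * w) * (d * w)⁻¹ := by group
        _ = d * w * (g * u * g⁻¹) * (d * w)⁻¹ := by rw [k1]
        _ = _ := by group
    calc u * (g⁻¹ * b₀) = g⁻¹ * (g * u * g⁻¹) * b₀ := by group
      _ = g⁻¹ * (b₀ * u * b₀⁻¹) * b₀ := by rw [k2]
      _ = _ := by group
  · rw [mul_smul, bH.1, inv_smul_eq_iff, ga]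
  · rw [mul_smul, bH.2, inv_smul_eq_iff, gb]

/-- one step of the recurrence -/
theorem FCI.step {t z : G} (h : J1 α β T t z) (he : Even (Nat.card Ω)) (hF : FC α β T)
    {U : Subgroup G} (hU : U ≤ T) {v : G} (hv : v ∈ T) (hne : FS Ω (U ⊔ zpowers v) ≠ FS Ω U) :
    ∃ v' ∈ T, FS Ω (U ⊔ zpowers v') ≠ FS Ω U ∧ (FS Ω U).ncard = (FS Ω (U ⊔ zpowers v)).ncard +
      (FS Ω (U ⊔ zpowers v')).ncard * ((FS Ω (U ⊔ zpowers v)).ncard - 1) := by
  have c := h.toCf
  have hUv : U ⊔ zpowers v ≤ T := sup_le hU (zpowers_le.2 hv)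
  have key := h.rc2 he hU hv (m := {x | x ∈ FS Ω U ∧ (v * z) • x = x}.ncard) fun w hw hα => by
    obtain ⟨g, gC, ga, gb⟩ := (h.wittU he hF hUv).tr α (FS_anti hUv c.ma) (w • α) hα
      (h.fpf he hw α).symm
    have ga' : g⁻¹ • α = α := by rw [inv_smul_eq_iff, ga]
    have e : w = g * z * g⁻¹ := h.uq hw (isConj_iff.2 ⟨g, rfl⟩) (a := α)
      (by rw [mul_smul, mul_smul, ga', h.inn.sw, gb]) (h.fpf he hw α)
    have gv : v * g = g * v := gC v (mem_sup_right (mem_zpowers v))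
    have gN : g ∈ 𝐍(U) := centralizer_le_normalizer _ (centralizer_anti le_sup_left gC)
    have e1 : v * w * g = g * (v * z) := by
      rw [e, ← mul_assoc g, ← gv]; group
    symm
    refine Set.ncard_congr (fun x _ => g • x) (fun x hx => ⟨FS_smul gN hx.1, ?_⟩)
      (fun x y _ _ e => MulAction.injective g e)
      (fun x hx => ⟨g⁻¹ • x, ⟨FS_smul (inv_mem gN) hx.1, ?_⟩, smul_inv_smul g x⟩)
    · rw [← mul_smul, e1, mul_smul, hx.2]
    · refine MulAction.injective g ?_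
      change g • (v * z) • g⁻¹ • x = g • g⁻¹ • x
      rw [← mul_smul g, ← e1, mul_smul, smul_inv_smul, hx.2]
  have lt : (FS Ω (U ⊔ zpowers v)).ncard < (FS Ω U).ncard :=
    Set.ncard_lt_ncard (ssubset_of_subset_of_ne (FS_anti le_sup_left) hne) (Set.toFinite _)
  obtain ⟨v', hv', n', e'⟩ := h.term he hU hv (IsConj.refl z)
    (by rw [h.inn.sw]; exact FS_anti hUv c.mb) (Set.nonempty_of_ncard_ne_zero fun e => by
      rw [e, zero_mul] at key; omega)
  exact ⟨v', hv', n', by rw [← e']; exact key⟩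

theorem FCI.pow {t z : G} (h : J1 α β T t z) (he : Even (Nat.card Ω)) (hF : FC α β T) (n : ℕ) :
    ∀ U : Subgroup G, U ≤ T → (FS Ω U).ncard = n → ∃ k, n = 2 ^ k := by
  induction n using Nat.strong_induction_on with
  | _ n ih =>
  intro U hU hn
  have c := h.toCf
  by_cases o : ∃ v ∈ T, FS Ω (U ⊔ zpowers v) ≠ FS Ω U
  · obtain ⟨v, ⟨hv, hne⟩, min⟩ := Set.exists_min_image {v | v ∈ T ∧ FS Ω (U ⊔ zpowers v) ≠ FS Ω U}
      (fun v => (FS Ω (U ⊔ zpowers v)).ncard) (Set.toFinite _) o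
    have hUv : U ⊔ zpowers v ≤ T := sup_le hU (zpowers_le.2 hv)
    obtain ⟨v', hv', n', e'⟩ := FCI.step h he hF hU hv hne
    obtain ⟨v'', hv'', n'', e''⟩ := FCI.step h he hF hU hv' n'
    have m1 : (FS Ω (U ⊔ zpowers v)).ncard ≤ (FS Ω (U ⊔ zpowers v')).ncard := min v' ⟨hv', n'⟩
    have m2 : (FS Ω (U ⊔ zpowers v)).ncard ≤ (FS Ω (U ⊔ zpowers v'')).ncard := min v'' ⟨hv'', n''⟩
    have lt : (FS Ω (U ⊔ zpowers v)).ncard < n := hn ▸
      Set.ncard_lt_ncard (ssubset_of_subset_of_ne (FS_anti le_sup_left) hne) (Set.toFinite _)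
    have pos : 0 < (FS Ω (U ⊔ zpowers v)).ncard :=
      (Set.ncard_pos (Set.toFinite _)).2 ⟨α, FS_anti hUv c.ma⟩
    obtain ⟨k, hk⟩ := ih _ lt _ hUv rfl
    refine ⟨k + k, ?_⟩
    rw [pow_add, ← hk, ← hn]
    generalize (FS Ω U).ncard = y at *
    generalize (FS Ω (U ⊔ zpowers v)).ncard = a at *
    generalize (FS Ω (U ⊔ zpowers v')).ncard = b at *
    generalize (FS Ω (U ⊔ zpowers v'')).ncard = d at *
    obtain ⟨a, rfl⟩ : ∃ a', a = a' + 1 := ⟨a - 1, by omega⟩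
    obtain ⟨b, rfl⟩ : ∃ b', b = b' + 1 := ⟨b - 1, by omega⟩
    rw [Nat.add_sub_cancel] at e' e''
    have k1 : (a + 1) * b ≤ d * b := Nat.mul_le_mul_right b m2
    have k2 : b = a := by nlinarith
    rw [e', k2]; ring
  · have e : FS Ω U = FS Ω T := by
      refine (FS_anti hU).antisymm' fun x hx v hv => ?_
      have k : FS Ω (U ⊔ zpowers v) = FS Ω U := by
        by_contra k
        exact o ⟨v, hv, k⟩
      rw [← k] at hx
      exact hx v (mem_sup_right (mem_zpowers v))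
    rw [← hn, e]
    exact h.f_pow he

theorem J1.pow_of_fc {t z : G} (h : J1 α β T t z) (he : Even (Nat.card Ω)) (hF : FC α β T) :
    ∃ k, Nat.card Ω = 2 ^ k :=
  FCI.pow h he hF _ ⊥ bot_le (by rw [FS_bot, Set.ncard_univ])

end H45.TS
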