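import Mathlib
import Cfsg.Agent.Lib.TS.BB
import Cfsg.Agent.Lib.TS.SH

/-! Inner case: `z ∼ t`, `z t ≁ t`.  See `blueprint/TS/README.md`. -/

set_option autoImplicit false
set_option linter.unusedSectionVars false

namespace H45.TS

open Subgroup MulAction Cfsg H69 H45 H81
open H81.TP (T2)

universe u v

variable {G : Type u} [Group G] [Finite G] {Ω : Type v} [MulAction G Ω] [Finite Ω]
  {α β : Ω} {H T : Subgroup G}

local instance factI2 : Fact (Nat.Prime 2) := ⟨Nat.prime_two⟩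

namespace I2

theorem sq_of_conj {t w : G} (t2 : t * t = 1) (hw : IsConj t w) : w * w = 1 := by
  obtain ⟨c, rfl⟩ := isConj_iff.1 hw
  rw [show c * t * c⁻¹ * (c * t * c⁻¹) = c * (t * t) * c⁻¹ by group, t2, mul_one, mul_inv_cancel]

theorem cjj (g x : G) : IsConj x (g * x * g⁻¹) := isConj_iff.2 ⟨g, rfl⟩

/-- a conjugate of `t` is determined by the image of one point that it moves -/
theorem uniq (h : Cf α β T) {z t : G} (hz : In α β z) (ht : t ∈ T) (t1 : t ≠ 1)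
    (h2 : ¬ IsConj t (z * t)) {w w' : G} (hw : IsConj t w) (hw' : IsConj t w') {a : Ω}
    (e : w • a = w' • a) (n : w • a ≠ a) : w = w' := by
  obtain ⟨g, ga, gb⟩ := h.two a (w • a) n.symm
  have k : ∀ u, IsConj t u → u • a = w • a → g⁻¹ * u * g⁻¹⁻¹ = z := fun u hu eu => by
    have hc := hu.trans (cjj g⁻¹ u)
    refine (hz.inv_cases h ht t1 (sq_of_conj (h.w.sq t ht) hc) ?_).resolve_right ?_
    · rw [inv_inv, mul_smul, mul_smul, ga, eu, ← gb, inv_smul_smul]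
    · rintro ⟨x, -, ex⟩
      exact h2 (ex ▸ hc.trans (cjj x _))
  have := (k w hw rfl).trans (k w' hw' e.symm).symm
  exact mul_left_cancel (mul_right_cancel this)

end I2

open I2 in
theorem Cf.i2 (h : Cf α β T) {z t : G} (hz : In α β z) (ht : t ∈ T) (t1 : t ≠ 1) (h1 : IsConj t z)
    (h2 : ¬ IsConj t (z * t)) : False := by
  have U := @uniq G _ _ Ω _ _ α β T h z t hz ht t1 h2
  have mC : ∀ {g : G}, g ∈ (𝐂[t] : Subgroup G) ↔ g * t = t * g := mem_centralizer_singleton_iff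
  have cT : ∀ u ∈ T, u ≠ 1 → IsConj t u := fun u hu u1 => by
    obtain ⟨b, -, -, e⟩ := h.w.tr t ht t1 u hu u1
    exact isConj_iff.2 ⟨b, e⟩
  have hA : ∀ a ∈ Fx Ω t, a ∈ FS Ω T := fun a ha u hu => by
    by_contra n
    have u1 : u ≠ 1 := fun e => n (by rw [e, one_smul])
    have ut : u * t ≠ 1 := fun e => n (by
      rw [mul_right_cancel (e.trans (h.w.sq t ht).symm)]; exact ha)
    have := U (cT u hu u1) (cT _ (mul_mem hu ht) ut) (by rw [mul_smul, mem_Fx.1 ha]) n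
    exact t1 (by simpa using this)
  have hF : FS Ω T = Fx Ω t := Set.Subset.antisymm (FS_sub_Fx ht) hA
  obtain ⟨g, hg⟩ := isConj_iff.1 h1.symm
  have hC : H2 G α β ^ᶜ g ≤ 𝐂[t] := fun x hx => by
    obtain ⟨y, hy, rfl⟩ := mem_cj'.1 hx
    rw [mC, ← hg]
    have := hz.cen y hy.1 hy.2
    calc g * y * g⁻¹ * (g * z * g⁻¹) = g * (y * z) * g⁻¹ := by group
      _ = g * (z * y) * g⁻¹ := by rw [this]
      _ = _ := by group
  set R : Set G := {u | IsConj t u ∧ u * t = t * u ∧ ∃ a ∈ Fx Ω t, u • a ≠ a} with hR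
  have RC : R ⊆ (𝐂[t] : Subgroup G) := fun r hr => mC.2 hr.2.1
  have Rc : ∀ x ∈ (𝐂[t] : Subgroup G), ∀ u ∈ R, x * u * x⁻¹ ∈ R := fun x hx u hu => by
    obtain ⟨a, ha, n⟩ := hu.2.2
    refine ⟨hu.1.trans (cjj x u), mC.1 (mul_mem (mul_mem hx (RC hu)) (inv_mem hx)), x • a,
      Fx_smul (mC.1 hx) ha, fun e => n ((TP.conj_smul_iff x u a a).1 e)⟩
  have RT : R ⊆ (𝐂(T) : Subgroup G) := fun r hr u hu => by
    obtain ⟨a, ha, n⟩ := hr.2.2
    have e := U hr.1 (hr.1.trans (cjj u r)) (a := a) (by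
      rw [mul_smul, mul_smul, inv_smul_eq_iff.2 (hA a ha u hu).symm,
        hA _ (Fx_smul hr.2.1 ha) u hu]) n
    exact mul_inv_eq_iff_eq_mul.1 e.symm
  have R1 : ∀ r ∈ R, ∀ a ∈ Fx Ω t, ∀ b ∈ Fx Ω t, r • a = a → r • b = b → a = b :=
    fun r hr a ha b hb ea eb => by
      by_contra n
      obtain ⟨c, hc, m⟩ := hr.2.2
      exact m (hA c hc r (h.centT (RT hr) (hA a ha) (hA b hb) n ea eb))
  have HR : ∀ u ∈ H2 G α β ^ᶜ g, u * u = 1 → u ≠ 1 → u ∈ R := fun u hu u2 u1 => by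
    refine ⟨?_, mC.1 (hC hu), ?_⟩
    · rw [H2_cj] at hu
      exact h.conj_of_fix ht t1 u2 u1 (fun e => h.ne (smul_left_cancel g e)) hu.1 hu.2
    · by_contra n
      push Not at n
      exact u1 (h.faith_cj ht t1 hC hu n)
  have W := h.w.cj g
  have wc := h.wittC ht t1
  by_cases he : 2 ∣ (Fx Ω t).ncard
  · have hf : ∀ r ∈ R, ∀ a ∈ FS Ω T, r • a ≠ a := fun r hr a ha e => by
      rw [hF] at ha
      have p := par_on (F := Fx Ω t) (r := r) (fun x hx => Fx_smul hr.2.1 hx)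
        (fun x _ => by rw [← mul_smul, sq_of_conj (h.w.sq t ht) hr.1, one_smul])
      have : {x | x ∈ Fx Ω t ∧ r • x = x} = {a} :=
        Set.eq_singleton_iff_unique_mem.2 ⟨⟨ha, e⟩, fun b hb => R1 r hr b hb.1 a ha hb.2 e⟩
      rw [this, Set.ncard_singleton] at p
      exact absurd ((Nat.modEq_zero_iff_dvd.2 he).symm.trans p) (by decide)
    have zR : z ∈ R := ⟨h1, hz.cen t (h.fixa ht) (h.fixb ht), α, wc.ma, hz.sw ▸ h.ne.symm⟩
    have S := (she (M := 𝐂(T)) (F := FS Ω T)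
      (fun x hx a ha => FS_smul (centralizer_le_normalizer _ hx) ha)
      (fun x hx a ha b hb n ea eb y hy => hy x (h.centT hx ha hb n ea eb)) RT
      (fun r hr x _ => by rw [← mul_smul, sq_of_conj (h.w.sq t ht) hr.1, one_smul]) hf
      (fun a ha b hb n => by
        rw [hF] at ha hb
        obtain ⟨x, hx, ea, eb⟩ := wc.tr a ha b hb n
        exact ⟨_, Rc x hx z zR, by rw [← ea, ← eb, TP.conj_smul_iff]; exact hz.sw⟩)
      ⟨α, h.ma⟩).2.2.2
    obtain ⟨a, ha, b, hb, a2, b2, n⟩ := W.exists_not_comm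
    have a1 : a ≠ 1 := fun e => n (by rw [e, one_mul, mul_one])
    have b1 : b ≠ 1 := fun e => n (by rw [e, one_mul, mul_one])
    have e := h.faith_cj ht t1 hC (mul_mem (mul_mem ha hb) (mul_mem ha hb)) fun x hx => by
      rw [mul_smul]
      exact S a (HR a ha a2 a1) b (HR b hb b2 b1) x (hA x hx)
    refine n ?_
    rw [eq_inv_of_mul_eq_one_left e, mul_inv_rev, inv_eq_of_mul_eq_one_right a2,
      inv_eq_of_mul_eq_one_right b2]
  · obtain ⟨ω, hω, fx⟩ := TP.exists_fix W.two (Set.toFinite (Fx Ω t))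
      (fun x hx a ha => Fx_smul (mC.1 (hC (W.le hx))) ha) he
    obtain ⟨u, hu, u1⟩ := W.exists_ne
    obtain ⟨v, hv, v1, n⟩ := W.exists_ne' u
    have e := wc.uq RC Rc R1 (fun r hr r' hr' e n x _ => by rw [U hr.1 hr'.1 e n])
      (HR u (W.le hu) (W.sq u hu) u1) (HR v (W.le hv) (W.sq v hv) v1) hω (fx u hu) (fx v hv)
    refine n (inv_mul_eq_one.1 (h.faith_cj ht t1 hC (mul_mem (inv_mem (W.le hv)) (W.le hu))
      fun x hx => ?_))
    rw [mul_smul, e x hx, inv_smul_smul]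

end H45.TS
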