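import Mathlib
import Cfsg.Agent.Lib.TS.BA
import Cfsg.Agent.Lib.GW.PslTor
import Cfsg.Agent.Lib.GL.Basic
import Cfsg.Agent.Lib.CompW.RankOne
import Cfsg.Agent.S0811
import Cfsg.Agent.S0812

/-! Tori of `L₂(q)`, `q` odd.  See `blueprint/TS/README.md`. -/

set_option autoImplicit false
set_option linter.unusedSectionVars false

namespace H45.TS

open Subgroup MulAction Cfsg H69 H45 H81
open H81.TP (T2)

universe u v

variable {G : Type u} [Group G] [Finite G] {Ω : Type v} [MulAction G Ω] [Finite Ω]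
  {α β : Ω} {H T : Subgroup G}

local instance factTO : Fact (Nat.Prime 2) := ⟨Nat.prime_two⟩

namespace TO

open Matrix H64.SL2 H29
open scoped MatrixGroups

theorem two_ne {F : Type} [Field F] [Fintype F] (ho : Odd (Fintype.card F)) : (2 : F) ≠ 0 := by
  intro h2
  have h1 : ((Fintype.card F : ℕ) : F) = 0 := FiniteField.cast_card_eq_zero F
  obtain ⟨k, hk⟩ := ho
  rw [hk] at h1
  push_cast at h1
  rw [h2] at h1
  simp at h1

theorem psl_core {F : Type} [Field F] [Finite F] (h2 : (2 : F) ≠ 0) (h3 : 3 < Nat.card F)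
    {x : PSL(2, F)} (x2 : x * x = 1) (x1 : x ≠ 1) :
    ∃ g : SL(2, F), tr g ^ 2 ≠ 4 ∧ (∀ y, y * x = x * y ↔ y ∈ nrmP g) ∧ x ∈ torP g := by
  obtain ⟨s, rfl⟩ := proj_surjective x
  let M : GL (Fin 2) F := SpecialLinearGroup.toGL s
  have hMs : M.1 = s.1 := rfl
  have hc : ∀ a : SL(2, F), a ∈ center SL(2, F) ↔
      SpecialLinearGroup.toGL a ∈ center (GL (Fin 2) F) := fun a => by
    rw [gl_mem_center_iff, mem_center_iff_entries]
    rfl
  have h1 : M * M ∈ center (GL (Fin 2) F) := by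
    rw [← map_mul, ← hc, ← proj_eq_one_iff, map_mul]
    exact x2
  have h0 : M ∉ center (GL (Fin 2) F) := fun e => x1 (proj_eq_one_iff.2 ((hc s).2 e))
  have hM : M.1 1 1 = -M.1 0 0 := by
    rw [gl_mem_center_iff] at h1 h0
    simp only [Units.val_mul, mul_apply, Fin.sum_univ_two] at h1
    by_contra h3
    have h4 : M.1 0 0 + M.1 1 1 ≠ 0 := fun e => h3 (by linear_combination e)
    exact h0 ⟨mul_left_cancel₀ h4 (by linear_combination h1.1),
      mul_left_cancel₀ h4 (by linear_combination h1.2.1),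
      mul_left_cancel₀ h4 (by linear_combination h1.2.2)⟩
  obtain ⟨g, hg, g1, g2⟩ := exists_reg h2 h3 hM
  refine ⟨g, hg, fun y => ?_, mem_torP.2 ((g1 s).1 rfl)⟩
  obtain ⟨y, rfl⟩ := proj_surjective y
  rw [← map_mul, ← map_mul, proj_eq_iff, mem_nrmP hg, ← g1, ← g2, sl_val_iff, sl_val_iff]
  rfl

/-- a dihedral group of order `4 k` has a central involution -/
theorem dih_cent {k : ℕ} (hk : 0 < k) :
    ∃ z : DihedralGroup (2 * k), z * z = 1 ∧ z ≠ 1 ∧ ∀ y, y * z = z * y := by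
  have : NeZero (2 * k) := ⟨by omega⟩
  have h1 : ((k : ℕ) : ZMod (2 * k)) + k = 0 := by
    rw [← Nat.cast_add, ← two_mul, ZMod.natCast_self]
  refine ⟨DihedralGroup.r k, ?_, ?_, ?_⟩
  · rw [DihedralGroup.r_mul_r, h1]; rfl
  · intro h
    have h2 : ((k : ℕ) : ZMod (2 * k)) = 0 := by
      rw [DihedralGroup.one_def] at h
      exact DihedralGroup.r.inj h
    rw [ZMod.natCast_eq_zero_iff] at h2
    have := Nat.le_of_dvd hk h2
    omega
  · rintro (i | i)
    · rw [DihedralGroup.r_mul_r, DihedralGroup.r_mul_r, add_comm]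
    · rw [DihedralGroup.sr_mul_r, DihedralGroup.r_mul_sr]
      congr 1
      linear_combination h1

end TO

open TO

theorem tor_psl {F : Type} [Field F] [Fintype F] (ho : Odd (Fintype.card F))
    (h3 : 3 < Fintype.card F) (e : H ≃* Matrix.ProjectiveSpecialLinearGroup (Fin 2) F) {v : G}
    (hv : v ∈ H) (v2 : v * v = 1) (v1 : v ≠ 1) :
    ∃ R, Tr H v R ∧ v ∈ R ∧
      (2 * Nat.card R + 1 = Fintype.card F ∨ 2 * Nat.card R = Fintype.card F + 1) := by
  have h2 := two_ne ho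
  rw [← Nat.card_eq_fintype_card] at h3 ⊢
  let ι : Matrix.ProjectiveSpecialLinearGroup (Fin 2) F →* G := H.subtype.comp e.symm.toMonoidHom
  have hι : Function.Injective ι := H.subtype_injective.comp e.symm.injective
  have hL : ∀ x, ι x ∈ H := fun x => (e.symm x).2
  have hL' : ∀ y ∈ H, ∃ x, ι x = y := fun y hy => ⟨e ⟨y, hy⟩, by simp [ι]⟩
  obtain ⟨x, rfl⟩ := hL' v hv
  obtain ⟨g, hg, hN, hx⟩ := psl_core h2 h3 (x := x) (hι (by rw [map_mul, v2, map_one]))
    (fun h => v1 (by rw [h, map_one]))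
  have hN1 : ∀ y, ι y * ι x = ι x * ι y ↔ y ∈ H29.nrmP g := fun y => by
    rw [← map_mul, ← map_mul, hι.eq_iff, hN]
  have hN' : H ⊓ 𝐂[ι x] = (H29.nrmP g).map ι := by
    ext y
    constructor
    · rintro ⟨h4, h5⟩
      obtain ⟨y, rfl⟩ := hL' y h4
      exact ⟨y, (hN1 y).1 (mem_centralizer_singleton_iff.1 h5), rfl⟩
    · rintro ⟨y, hy, rfl⟩
      exact ⟨hL y, mem_centralizer_singleton_iff.2 ((hN1 y).2 hy)⟩
  have hT : ∀ y, ι y ∈ (H29.torP g).map ι ↔ y ∈ H29.torP g := fun y => mem_map_iff_mem hι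
  have hsq : ∀ s ∈ H, s * ι x = ι x * s → s ∉ (H29.torP g).map ι → s * s = 1 := by
    intro s hs h4 h5
    obtain ⟨s, rfl⟩ := hL' s hs
    rw [← map_mul, H29.sq_of_notMem_torP hg ((hN1 s).1 h4) (mt (hT s).2 h5), map_one]
  have hcomm : ∀ r ∈ (H29.torP g).map ι, r * ι x = ι x * r := by
    rintro _ ⟨r, hr, rfl⟩
    exact (hN1 r).2 (H29.torP_le_nrmP hr)
  have hle : (H29.torP g).map ι ≤ H := by
    rintro _ ⟨r, -, rfl⟩
    exact hL r
  refine ⟨(H29.torP g).map ι, ⟨hle, hcomm, ?_, ?_, fun s hs h4 h5 => ⟨hsq s hs h4 h5, ?_⟩⟩,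
    (hT x).2 hx, ?_⟩
  · have := H29.isCyclic_torP hg
    exact isCyclic_of_surjective _ (MonoidHom.subgroupMap_surjective _ _)
  · have h5 := H29.relIndex_torP hg
    rw [relIndex] at h5
    rw [hN', card_map_of_injective hι, card_map_of_injective hι,
      ← ((H29.torP g).subgroupOf (H29.nrmP g)).index_mul_card,
      Nat.card_congr (subgroupOfEquivOfLe H29.torP_le_nrmP).toEquiv, h5]
  · intro r hr
    have h6 := hsq (s * r) (mul_mem hs (hle hr))
      (by rw [mul_assoc, hcomm r hr, ← mul_assoc, h4, mul_assoc])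
      (mt (Subgroup.mul_mem_cancel_right _ hr).1 h5)
    rw [inv_eq_of_mul_eq_one_right (hsq s hs h4 h5), eq_inv_iff_mul_eq_one, ← h6]
    group
  · rw [card_map_of_injective hι]
    exact H29.card_torP h2 hg

theorem card_psl {F : Type} [Field F] [Fintype F] (ho : Odd (Fintype.card F))
    (e : H ≃* Matrix.ProjectiveSpecialLinearGroup (Fin 2) F) :
    2 * Nat.card H = Fintype.card F * (Fintype.card F - 1) * (Fintype.card F + 1) := by
  have h := H10.card_PSL_two (F := F)
  rw [Nat.card_eq_fintype_card (α := F)] at h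
  have h2 : Nat.gcd 2 (Fintype.card F - 1) = 2 := by
    obtain ⟨k, hk⟩ := ho
    rw [hk]
    simp
  rw [h2] at h
  rw [Nat.card_congr e.toEquiv, h]

theorem wb_in (h0 : W0 H T) (hB : WB H T) {t : G} (ht : t ∈ T) (t1 : t ≠ 1) :
    ∃ v R k, TB H T t v R k := by
  classical
  obtain ⟨F, _, _, ho, h11, ⟨e⟩⟩ := hB.iso
  have h4 := hB.card
  obtain ⟨v, hv, v1, vt⟩ := h0.exists_ne' t
  have t2 := h0.sq t ht
  have v2 := h0.sq v hv
  have tH := h0.le ht
  obtain ⟨R, hR, tR, hcard⟩ := tor_psl ho (by omega) e tH t2 t1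
  -- the elements of `T`
  have hmem : ∀ u ∈ T, u = 1 ∨ u = t ∨ u = v ∨ u = t * v := by
    have htv1 : t * v ≠ 1 := fun h => vt (by
      rw [← mul_left_cancel_iff (a := t), h, t2])
    have htvt : t * v ≠ t := fun h => v1 (by simpa using h)
    have htvv : t * v ≠ v := fun h => t1 (by simpa using h)
    have hS : ({1, t, v, t * v} : Set G).ncard = 4 := by
      rw [Set.ncard_insert_of_notMem, Set.ncard_insert_of_notMem, Set.ncard_pair htvv.symm]
      · simp only [Set.mem_insert_iff, Set.mem_singleton_iff, not_or]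
        exact ⟨vt.symm, htvt.symm⟩
      · simp only [Set.mem_insert_iff, Set.mem_singleton_iff, not_or]
        exact ⟨t1.symm, v1.symm, htv1.symm⟩
    have hsub : ({1, t, v, t * v} : Set G) ⊆ (T : Set G) := by
      rintro u (rfl | rfl | rfl | rfl)
      exacts [T.one_mem, ht, hv, T.mul_mem ht hv]
    have hT4 : (T : Set G).ncard = 4 := by rw [← h4]; rfl
    have heq := Set.eq_of_subset_of_ncard_le hsub (by omega)
    intro u hu
    have : u ∈ ({1, t, v, t * v} : Set G) := heq ▸ hu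
    simpa using this
  have hTD : T ≤ H ⊓ 𝐂[t] := fun u hu =>
    ⟨h0.le hu, mem_centralizer_singleton_iff.2 (h0.comm hu ht)⟩
  have hsD := h0.syl.mono hTD inf_le_left
  have hodd := hsD.not_dvd_relIndex
  have hk : T.relIndex (H ⊓ 𝐂[t]) * 4 = 2 * Nat.card R := by
    rw [← hR.idx, ← h4, ← (T.subgroupOf (H ⊓ 𝐂[t])).index_mul_card,
      Nat.card_congr (subgroupOfEquivOfLe hTD).toEquiv]
    rfl
  obtain ⟨k, hkdef⟩ : ∃ k, k = T.relIndex (H ⊓ 𝐂[t]) := ⟨_, rfl⟩
  rw [← hkdef] at hodd hk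
  have hRk : Nat.card R = 2 * k := by omega
  have vR : v ∉ R := by
    intro vR
    have hTR : T ≤ R := by
      intro u hu
      rcases hmem u hu with rfl | rfl | rfl | rfl
      exacts [R.one_mem, tR, vR, R.mul_mem tR vR]
    have := card_dvd_of_le hTR
    rw [h4, hRk] at this
    omega
  obtain ⟨b, bH, bN, hb⟩ := h0.tr t ht t1 v hv v1
  have bD : b ∉ 𝐂[t] := fun h => vt (by
    rw [← hb, mem_centralizer_singleton_iff.1 h, mul_inv_cancel_right])
  refine ⟨v, R, k, ht, hv, t1, v1, vt.symm, hmem, h4, hR, tR, vR, hRk,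
    Nat.odd_iff.2 (by omega), by omega, ?_, ?_⟩
  · have hTB : T ≤ H ⊓ 𝐍(T) := le_inf h0.le le_normalizer
    have hodd' := (h0.syl.mono hTB inf_le_left).not_dvd_relIndex
    let φ : (H ⊓ 𝐍(T) : Subgroup G) →* MulAut T :=
      T.normalizerMonoidHom.comp (inclusion inf_le_right)
    have hker : φ.ker = T.subgroupOf (H ⊓ 𝐍(T)) := by
      ext x
      have h1 : x ∈ φ.ker ↔ (x : G) ∈ 𝐂(T) := by
        have : x ∈ φ.ker ↔ inclusion inf_le_right x ∈ T.normalizerMonoidHom.ker := Iff.rfl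
        rw [this, normalizerMonoidHom_ker]
        rfl
      rw [h1, mem_subgroupOf]
      exact ⟨h0.cent _ x.2.1, fun h => h0.le_cent h⟩
    have h6 : T.relIndex (H ⊓ 𝐍(T)) ∣ 6 := by
      rw [relIndex, ← hker, index_ker]
      exact (card_subgroup_dvd_card _).trans (H3.CW.card_mulAut_dvd_six h4.le)
    have h1 : T.relIndex (H ⊓ 𝐍(T)) ≠ 1 := fun h =>
      bD (hTD (relIndex_eq_one.1 h ⟨bH, bN⟩)).2
    have hc : T.relIndex (H ⊓ 𝐍(T)) * 4 = Nat.card (H ⊓ 𝐍(T) : Subgroup G) := by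
      rw [← h4, ← (T.subgroupOf (H ⊓ 𝐍(T))).index_mul_card,
        Nat.card_congr (subgroupOfEquivOfLe hTB).toEquiv]
      rfl
    have hle := Nat.le_of_dvd (by norm_num) h6
    generalize T.relIndex (H ⊓ 𝐍(T)) = m at *
    interval_cases m <;> omega
  · intro M hDM hBM
    have hg : Nat.gcd 2 (Fintype.card F - 1) = 2 := by
      obtain ⟨j, hj⟩ := ho
      rw [hj]
      simp
    obtain ⟨M₀, hM₀, ⟨f⟩⟩ : ∃ M₀ : Subgroup (Matrix.ProjectiveSpecialLinearGroup (Fin 2) F),
        IsCoatom M₀ ∧ Nonempty (M₀ ≃* DihedralGroup (2 * k)) := by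
      rcases hcard with hc | hc
      · have := Cfsg.Agent.S0812.result (F := F) rfl (by
          simp only [Finset.mem_insert, Finset.mem_singleton]; omega)
        rwa [hg, show (Fintype.card F - 1) / 2 = 2 * k by omega] at this
      · have := Cfsg.Agent.S0811.result (F := F) rfl (by
          simp only [Finset.mem_insert, Finset.mem_singleton]; omega)
        rwa [hg, show (Fintype.card F + 1) / 2 = 2 * k by omega] at this
    obtain ⟨z, z2, z1, hz⟩ := dih_cent (k := k) (by omega)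
    let ι : Matrix.ProjectiveSpecialLinearGroup (Fin 2) F →* G :=
      H.subtype.comp e.symm.toMonoidHom
    have hι : Function.Injective ι := H.subtype_injective.comp e.symm.injective
    have hL : ∀ x, ι x ∈ H := fun x => (e.symm x).2
    have hL' : ∀ y ∈ H, ∃ x, ι x = y := fun y hy => ⟨e ⟨y, hy⟩, by simp [ι]⟩
    let j : DihedralGroup (2 * k) →* G := ι.comp (M₀.subtype.comp f.symm.toMonoidHom)
    have hj : Function.Injective j := hι.comp (M₀.subtype_injective.comp f.symm.injective)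
    obtain ⟨g, gH, hgz⟩ := h0.inv_conj (u := j z) (hL _) (by rw [← map_mul, z2, map_one])
      (fun h => z1 (hj (by rw [h, map_one]))) ht t1
    let ι' : Matrix.ProjectiveSpecialLinearGroup (Fin 2) F →* G :=
      (MulAut.conj g).toMonoidHom.comp ι
    have hι' : Function.Injective ι' := (MulAut.conj g).injective.comp hι
    have hv' : ∀ x, ι' x = g * ι x * g⁻¹ := fun x => rfl
    have hK : ∀ x, ι' x ∈ H := fun x => H.mul_mem (H.mul_mem gH (hL x)) (H.inv_mem gH)
    have hK' : ∀ y ∈ H, ∃ x, ι' x = y := fun y hy => by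
      obtain ⟨x, hx⟩ := hL' (g⁻¹ * y * g) (H.mul_mem (H.mul_mem (H.inv_mem gH) hy) gH)
      exact ⟨x, by rw [hv', hx]; group⟩
    have hle : M₀.map ι' ≤ H ⊓ 𝐂[t] := by
      rintro _ ⟨x, hx, rfl⟩
      refine ⟨hK x, mem_centralizer_singleton_iff.2 ?_⟩
      have h1 : ι x = j (f ⟨x, hx⟩) := by simp [j]
      have h2 : ι x * j z = j z * ι x := by rw [h1, ← map_mul, ← map_mul, hz]
      rw [hv', ← hgz]
      calc g * ι x * g⁻¹ * (g * j z * g⁻¹) = g * (ι x * j z) * g⁻¹ := by group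
        _ = g * j z * g⁻¹ * (g * ι x * g⁻¹) := by rw [h2]; group
    have heq : M₀.map ι' = H ⊓ 𝐂[t] := by
      refine eq_of_le_of_card_ge hle ?_
      have : NeZero (2 * k) := ⟨by omega⟩
      rw [card_map_of_injective hι', Nat.card_congr f.toEquiv, DihedralGroup.nat_card, hR.idx, hRk]
    have hM : M₀ ≤ M.comap ι' := by
      rw [← map_le_iff_le_comap, heq]
      exact hDM
    have htop : M.comap ι' = ⊤ := by
      refine hM₀.2 _ (lt_of_le_of_ne hM fun h => bD ?_)
      obtain ⟨y, rfl⟩ := hK' b bH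
      have hy : y ∈ M.comap ι' := hBM ⟨bH, bN⟩
      rw [← h] at hy
      exact (hle ⟨y, hy, rfl⟩).2
    intro y hy
    obtain ⟨x, rfl⟩ := hK' y hy
    have : x ∈ M.comap ι' := htop ▸ mem_top x
    exact this

end H45.TS
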