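import Mathlib
import Cfsg.Agent.Lib.TS.BB
import Cfsg.Agent.Lib.TS.TO

/-! Inner case, one class of involutions: `|Fix T| = k`.  See `blueprint/TS/README.md`. -/

set_option autoImplicit false
set_option linter.unusedSectionVars false

namespace H45.TS

open Subgroup MulAction Cfsg H69 H45 H81
open H81.TP (T2)

universe u v

variable {G : Type u} [Group G] [Finite G] {Ω : Type v} [MulAction G Ω] [Finite Ω]
  {α β : Ω} {H T : Subgroup G}

local instance factI3b : Fact (Nat.Prime 2) := ⟨Nat.prime_two⟩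

namespace I3b

theorem pow_odd {t : G} (t2 : t * t = 1) {n : ℕ} (hn : Odd n) : t ^ n = t := by
  obtain ⟨m, rfl⟩ := hn
  rw [pow_succ, pow_mul, pow_two, t2, one_pow, one_mul]

theorem odd_mem {L K : Subgroup G} {t g : G} (h : CK L t K) (t2 : t * t = 1) (hg : g ∈ L)
    (c : g * t = t * g) {n : ℕ} (hn : Odd n) (e : g ^ n = 1) : g ∈ K := by
  refine (h.dec g hg c).resolve_right fun k => h.nmem ?_
  have := pow_mem k n
  rwa [(show Commute t g from c.symm).mul_pow, e, mul_one, pow_odd t2 hn] at this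

theorem exists_gen {R : Subgroup G} (hc : IsCyclic R) {k : ℕ} (hk : Nat.card R = 2 * k)
    (ho : Odd k) : ∃ ρ ∈ R, orderOf ρ = k ∧ ∀ x ∈ R, x ^ k = 1 → x ∈ zpowers ρ := by
  obtain ⟨g, hg⟩ := hc.exists_generator
  have h1 : orderOf (g : G) = 2 * k := by
    rw [orderOf_coe, orderOf_eq_card_of_forall_mem_zpowers hg, hk]
  refine ⟨g ^ 2, pow_mem g.2 2, ?_, fun x hx e => ?_⟩
  · rw [orderOf_pow' _ two_ne_zero, h1, Nat.gcd_mul_right_left, Nat.mul_div_cancel_left _ two_pos]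
  · obtain ⟨j, hj⟩ := hg ⟨x, hx⟩
    obtain ⟨m, rfl⟩ := ho
    have hj' : (g : G) ^ j = x := congrArg Subtype.val hj
    have : x = (x ^ 2) ^ (m + 1) := by
      rw [← pow_mul, show 2 * (m + 1) = 2 * m + 1 + 1 by ring, pow_succ, e, one_mul]
    rw [this]
    refine pow_mem (mem_zpowers_iff.2 ⟨j, ?_⟩) _
    rw [← hj', ← zpow_natCast, ← zpow_natCast, ← zpow_mul, ← zpow_mul, mul_comm]

theorem tor {K : Subgroup G} {F : Type} [Field F] [Fintype F]
    (hF : Fintype.card F = 5 ∨ ∃ m : ℕ, 1 ≤ m ∧ Fintype.card F = 3 ^ (2 * m + 1))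
    (e : K ≃* Matrix.ProjectiveSpecialLinearGroup (Fin 2) F) {v : G} (hv : v ∈ K) (v2 : v * v = 1)
    (v1 : v ≠ 1) : Odd (Fintype.card F) ∧ ∃ R, Tr K v R ∧ ((Fintype.card F = 5 ∧ Nat.card R = 2) ∨
      (Fintype.card F ≠ 5 ∧ ∃ p, Odd p ∧ Nat.card R = 2 * p ∧ Fintype.card F + 1 = 4 * p)) := by
  have h8 : Fintype.card F = 5 ∨ (Fintype.card F % 8 = 3 ∧ 27 ≤ Fintype.card F) := by
    refine hF.imp_right fun ⟨m, hm, h⟩ => ⟨?_, ?_⟩
    · rw [h, pow_succ, pow_mul, Nat.mul_mod, Nat.pow_mod]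
      simp
    · rw [h]
      exact Nat.pow_le_pow_right (n := 3) (i := 3) (by norm_num) (by omega)
  have ho : Odd (Fintype.card F) := Nat.odd_iff.2 (by omega)
  obtain ⟨R, hR, vR, hc⟩ := tor_psl ho (by omega) e hv v2 v1
  have : Fact (Nat.Prime 2) := ⟨Nat.prime_two⟩
  obtain ⟨p, hp⟩ : 2 ∣ Nat.card R :=
    orderOf_eq_prime (p := 2) (by rw [pow_two, v2]) v1 ▸ Subgroup.orderOf_dvd_natCard R vR
  refine ⟨ho, R, hR, h8.imp (fun h => ⟨h, by omega⟩) fun h => ⟨by omega, p, Nat.odd_iff.2 ?_, hp, ?_⟩⟩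
  all_goals omega

theorem pick {L K : Subgroup G} {t u : G} (h : CK L t K) (hu : u ∈ L) (c : u * t = t * u) :
    ∃ u' ∈ K, u' = u ∨ u' = t * u :=
  (h.dec u hu c).elim (fun k => ⟨u, k, Or.inl rfl⟩) fun k => ⟨_, k, Or.inr rfl⟩

theorem card_two {L K : Subgroup G} {t : G} (h : CK L t K) (tL : t ∈ L) :
    2 * Nat.card K ∣ Nat.card (𝐂[t] : Subgroup G) := by
  have hle : K ≤ L ⊓ 𝐂[t] := fun g hg => ⟨h.le hg, mem_centralizer_singleton_iff.2 (h.comm g hg)⟩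
  have h2 : K.relIndex (L ⊓ 𝐂[t]) = 2 := by
    refine relIndex_eq_two_iff.2 ⟨t, ⟨tL, mem_centralizer_singleton_iff.2 rfl⟩, fun b hb => ?_⟩
    have c := mem_centralizer_singleton_iff.1 hb.2
    by_cases k : b ∈ K
    · exact Or.inr ⟨k, fun k' => h.nmem ((mul_mem_cancel_left k).1 k')⟩
    · exact Or.inl ⟨c ▸ (h.dec b hb.1 c).resolve_left k, k⟩
  have := (K.subgroupOf (L ⊓ 𝐂[t])).index_mul_card
  rw [card_subgroupOf hle] at this
  rw [← h2]
  exact (dvd_of_eq this).trans (card_dvd_of_le inf_le_right)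

end I3b

open I3b in
theorem I3.f_eq {t z v : G} {L K R : Subgroup G} {k : ℕ} (h : I3 α β T t z L K)
    (hb : TB (H2 G α β) T t v R k) :
    (FS Ω T).ncard = k ∧ ∃ m : ℕ, 1 ≤ m ∧ 3 ^ (2 * m + 1) + 1 = 4 * k ∧
      3 ^ (2 * m + 1) * (3 ^ (2 * m + 1) - 1) * (3 ^ (2 * m + 1) + 1) ∣ Nat.card (𝐂[t] : Subgroup G) := by
  have t2 := h.w.sq t h.ht
  have ta := h.fixa h.ht
  have tb := h.fixb h.ht
  have hW := h.wittN
  have h3 := hb.three
  have nL := h.nrm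
  obtain ⟨F, _, _, hF, ⟨e⟩⟩ := h.ck.iso
  obtain ⟨v', vK, hv'⟩ := pick h.ck (h.le (h.w.le hb.hv)) (h.w.comm hb.hv h.ht)
  have vT : v' ∈ T := by
    rcases hv' with rfl | rfl
    exacts [hb.hv, mul_mem h.ht hb.hv]
  have v1 : v' ≠ 1 := by
    rcases hv' with rfl | rfl
    exacts [hb.v1, fun k => hb.tv (mul_left_cancel (t2.trans k.symm))]
  have cT : ∀ x : G, x * t = t * x → x * v' = v' * x → x ∈ 𝐂(T) := fun x c1 c2 => by
    have c3 : x * v = v * x := by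
      rcases hv' with rfl | rfl
      · exact c2
      · rwa [← mul_assoc, c1, mul_assoc, mul_assoc, mul_right_inj] at c2
    refine mem_centralizer_iff_commute.2 fun u hu => ?_
    rcases hb.mem u hu with rfl | rfl | rfl | rfl
    exacts [by simp, c1.symm, c3.symm, by rw [mul_assoc, ← c3, ← mul_assoc, ← c1, mul_assoc]]
  have zt := h.inn.cen t ta tb
  obtain ⟨z', zK, hz'⟩ := pick h.ck (h.inv z h.inn.sq) zt
  have z2 : z' * z' = 1 := by
    rcases hz' with rfl | rfl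
    exacts [h.inn.sq, by rw [mul_assoc, ← mul_assoc z, zt, mul_assoc, h.inn.sq, mul_one, t2]]
  have z1 : z' ≠ 1 := fun k => h.ne (by
    have : z' • α = β := by
      rcases hz' with rfl | rfl
      exacts [h.inn.sw, by rw [mul_smul, h.inn.sw, tb]]
    rwa [k, one_smul] at this)
  obtain ⟨ho, R₁, h₁, c₁⟩ := tor hF e vK (h.w.sq _ vT) v1
  obtain ⟨-, R₂, h₂, c₂⟩ := tor hF e zK z2 z1
  obtain ⟨ρ, ρR, oρ, -⟩ := exists_gen hb.tor.cyc hb.cardR hb.odd
  have ρH := hb.tor.le ρR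
  have ρ₂ : ρ ∈ R₂ := by
    by_contra k'
    have := (h₂.inv ρ (odd_mem h.ck t2 (h.le ρH) (hb.tor.comm ρ ρR) hb.odd
      (oρ ▸ pow_orderOf_eq_one ρ)) (by
        have := h.inn.cen ρ ρH.1 ρH.2
        rcases hz' with rfl | rfl
        exacts [this.symm, by rw [← mul_assoc, hb.tor.comm ρ ρR, mul_assoc, ← this, mul_assoc]]) k').1
    have := Nat.le_of_dvd two_pos (oρ ▸ orderOf_dvd_of_pow_eq_one ((pow_two ρ).trans this))
    omega
  have kd : k ∣ Nat.card R₂ := oρ ▸ Subgroup.orderOf_dvd_natCard R₂ ρ₂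
  rcases c₂ with ⟨-, c₂⟩ | ⟨n5, p, po, c₂, hp⟩
  · have := Nat.le_of_dvd two_pos (c₂ ▸ kd)
    omega
  obtain ⟨-, p', -, c₁, hp'⟩ := c₁.resolve_left fun k => n5 k.1
  obtain rfl : p' = p := by omega
  obtain ⟨d, hd⟩ : k ∣ p' := (Nat.coprime_two_right.2 hb.odd).dvd_of_dvd_mul_left (c₂ ▸ kd)
  obtain ⟨o, oR, oo, og⟩ := exists_gen h₁.cyc c₁ po
  have hO : ∀ x, x ∈ zpowers o ↔ x ∈ L ∧ x ∈ 𝐂(T) ∧ x ^ p' = 1 := fun x => by
    constructor
    · intro hx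
      have xR : x ∈ R₁ := zpowers_le.2 oR hx
      refine ⟨h.ck.le (h₁.le xR), cT x (h.ck.comm x (h₁.le xR)) (h₁.comm x xR), ?_⟩
      rw [← oo, ← Nat.card_zpowers]
      exact congrArg Subtype.val (pow_card_eq_one' (x := (⟨x, hx⟩ : zpowers o)))
    · rintro ⟨xL, xC, xp⟩
      by_cases xR : x ∈ R₁
      · exact og x xR xp
      have := (h₁.inv x (odd_mem h.ck t2 xL (xC t h.ht).symm po xp) (xC v' vT).symm xR).1
      rw [pow_odd this po] at xp
      exact xp ▸ one_mem _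
  have OC : zpowers o ≤ 𝐍(T) := le_normalizer_of_le_centralizer fun x hx => ((hO x).1 hx).2.1
  have NO : 𝐍(T) ≤ 𝐍(zpowers o) := fun g hg => mem_normalizer_fintype fun x hx => by
    obtain ⟨a, b, c⟩ := (hO x).1 hx
    exact (hO _).2 ⟨nL.conj_mem x a g, conj_mem_of_mem_normalizer
      (normalizer_le_normalizer_centralizer T hg) b, by rw [conj_pow, c]; simp⟩
  have fix2 : ∀ x ∈ zpowers o, x • α = α → x • β = β → x = 1 := fun x hx a b => by
    obtain ⟨-, c, xp⟩ := (hO x).1 hx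
    rwa [pow_odd (h.w.sq x (h.w.cent x ⟨a, b⟩ c)) po] at xp
  have d0 : 0 < d := Nat.pos_of_ne_zero (by rintro rfl; exact po.pos.ne' hd)
  have o1 : o ≠ 1 := fun k' => by
    rw [k', orderOf_one] at oo
    nlinarith
  have tr : ∀ b ∈ FS Ω T, ∃ g ∈ zpowers o, g • α = b := fun b hb' => by
    by_cases a : o • α = α
    · exact T2_ntr hW OC NO (mem_zpowers o) hW.mb (fun k' => o1 (fix2 o (mem_zpowers o) a k'))
        hW.ma hb'
    · exact T2_ntr hW OC NO (mem_zpowers o) hW.ma a hW.ma hb'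
  have fix1 : ∀ x ∈ zpowers o, x • α = α → x = 1 := fun x hx a => by
    obtain ⟨y, hy, yb⟩ := tr β hW.mb
    refine fix2 x hx a ?_
    obtain ⟨i, rfl⟩ := hx
    obtain ⟨j, rfl⟩ := hy
    rw [← yb, ← mul_smul, (Commute.zpow_zpow_self o i j).eq, mul_smul, a]
  have hf := card_of_tr (fun g hg => hW.inv g (OC hg)) hW.ma tr
  rw [Nat.card_zpowers, oo, (eq_bot_iff_forall (zpowers o ⊓ stabilizer G α)).2
    fun x hx => fix1 x hx.1 hx.2, card_bot, mul_one] at hf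
  have hk : p' = k := by
    have od : o ^ d ∈ zpowers o := pow_mem (mem_zpowers o) d
    have od1 : o ^ d ≠ 1 := pow_ne_one_of_lt_orderOf d0.ne' (by rw [oo, hd]; nlinarith)
    obtain ⟨g₁, n₁, a₁, b₁⟩ := hW.tr α hW.ma (o • α) (hW.inv _ (OC (mem_zpowers o)) α hW.ma)
      fun k' => o1 (fix1 o (mem_zpowers o) k'.symm)
    obtain ⟨g₂, n₂, a₂, b₂⟩ := hW.tr α hW.ma (o ^ d • α) (hW.inv _ (OC od) α hW.ma)
      fun k' => od1 (fix1 _ od k'.symm)
    have := fix1 ((o ^ d)⁻¹ * (g₂ * g₁⁻¹ * o * (g₂ * g₁⁻¹)⁻¹)) (mul_mem (inv_mem od)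
      (conj_mem_of_mem_normalizer (NO (mul_mem n₂ (inv_mem n₁))) (mem_zpowers o))) (by
        simp only [mul_inv_rev, inv_inv, mul_smul]
        rw [inv_smul_eq_iff.2 a₂.symm, a₁, ← b₁, inv_smul_smul, b₂, inv_smul_smul])
    rw [inv_mul_eq_one] at this
    have e1 : (o ^ d) ^ k = 1 := by rw [← pow_mul, mul_comm, ← hd, ← oo, pow_orderOf_eq_one]
    rw [this, conj_pow, conj_eq_one_iff] at e1
    exact Nat.dvd_antisymm (oo ▸ orderOf_dvd_of_pow_eq_one e1) ⟨d, hd⟩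
  obtain ⟨m, hm, hF⟩ := hF.resolve_left n5
  refine ⟨hf.symm.trans hk, m, hm, by rw [← hF, hp, hk], ?_⟩
  rw [← hF, ← card_psl ho e]
  exact card_two h.ck (h.le (h.w.le h.ht))

end H45.TS
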