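import Mathlib
import Cfsg.Agent.Lib.TS.I3b

/-! Inner case, one class of involutions: the count.  See `blueprint/TS/README.md`. -/

set_option autoImplicit false
set_option linter.unusedSectionVars false

namespace H45.TS

open Subgroup MulAction Cfsg H69 H45 H81
open H81.TP (T2)

universe u v

variable {G : Type u} [Group G] [Finite G] {Ω : Type v} [MulAction G Ω] [Finite Ω]
  {α β : Ω} {H T : Subgroup G}

local instance factI3c : Fact (Nat.Prime 2) := ⟨Nat.prime_two⟩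

namespace I3c

theorem cyc_two {R : Subgroup G} (hR : IsCyclic R) {t u : G} (ht : t ∈ R) (hu : u ∈ R)
    (t2 : t * t = 1) (t1 : t ≠ 1) (u2 : u * u = 1) : u = 1 ∨ u = t := by
  classical
  have := Fintype.ofFinite R
  by_contra k
  push Not at k
  have l := (Finset.card_le_card (s := {1, ⟨t, ht⟩, ⟨u, hu⟩}) (by
    intro x hx
    simp only [Finset.mem_insert, Finset.mem_singleton] at hx
    rcases hx with rfl | rfl | rfl <;> simp [sq, Subtype.ext_iff, t2, u2])).trans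
      (IsCyclic.card_pow_eq_one_le (α := R) two_pos)
  rw [Finset.card_eq_three.2 ⟨_, _, _, by simpa [Subtype.ext_iff] using t1.symm,
    by simpa [Subtype.ext_iff] using k.1.symm, by simpa [Subtype.ext_iff] using k.2.symm, rfl⟩] at l
  omega

theorem fix_mul (t u : G) :
    {x | x ∈ Fx Ω t ∧ (t * u) • x = x ∧ t * u = u * t} = {x | x ∈ Fx Ω t ∧ u • x = x ∧ t * u = u * t} := by
  ext x
  refine and_congr_right fun hx => and_congr_left fun e => ?_
  rw [e, mul_smul, mem_Fx.1 hx]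

theorem fix_mul' {t u : G} (e : u * t = t * u) :
    {x | x ∈ Fx Ω t ∧ (t * u) • x = x} = {x | x ∈ Fx Ω t ∧ u • x = x} := by
  simpa only [e.symm, and_true] using fix_mul (Ω := Ω) t u

theorem arith {k i m : ℕ} (hm : 1 ≤ m) (hk : 3 ^ (2 * m + 1) + 1 = 4 * k)
    (hi : (2 * k : ℤ) * (i - k) = (2 * k + 2) * (k * (k - 1)))
    (hd : 3 ^ (2 * m + 1) * (3 ^ (2 * m + 1) - 1) * (3 ^ (2 * m + 1) + 1) ∣
      i * ((i - 1) * (2 * (2 * k)))) : False := by
  have k0 : 0 < k := by omega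
  have e : (i : ℤ) = k * k + k - 1 :=
    mul_left_cancel₀ (a := (2 * k : ℤ)) (by positivity) (by linear_combination hi)
  have i1 : 1 ≤ i := by nlinarith
  rw [hk, show i * ((i - 1) * (2 * (2 * k))) = i * (i - 1) * (4 * k) by ring,
    Nat.mul_dvd_mul_iff_right (by omega)] at hd
  have h1 : 3 ^ (2 * m + 1) ∣ 297 := by
    have d := Int.natCast_dvd_natCast.2 ((dvd_mul_right _ _).trans hd)
    generalize 3 ^ (2 * m + 1) = r at hk d
    have hk' : (r : ℤ) + 1 = 4 * k := by exact_mod_cast hk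
    rw [Nat.cast_mul, Nat.cast_sub i1, Nat.cast_one] at d
    have d' := Dvd.dvd.mul_left d 256
    rw [show 256 * ((i : ℤ) * (i - 1)) = 297 + r * (r ^ 3 + 12 * r ^ 2 - 2 * r - 228) by
      rw [e, show (r : ℤ) = 4 * k - 1 by linarith]; ring] at d'
    exact_mod_cast (dvd_add_left (dvd_mul_right _ _)).1 d'
  obtain rfl : m = 1 := by
    by_contra n
    exact absurd ((pow_dvd_pow 3 (show 4 ≤ 2 * m + 1 by omega)).trans h1) (by norm_num)
  obtain rfl : k = 7 := by omega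
  obtain rfl : i = 55 := by omega
  norm_num at hd

end I3c
open I3c

theorem I3.i_eq {t z v : G} {L K R : Subgroup G} {k : ℕ} (h : I3 α β T t z L K)
    (hb : TB (H2 G α β) T t v R k) :
    (2 * k : ℤ) * ((Fx Ω t).ncard - (FS Ω T).ncard) =
      (2 * k + 2) * ((FS Ω T).ncard * ((FS Ω T).ncard - 1)) := by
  have t2 := h.w.sq t h.ht
  have ta := h.toCf.fixa h.ht
  have zt := h.inn.cen t ta (h.toCf.fixb h.ht)
  have k0 : ∀ u, u * u = 1 → u ≠ 1 → u ≠ t → u * t = t * u → ∃ u' ∈ K, u' * u' = 1 ∧ u' ≠ 1 ∧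
      {x | x ∈ Fx Ω t ∧ u' • x = x} = {x | x ∈ Fx Ω t ∧ u • x = x} := fun u u2 u1 ut c => by
    rcases h.ck.dec u (h.inv u u2) c with k | k
    · exact ⟨u, k, u2, u1, rfl⟩
    · refine ⟨_, k, ?_, fun e => ut ?_, fix_mul' c⟩
      · rw [mul_assoc, ← mul_assoc u, c, mul_assoc, u2, mul_one, t2]
      · rw [← mul_one t, ← e, ← mul_assoc, t2, one_mul]
  obtain ⟨v', vK, v2, v1, ev⟩ := k0 v (h.w.sq v hb.hv) hb.v1 hb.tv.symm (h.w.comm hb.hv h.ht)
  have eT : {x | x ∈ Fx Ω t ∧ v • x = x} = FS Ω T := by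
    ext x
    refine ⟨fun hx u hu => ?_, fun hx => ⟨hx t h.ht, hx v hb.hv⟩⟩
    rcases hb.mem u hu with rfl | rfl | rfl | rfl
    exacts [one_smul _ _, hx.1, hx.2, by rw [mul_smul, hx.2, mem_Fx.1 hx.1]]
  have dc := (h.toCf.wittC h.ht h.t1).dc (D := {u | u * u = 1 ∧ u ≠ 1 ∧ u ≠ t ∧ u * t = t * u})
    (fun u hu => mem_centralizer_singleton_iff.2 hu.2.2.2) (fun g hg u hu => by
      have e := mul_inv_eq_iff_eq_mul.2 (mem_centralizer_singleton_iff.1 hg)
      refine ⟨by rw [conj_mul, hu.1, mul_one, mul_inv_cancel], by simpa using hu.2.1, fun k => hu.2.2.1 ?_,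
        by rw [← e, conj_mul, conj_mul, hu.2.2.2]⟩
      rwa [← e, mul_left_inj, mul_right_inj] at k) (f := (FS Ω T).ncard) fun u hu => by
      obtain ⟨u', uK, u2, u1, eu⟩ := k0 u hu.1 hu.2.1 hu.2.2.1 hu.2.2.2
      obtain ⟨g, hg, rfl⟩ := h.cj v' vK v2 v1 u' uK u2 u1
      have := ncard_two_conj (Ω := Ω) t v' g
      rwa [mul_inv_eq_iff_eq_mul.2 (h.ck.comm g hg), eu, ev, eT] at this
  have RD : (R : Set G) ⊆ (H2 G α β ⊓ 𝐂[t] : Subgroup G) := fun r hr =>
    ⟨hb.tor.le hr, mem_centralizer_singleton_iff.2 (hb.tor.comm r hr)⟩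
  have c0 : (((H2 G α β ⊓ 𝐂[t] : Subgroup G) : Set G) \ R).ncard = 2 * k := by
    have e1 := hb.tor.idx
    have e2 := hb.cardR
    rw [Set.ncard_diff RD]
    change Nat.card (H2 G α β ⊓ 𝐂[t] : Subgroup G) - Nat.card R = _
    omega
  have sq : ∀ d ∈ ((H2 G α β ⊓ 𝐂[t] : Subgroup G) : Set G) \ R, d * d = 1 := fun d hd =>
    (hb.tor.inv d hd.1.1 (mem_centralizer_singleton_iff.1 hd.1.2) hd.2).1
  have e1 : {u | u ∈ {u | u * u = 1 ∧ u ≠ 1 ∧ u ≠ t ∧ u * t = t * u} ∧ (u • α = α ∧ u • β = β)} =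
      ((H2 G α β ⊓ 𝐂[t] : Subgroup G) : Set G) \ R := by
    ext u
    refine ⟨fun hu => ⟨⟨hu.2, mem_centralizer_singleton_iff.2 hu.1.2.2.2⟩, fun k => ?_⟩, fun hu =>
      ⟨⟨sq u hu, fun e => hu.2 (e ▸ one_mem R), fun e => hu.2 (e ▸ hb.tR),
        mem_centralizer_singleton_iff.1 hu.1.2⟩, hu.1.1⟩⟩
    exact (cyc_two hb.tor.cyc hb.tR k t2 h.t1 hu.1.1).elim hu.1.2.1 hu.1.2.2.1
  have e2 : {u | u ∈ {u | u * u = 1 ∧ u ≠ 1 ∧ u ≠ t ∧ u * t = t * u} ∧ u • α = β} =
      (fun d => z * d) '' insert 1 (insert t (((H2 G α β ⊓ 𝐂[t] : Subgroup G) : Set G) \ R)) := by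
    ext u
    constructor
    · rintro ⟨⟨u2, -, -, c⟩, ua⟩
      have ub : u • β = α := by rw [← ua, ← mul_smul, u2, one_smul]
      have da : (z * u) • α = α := by rw [mul_smul, ua, h.inn.sb]
      have db : (z * u) • β = β := by rw [mul_smul, ub, h.inn.sw]
      have zd := h.inn.cen _ da db
      rw [mul_assoc, mul_right_inj] at zd
      refine ⟨z * u, ?_, by simp only [← mul_assoc, h.inn.sq, one_mul]⟩
      by_cases k : z * u ∈ R
      · rcases cyc_two hb.tor.cyc hb.tR k t2 h.t1 (by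
          rw [mul_assoc, ← mul_assoc u, ← zd, mul_assoc, u2, mul_one, h.inn.sq]) with e | e
        exacts [Or.inl e, Or.inr (Or.inl e)]
      · exact Or.inr (Or.inr ⟨⟨⟨da, db⟩, mem_centralizer_singleton_iff.2 (by
          rw [mul_assoc, c, ← mul_assoc, zt, mul_assoc])⟩, k⟩)
    · rintro ⟨d, hd, rfl⟩
      obtain ⟨⟨da, db⟩, c, d2⟩ : (d • α = α ∧ d • β = β) ∧ d * t = t * d ∧ d * d = 1 := by
        rcases hd with rfl | rfl | hd
        exacts [by simp, ⟨⟨ta, h.toCf.fixb h.ht⟩, rfl, t2⟩,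
          ⟨hd.1.1, mem_centralizer_singleton_iff.1 hd.1.2, sq d hd⟩]
      have ua : (z * d) • α = β := by rw [mul_smul, da, h.inn.sw]
      exact ⟨⟨by rw [mul_assoc, ← mul_assoc d, ← h.inn.cen d da db, mul_assoc, d2, mul_one, h.inn.sq],
        fun e : z * d = 1 => h.ne (by rw [← ua, e, one_smul]),
        fun e : z * d = t => h.ne (by rw [← ua, e, ta]),
        by rw [mul_assoc, c, ← mul_assoc, zt, mul_assoc]⟩, ua⟩
  rw [e1, e2, Set.ncard_image_of_injective _ (mul_right_injective z),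
    Set.ncard_insert_of_notMem (by
      rintro (e | e)
      exacts [h.t1 e.symm, e.2 (one_mem R)]), Set.ncard_insert_of_notMem fun e => e.2 hb.tR, c0] at dc
  push_cast at dc
  linear_combination dc

theorem I3.fin {t z v : G} {L K R : Subgroup G} {k : ℕ} (h : I3 α β T t z L K)
    (hb : TB (H2 G α β) T t v R k) : False := by
  obtain ⟨e, m, hm, hk, hd⟩ := h.f_eq hb
  have hi := h.i_eq hb
  rw [h.toCf.card_C h.ht h.t1, hb.tor.idx, hb.cardR] at hd
  rw [e] at hi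
  exact arith hm hk hi hd

end H45.TS
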