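import Mathlib
import Cfsg.Agent.Lib.TS.J0
import Cfsg.Agent.Lib.Inv73.ZStar
import Cfsg.Agent.Lib.Invol.BaerSuzuki

/-! Inner case, `z ≁ t`: the regular normal subgroup.  See `blueprint/TS/README.md`. -/

set_option autoImplicit false
set_option linter.unusedSectionVars false

namespace H45.TS

open Subgroup MulAction Cfsg H69 H45 H81
open H81.TP (T2)

universe u v

variable {G : Type u} [Group G] [Finite G] {Ω : Type v} [MulAction G Ω] [Finite Ω]
  {α β : Ω} {H T : Subgroup G}

local instance factJR : Fact (Nat.Prime 2) := ⟨Nat.prime_two⟩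

theorem J1.reg_odd {t z : G} (h : J1 α β T t z) (ho : Odd (Nat.card Ω)) : HasReg G Ω := by
  haveI := h.toCf.faithful
  have s2 := h.inn.sq
  have s1 : z ≠ 1 := fun e => h.ne (by rw [← h.inn.sw, e, one_smul])
  have ho2 : orderOf z = 2 := orderOf_eq_prime (by rw [pow_two, s2]) s1
  have e : centralizer ({z} : Set G) ⊔ oddCore G = ⊤ := by
    refine H73.centralizer_sup_oddCore_eq_top' ho2 fun g hg => ?_
    obtain ⟨γ, -, e⟩ := TP.exists_fix_elt (p := 2) (g := z) (by rw [pow_two, s2])
      (Set.toFinite (Set.univ : Set Ω)) (fun _ _ => trivial)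
      (by rwa [Set.ncard_univ, ← even_iff_two_dvd, Nat.not_even_iff_odd])
    have e' : (g * z * g⁻¹) • γ = γ := h.le_one (IsConj.refl z)
      (by rw [← mul_smul, ← hg.eq, mul_smul, e]) e
    exact eq_of_smul_eq_smul fun x => h.toCf.top.uq (R := {r | IsConj z r}) (fun _ _ => trivial)
      (fun g _ u hu => hu.trans (isConj_iff.2 ⟨g, rfl⟩))
      (fun r hr a _ b _ => h.le_one hr)
      (fun r hr r' hr' e h1 x _ => by rw [h.uq hr hr' e h1])
      (isConj_iff.2 ⟨g, rfl⟩) (IsConj.refl z) (Set.mem_univ γ) e' e x trivial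
  by_cases hO : oddCore G = ⊥
  · rw [hO, sup_bot_eq] at e
    exact hasReg_of_central h.toCf.two' s1 fun g =>
      (mem_centralizer_singleton_iff.1 (e ▸ mem_top g : g ∈ centralizer ({z} : Set G)))
  · exact hasReg_of_odd h.toCf.two' (oddCore G) hO H1.odd_card_oddCore

theorem J1.reg_pow {t z : G} (h : J1 α β T t z) (he : Even (Nat.card Ω)) {k : ℕ}
    (hk : Nat.card Ω = 2 ^ k) : HasReg G Ω := by
  haveI := h.toCf.faithful
  have s2 := h.inn.sq
  have s1 : z ≠ 1 := fun e => h.ne (by rw [← h.inn.sw, e, one_smul])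
  have hk' : (Set.univ : Set Ω).ncard = 2 ^ k := by rw [Set.ncard_univ, hk]
  have hp := H9.isPGroup_normalClosure_of_forall_conj (p := 2) (x := z) fun g => by
    obtain ⟨j, hj⟩ := TP.sr h.toCf.top.inv hk' (R := {r | IsConj z r})
      (fun _ _ => trivial) (fun g _ u hu => hu.trans (isConj_iff.2 ⟨g, rfl⟩))
      (fun r hr => h.sq hr)
      (fun r hr r' hr' a _ e x _ => by rw [h.uq hr hr' e (h.fpf he hr a)])
      (fun g _ e => by rw [h.faith g fun x => e x trivial, one_mul]) (IsConj.refl z)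
      (isConj_iff.2 ⟨g, rfl⟩)
    exact H9.isPGroup_closure_pair s2 (by rw [conj_mul, s2]; simp) (hj ▸ pow_orderOf_eq_one _)
  haveI := hp.isNilpotent
  exact hasReg_of_solvable h.toCf.two' (normalClosure {z}) (fun e => s1
    (mem_bot.1 (e ▸ subset_normalClosure (Set.mem_singleton z)))) inferInstance

end H45.TS
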