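import Mathlib
import Cfsg.Agent.Lib.TS.BB

/-! Outer case, type `L₂(2^m)`: the data.  See `blueprint/TS/README.md`. -/

set_option autoImplicit false
set_option linter.unusedSectionVars false

namespace H45.TS

open Subgroup MulAction Cfsg H69 H45 H81
open H81.TP (T2)

universe u v

variable {G : Type u} [Group G] [Finite G] {Ω : Type v} [MulAction G Ω] [Finite Ω]
  {α β : Ω} {H T : Subgroup G}

local instance factOA1 : Fact (Nat.Prime 2) := ⟨Nat.prime_two⟩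

/-- an involution normalising a Singer cycle of an elementary abelian `2`-group -/
theorem OA1.key {V : Type*} [Group V] [Finite V] (sq : ∀ v : V, v * v = 1) {r σ : MulAut V}
    (σ2 : σ * σ = 1) (σ1 : σ ≠ 1) (hn : σ * r * σ⁻¹ ∈ zpowers r)
    (ho : orderOf r + 1 = Nat.card V)
    (fpf : ∀ x ∈ zpowers r, ∀ v, v ≠ 1 → x v = v → x = 1)
    (tr : ∀ u, u ≠ 1 → ∀ v, v ≠ 1 → ∃ x ∈ zpowers r, x u = v)
    {U : Subgroup V} (hU : ∀ v, v ∈ U ↔ σ v = v) :
    Nat.card V = Nat.card U ^ 2 ∧ (∃ t, t ≠ 1 ∧ σ t = t) ∧ (∀ u, σ u = u → ∃ w, σ w * w = u) ∧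
      σ * r ^ (Nat.card U - 1) * σ⁻¹ * r ^ (Nat.card U - 1) = 1 := by
  have inv : ∀ v : V, v⁻¹ = v := fun v => inv_eq_of_mul_eq_one_right (sq v)
  have cm : ∀ a b : V, a * b = b * a := fun a b => by rw [← inv (a * b), mul_inv_rev, inv, inv]
  have σσ : ∀ v, σ (σ v) = v := fun v => by rw [← MulAut.mul_apply, σ2, MulAut.one_apply]
  let φ : V →* V := MonoidHom.mk' (fun w => σ w * w) fun a b => by
    rw [map_mul, mul_assoc, mul_assoc, ← mul_assoc (σ b), cm (σ b) a, mul_assoc]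
  have φa : ∀ w, φ w = σ w * w := fun _ => rfl
  have hk : φ.ker = U := by
    ext w
    rw [MonoidHom.mem_ker, hU, φa, mul_eq_one_iff_eq_inv, inv]
  have hr : φ.range ≤ U := by
    rintro _ ⟨w, rfl⟩
    rw [hU, φa, map_mul, σσ, cm]
  have hc : Nat.card U * Nat.card φ.range = Nat.card V := by
    rw [← index_ker, hk, card_mul_index]
  have hle : Nat.card φ.range ≤ Nat.card U := card_le_of_le hr
  have hne : φ.range ≠ ⊥ := fun e => σ1 (MulEquiv.ext fun w => by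
    have : φ w = 1 := mem_bot.1 (e ▸ ⟨w, rfl⟩)
    rwa [φa, mul_eq_one_iff_eq_inv, inv] at this)
  obtain ⟨⟨t, ht⟩, t1⟩ := ne_bot_iff_exists_ne_one.1 hne
  have t1' : t ≠ 1 := fun e => t1 (Subtype.ext e)
  have σt : σ t = t := (hU t).1 (hr ht)
  have nz : ∀ x ∈ zpowers r, σ * x * σ⁻¹ ∈ zpowers r := by
    rintro _ ⟨k, rfl⟩
    rw [← conj_zpow]
    exact zpow_mem hn k
  have cz : ∀ x ∈ zpowers r, ∀ y ∈ zpowers r, x * y = y * x := by
    rintro _ ⟨k, rfl⟩ _ ⟨l, rfl⟩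
    exact zpow_mul_comm r k l
  -- the centraliser of `σ` in the cycle
  let A : Subgroup (MulAut V) := zpowers r ⊓ centralizer {σ}
  have hA : Nat.card A + 1 = Nat.card U := by
    let f : A → {v : U // v ≠ 1} := fun x => ⟨⟨x.1 t, (hU _).2 (by
      rw [← MulAut.mul_apply, ← mem_centralizer_singleton_iff.1 x.2.2, MulAut.mul_apply, σt])⟩,
      fun e => t1' ((map_eq_one_iff _ x.1.injective).1 (congrArg Subtype.val e))⟩
    have hf : Function.Bijective f := by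
      refine ⟨fun x y e => ?_, fun v => ?_⟩
      · have e' : x.1 t = y.1 t := congrArg (fun z => z.1.1) e
        have := fpf (y.1⁻¹ * x.1) (mul_mem (inv_mem y.2.1) x.2.1) t t1'
          (by rw [MulAut.mul_apply, e', ← MulAut.mul_apply, inv_mul_cancel, MulAut.one_apply])
        exact Subtype.ext (inv_mul_eq_one.1 this).symm
      · obtain ⟨x, hx, e⟩ := tr t t1' v.1.1 fun e => v.2 (Subtype.ext e)
        have σt' : σ⁻¹ t = t := by rw [inv_eq_of_mul_eq_one_right σ2, σt]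
        have := fpf (x⁻¹ * (σ * x * σ⁻¹)) (mul_mem (inv_mem hx) (nz x hx)) t t1' (by
          rw [MulAut.mul_apply, MulAut.mul_apply, MulAut.mul_apply, σt', e, (hU _).1 v.1.2, ← e,
            ← MulAut.mul_apply, inv_mul_cancel, MulAut.one_apply])
        refine ⟨⟨x, hx, mem_centralizer_singleton_iff.2 ?_⟩, Subtype.ext (Subtype.ext e)⟩
        rw [inv_mul_eq_one, eq_mul_inv_iff_mul_eq] at this
        exact this
    rw [Nat.card_eq_of_bijective f hf]
    classical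
    have := Fintype.ofFinite U
    rw [Nat.card_eq_fintype_card, Nat.card_eq_fintype_card, Fintype.card_subtype_compl,
      Fintype.card_subtype_eq]
    exact Nat.sub_add_cancel Fintype.card_pos
  have hd : Nat.card A ∣ orderOf r := Nat.card_zpowers r ▸ card_dvd_of_le inf_le_left
  have h2 : 1 < Nat.card φ.range := (one_lt_card_iff_ne_bot _).2 hne
  have he : Nat.card φ.range = Nat.card U := by
    obtain ⟨e, he⟩ : ∃ e, Nat.card φ.range = e + 1 := ⟨Nat.card φ.range - 1, by omega⟩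
    have h3 : orderOf r = Nat.card A * (e + 1) + e := by
      rw [← hA, he, ← ho] at hc
      have : (Nat.card A + 1) * (e + 1) = Nat.card A * (e + 1) + e + 1 := by ring
      omega
    rw [h3] at hd
    have := Nat.le_of_dvd (by omega) ((Nat.dvd_add_right (dvd_mul_right _ _)).1 hd)
    omega
  refine ⟨by rw [← hc, he, pow_two], ⟨t, t1', σt⟩, fun u hu => ?_, ?_⟩
  · have : φ.range = U := eq_of_le_of_card_ge hr he.ge
    exact this.ge ((hU u).2 hu)
  · have m : σ * r * σ⁻¹ * r ∈ A := ⟨mul_mem hn (mem_zpowers r), mem_centralizer_singleton_iff.2 (by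
      rw [cz _ hn r (mem_zpowers r), inv_eq_of_mul_eq_one_right σ2]
      calc r * (σ * r * σ) * σ = r * σ * r * (σ * σ) := by group
        _ = (σ * σ) * r * σ * r := by rw [σ2]; group
        _ = σ * (σ * r * σ⁻¹ * r) := by rw [inv_eq_of_mul_eq_one_right σ2]; group
        _ = _ := by rw [cz _ hn r (mem_zpowers r), inv_eq_of_mul_eq_one_right σ2])⟩
    have := congrArg Subtype.val (pow_card_eq_one' (x := (⟨_, m⟩ : A)))
    have c : Commute (σ * r * σ⁻¹) r := cz _ hn r (mem_zpowers r)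
    rw [← hA, Nat.add_sub_cancel, ← conj_pow, ← c.mul_pow]
    exact this

theorem oa1 (h : Cf α β T) (hA : WA (H2 G α β) T) (h8 : 8 ≤ Nat.card T) {s : G}
    (hs : Out α β T s) : ∃ t κ q, OA α β T s t κ q := by
  obtain ⟨ρ, ρH, ρN, ρo, ρc⟩ := hA.cyc
  obtain ⟨m, hm⟩ := IsPGroup.iff_card.1 h.w.two
  have odd : Odd (orderOf ρ) := by
    rcases m with _ | m
    · rw [hm] at h8; omega
    · rw [hm, pow_succ] at ρo
      exact ⟨2 ^ m - 1, by have := Nat.two_pow_pos m; omega⟩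
  have F0 : ∀ k : ℕ, ρ ^ k ∈ T → orderOf ρ ∣ k := fun k hk => by
    have := h.w.sq _ hk
    rw [← pow_add, ← two_mul, ← orderOf_dvd_iff_pow_eq_one] at this
    exact (Nat.Coprime.dvd_mul_left (Nat.coprime_two_right.2 odd)).1 this
  let c := T.normalizerMonoidHom
  have ca : ∀ (g : (𝐍(T) : Subgroup G)) (v : T), (c g v : G) = g * v * (g : G)⁻¹ := fun _ _ => rfl
  have cT : ∀ u (hu : u ∈ T), c ⟨u, le_normalizer hu⟩ = 1 := fun u hu => MulEquiv.ext fun v =>
    Subtype.ext (by rw [ca, h.w.comm hu v.2, mul_inv_cancel_right]; rfl)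
  have ck : ∀ g : (𝐍(T) : Subgroup G), c g = 1 → (g : G) ∈ 𝐂(T) := fun g e v hv => by
    have := ca g ⟨v, hv⟩
    rw [e, eq_mul_inv_iff_mul_eq] at this
    exact this
  set r := c ⟨ρ, ρN⟩ with hr
  have cB : ∀ (k : ℕ) (u) (_ : u ∈ T) (hb : ρ ^ k * u ∈ 𝐍(T)), c ⟨_, hb⟩ = r ^ k := fun k u hu hb => by
    rw [← mul_one (r ^ k), ← cT u hu, ← map_pow, ← map_mul]; rfl
  have cB' : ∀ b (_ : b ∈ H2 G α β) (hb : b ∈ 𝐍(T)), c ⟨b, hb⟩ ∈ zpowers r := fun b bH hb => by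
    obtain ⟨k, u, hu, rfl⟩ := ρc b bH hb
    rw [cB k u hu]
    exact pow_mem (mem_zpowers r) k
  have ro : orderOf r = orderOf ρ := by
    refine Nat.dvd_antisymm ((orderOf_map_dvd c _).trans (Subgroup.orderOf_mk _ _).dvd) (F0 _ ?_)
    refine h.w.cent _ (pow_mem ρH _) (ck (⟨ρ, ρN⟩ ^ orderOf r) ?_)
    rw [map_pow, pow_orderOf_eq_one]
  have sH := h.norm_H hs.sw hs.sb
  obtain ⟨k1, ⟨t, t1, σt⟩, k3, k4⟩ := OA1.key (V := T) (r := r) (σ := c ⟨s, hs.nrm⟩)
    (U := (T ⊓ 𝐂[s]).subgroupOf T) (fun v => Subtype.ext (h.w.sq _ v.2))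
    (by rw [← map_mul, ← map_one c]; exact congrArg c (Subtype.ext hs.sq))
    (fun e => hs.no s hs.sw hs.sb (ck _ e))
    (by
      rw [← map_inv, ← map_mul, ← map_mul]
      exact cB' _ (conj_mem_of_mem_normalizer sH ρH) _)
    (ro ▸ ρo)
    (fun x hx v v1 e => by
      obtain ⟨k, rfl⟩ := (mem_powers_iff_mem_zpowers.2 hx)
      have e' := ca (⟨ρ, ρN⟩ ^ k) v
      rw [map_pow, e, eq_mul_inv_iff_mul_eq] at e'
      exact orderOf_dvd_iff_pow_eq_one.1 (ro ▸ F0 k (hA.cen v v.2 (fun e => v1 (Subtype.ext e)) _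
        (pow_mem ρH k) e'.symm)))
    (fun u u1 v v1 => by
      obtain ⟨b, bH, bN, e⟩ := h.w.tr u u.2 (fun e => u1 (Subtype.ext e)) v v.2
        (fun e => v1 (Subtype.ext e))
      exact ⟨_, cB' b bH bN, Subtype.ext e⟩)
    (fun v => by
      rw [mem_subgroupOf, Subtype.ext_iff, ca, mul_inv_eq_iff_eq_mul, mem_inf,
        mem_centralizer_singleton_iff]
      exact ⟨fun e => e.2.symm, fun e => ⟨v.2, e.symm⟩⟩)
  rw [Nat.card_congr (subgroupOfEquivOfLe inf_le_left).toEquiv] at k1 k4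
  obtain ⟨a, ha⟩ := IsPGroup.iff_card.1 (h.w.two.to_le (inf_le_left : T ⊓ 𝐂[s] ≤ T))
  set q := Nat.card (T ⊓ 𝐂[s] : Subgroup G) with hq
  have q3 : 3 ≤ q := by nlinarith
  have oρ : orderOf ρ = (q - 1) * (q + 1) := by
    obtain ⟨p, hp⟩ : ∃ p, q = p + 1 := ⟨q - 1, by omega⟩
    rw [k1, hp] at ρo
    rw [hp, Nat.add_sub_cancel]
    nlinarith
  have κN := pow_mem ρN (q - 1)
  have κH := pow_mem ρH (q - 1)
  refine ⟨t, ρ ^ (q - 1), q, h, hA, hs, t.2, fun e => t1 (Subtype.ext e), ?_, ⟨a, ?_, ha⟩, rfl, k1,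
    fun u hu e => ?_, κH, κN, ?_, ?_, fun b bH bN e => ?_⟩
  · have := ca ⟨s, hs.nrm⟩ t
    rw [σt, eq_mul_inv_iff_mul_eq] at this
    exact this.symm
  · by_contra hlt
    have : a = 0 ∨ a = 1 := by omega
    rcases this with rfl | rfl <;> omega
  · obtain ⟨w, e'⟩ := k3 ⟨u, hu⟩ (Subtype.ext (by rw [ca, mul_inv_eq_iff_eq_mul]; exact e))
    have e2 : s * w * s⁻¹ * w = u := congrArg Subtype.val e'
    refine ⟨w, w.2, ?_⟩
    rw [← e2, inv_eq_of_mul_eq_one_right hs.sq, inv_eq_of_mul_eq_one_right (h.w.sq _ w.2),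
      ← mul_assoc, ← mul_assoc, ← mul_assoc, hs.sq, one_mul]
  · rw [orderOf_pow_of_dvd (by omega) (oρ ▸ dvd_mul_right _ _), oρ,
      Nat.mul_div_cancel_left _ (by omega)]
  · refine h.w.cent _ (mul_mem (conj_mem_of_mem_normalizer sH κH) κH)
      (ck (⟨s, hs.nrm⟩ * ⟨ρ, ρN⟩ ^ (q - 1) * ⟨s, hs.nrm⟩⁻¹ * ⟨ρ, ρN⟩ ^ (q - 1)) ?_)
    rw [map_mul, map_mul, map_mul, map_inv, map_pow]
    exact k4
  · obtain ⟨k, u, hu, rfl⟩ := ρc b bH bN
    have e1 : r ^ (k * (q + 1)) = 1 := by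
      rw [pow_mul, ← cB k u hu bN, ← map_pow, ← cT _ e]; rfl
    rw [← orderOf_dvd_iff_pow_eq_one, ro, oρ, Nat.mul_dvd_mul_iff_right (by omega)] at e1
    obtain ⟨l, rfl⟩ := e1
    exact ⟨l, u, hu, by rw [pow_mul]⟩

end H45.TS
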