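import Mathlib
import Cfsg.Agent.Lib.TS.BB

/-! Outer case, type `L₂(2^m)`: first consequences.  See `blueprint/TS/README.md`. -/

set_option autoImplicit false
set_option linter.unusedSectionVars false

namespace H45.TS

open Subgroup MulAction Cfsg H69 H45 H81
open H81.TP (T2)

universe u v

variable {G : Type u} [Group G] [Finite G] {Ω : Type v} [MulAction G Ω] [Finite Ω]
  {α β : Ω} {H T : Subgroup G}

local instance factOA0 : Fact (Nat.Prime 2) := ⟨Nat.prime_two⟩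

theorem OA0.comm_of_sq {a b : G} (ha : a * a = 1) (hb : b * b = 1) (h : a * b * (a * b) = 1) :
    a * b = b * a := by
  rw [← inv_eq_of_mul_eq_one_right h, mul_inv_rev, inv_eq_of_mul_eq_one_right ha,
    inv_eq_of_mul_eq_one_right hb]

namespace OA

variable {s t κ : G} {q : ℕ} (h : OA α β T s t κ q)
include h

theorem stab {g : G} (hg : g * t = t * g) (ga : g • α = α) (gb : g • β = β) : g ∈ T := by
  exact h.wa.cen t h.ht h.t1 g ⟨ga, gb⟩ hg

theorem wittNt : T2 (𝐍(T) ⊓ 𝐂[t]) (FS Ω T) α β := by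
  refine ⟨h.ne, h.toCf.ma, h.toCf.mb, fun g hg x hx => FS_smul hg.1 hx, fun a ha b hb hab => ?_⟩
  obtain ⟨g, hg, e1, e2⟩ := (h.toCf.wittC h.ht h.t1).tr a (FS_sub_Fx h.ht ha) b (FS_sub_Fx h.ht hb) hab
  refine ⟨g, ⟨?_, hg⟩, e1, e2⟩
  have c : g * t = t * g := mem_centralizer_singleton_iff.1 hg
  have : g⁻¹ ∈ 𝐍(T) := mem_normalizer_of_cj_le fun x hx => by
    obtain ⟨u, hu, rfl⟩ := mem_cj'.1 hx
    refine h.stab ?_ ?_ ?_
    · have c' : Commute g t := c
      have c2 : Commute u t := h.w.comm hu h.ht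
      exact ((c'.inv_left.mul_left c2).mul_left c'.inv_left.inv_left).eq
    · rw [inv_inv, mul_smul, mul_smul, e1, ha u hu, ← e1, inv_smul_smul]
    · rw [inv_inv, mul_smul, mul_smul, e2, hb u hu, ← e2, inv_smul_smul]
  simpa using inv_mem this

theorem sharp {g : G} (hg : g ∈ (𝐍(T) ⊓ 𝐂[t] : Subgroup G)) {a b : Ω} (ha : a ∈ FS Ω T)
    (hb : b ∈ FS Ω T) (hab : a ≠ b) (e1 : g • a = a) (e2 : g • b = b) : g ∈ T := by
  obtain ⟨k, hk, rfl, rfl⟩ := h.wittNt.tr a ha b hb hab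
  have h1 : k⁻¹ * g * k ∈ T :=
    h.stab (mem_centralizer_singleton_iff.1 (mul_mem (mul_mem (inv_mem hk.2) hg.2) hk.2))
      (by rw [mul_smul, mul_smul, e1, inv_smul_smul]) (by rw [mul_smul, mul_smul, e2, inv_smul_smul])
  have := conj_mem_of_mem_normalizer hk.1 h1
  rwa [show k * (k⁻¹ * g * k) * k⁻¹ = g by group] at this

/-- the elements of `C(t)` interchanging `α`, `β` -/
theorem coset {g : G} (hg : g * t = t * g) (ga : g • α = β) (gb : g • β = α) :
    ∃ u ∈ T, g = s * u := by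
  refine ⟨s * g, h.stab ?_ ?_ ?_, by rw [← mul_assoc, h.out.sq, one_mul]⟩
  · rw [mul_assoc, hg, ← mul_assoc, h.st, mul_assoc]
  · rw [mul_smul, ga, h.out.sb]
  · rw [mul_smul, gb, h.out.sw]

/-- involutions of `C(t)` moving a point of `Fix t` are conjugate to `s` in `C(t)` -/
theorem conj_C {u : G} (u2 : u * u = 1) (hu : u * t = t * u) {a : Ω} (ha : a ∈ Fx Ω t)
    (h1 : u • a ≠ a) : ∃ g : G, g * t = t * g ∧ g * u * g⁻¹ = s := by
  obtain ⟨g, hg, -, -, e1, e2⟩ := T2_swap (h.toCf.wittC h.ht h.t1) ha (Fx_smul hu ha) h1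
    (by rw [← mul_smul, u2, one_smul])
  have c : Commute g t := mem_centralizer_singleton_iff.1 hg
  have cu : Commute u t := hu
  obtain ⟨w, hw, e⟩ := h.coset ((c.inv_left.mul_left cu).mul_left c).eq e1 e2
  obtain ⟨y, hy, ey⟩ := h.cj w hw (OA0.comm_of_sq h.out.sq (h.w.sq w hw) (by
    rw [← e]
    calc _ = g⁻¹ * (u * u) * g := by group
      _ = 1 := by rw [u2]; group))
  have cy : Commute y t := h.w.comm hy h.ht
  refine ⟨(g * y)⁻¹, (c.mul_left cy).inv_left.eq, ?_⟩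
  calc _ = y⁻¹ * (g⁻¹ * u * g) * y := by group
    _ = s := by rw [e, ← ey]; group

theorem conj_s : IsConj t s := by
  obtain ⟨w, c, w2, wa, wb⟩ := h.toCf.inv_swap (h.w.sq t h.ht) h.t1
  obtain ⟨g, -, u, hu, e⟩ := h.toCf.cm h.out.sq h.out.sw h.out.nrm (x := w) (k := 1)
    (by rw [pow_one, pow_two, w2]) wa wb
  obtain ⟨y, -, ey⟩ := h.cj u hu (OA0.comm_of_sq h.out.sq (h.w.sq u hu) (by
    rw [← e]
    calc _ = g * (w * w) * g⁻¹ := by group
      _ = 1 := by rw [w2]; group))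
  exact (c.trans (isConj_iff.2 ⟨g, e⟩)).trans (isConj_iff.2 ⟨y, ey⟩).symm

/-- an element of `N(T) ∩ C(t)` outside `T` with square in `T` centralises exactly `q` elements
of `T` -/
theorem card_cent {w : G} (hw : w ∈ (𝐍(T) ⊓ 𝐂[t] : Subgroup G)) (h2 : w * w ∈ T) (h1 : w ∉ T) :
    Nat.card (T ⊓ 𝐂[w] : Subgroup G) = q := by
  have key : ∀ a ∈ FS Ω T, w • a ≠ a → Nat.card (T ⊓ 𝐂[w] : Subgroup G) = q := by
    intro a ha e
    obtain ⟨n, hn, -, -, e1, e2⟩ := T2_swap h.wittNt ha (FS_smul hw.1 ha) e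
      (by rw [← mul_smul, ha _ h2])
    obtain ⟨u, hu, eu⟩ := h.coset
      (mem_centralizer_singleton_iff.1 (mul_mem (mul_mem (inv_mem hn.2) hw.2) hn.2)) e1 e2
    have e3 : (T ⊓ 𝐂[s * u] : Subgroup G) = T ⊓ 𝐂[s] := by
      ext x
      simp only [mem_inf, mem_centralizer_singleton_iff]
      refine and_congr_right fun hx => ?_
      rw [mul_assoc s, ← h.w.comm hx hu, ← mul_assoc, ← mul_assoc, mul_left_inj]
    rw [← h.card1, ← e3, ← card_cj (T ⊓ 𝐂[s * u]) n, cj_inf, cj_eq_of_mem_normalizer hn.1, cj_centralizer_singleton,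
      ← eu, show n * (n⁻¹ * w * n) * n⁻¹ = w by group]
  by_cases ea : w • α = α
  · exact key β h.toCf.mb fun eb => h1 (h.stab (mem_centralizer_singleton_iff.1 hw.2) ea eb)
  · exact key α h.toCf.ma ea

/-- powers of `κ` outside `T` act fixed-point-freely on `T` -/
theorem fpf {k : ℕ} {u : G} (hu : u ∈ T) (u1 : u ≠ 1) (e : κ ^ k * u = u * κ ^ k) : κ ^ k = 1 := by
  have h1 := h.w.sq _ (h.wa.cen u hu u1 _ (pow_mem h.κH k) e)
  obtain ⟨a, ha, hq⟩ := h.pow
  have h2 : (κ ^ k) ^ (q + 1) = 1 := by rw [← pow_mul, mul_comm, pow_mul, ← h.κo, pow_orderOf_eq_one, one_pow]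
  obtain ⟨b, rfl⟩ : ∃ b, a = b + 1 := ⟨a - 1, by omega⟩
  rwa [hq, pow_succ, pow_succ', pow_mul, pow_two, h1, one_pow, one_mul] at h2

/-- two commuting elements of `N(T) ∩ C(t)` outside `T` with squares in `T` are congruent modulo
`T`, if `Fix T` has odd size or size 2 -/
theorem rank_one (hf : Odd (FS Ω T).ncard ∨ (FS Ω T).ncard = 2) {w w' : G}
    (hw : w ∈ (𝐍(T) ⊓ 𝐂[t] : Subgroup G)) (h2 : w * w ∈ T) (h1 : w ∉ T)
    (hw' : w' ∈ (𝐍(T) ⊓ 𝐂[t] : Subgroup G)) (h2' : w' * w' ∈ T) (h1' : w' ∉ T)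
    (hc : w * w' = w' * w) : w * w' ∈ T := by
  have cw : w * w' * t = t * (w * w') := mem_centralizer_singleton_iff.1 (mul_mem hw.2 hw'.2)
  rcases hf with hf | hf
  · have p := par_on (F := FS Ω T) (r := w) (fun x hx => FS_smul hw.1 hx) (fun x hx => by rw [← mul_smul, hx _ h2])
    obtain ⟨ω, hω, eω⟩ : {x | x ∈ FS Ω T ∧ w • x = x}.Nonempty := by
      refine Set.nonempty_of_ncard_ne_zero fun e => ?_
      rw [e] at p
      exact (Nat.not_even_iff_odd.2 hf) (even_iff_two_dvd.2 ((Nat.modEq_zero_iff_dvd).1 p))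
    have eω' : w' • ω = ω := by
      by_contra n
      exact h1 (h.sharp hw (FS_smul hw'.1 hω) hω n (by rw [← mul_smul, hc, mul_smul, eω]) eω)
    have := h.wittNt.uq (R := {r | r ∈ (𝐍(T) ⊓ 𝐂[t] : Subgroup G) ∧ r * r ∈ T ∧ r ∉ T})
      (fun r hr => hr.1) (fun g hg r hr => ⟨mul_mem (mul_mem hg hr.1) (inv_mem hg), by
        rw [show g * r * g⁻¹ * (g * r * g⁻¹) = g * (r * r) * g⁻¹ by group]
        exact conj_mem_of_mem_normalizer hg.1 hr.2.1, fun k => hr.2.2 (by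
        have := conj_mem_of_mem_normalizer' hg.1 k
        rwa [show g⁻¹ * (g * r * g⁻¹) * g = r by group] at this)⟩)
      (fun r hr a ha b hb e1 e2 => by_contra fun n => hr.2.2 (h.sharp hr.1 ha hb n e1 e2))
      (fun r hr r' hr' e n x hx => by
        have k : r' * r ∈ T := h.sharp (mul_mem hr'.1 hr.1) (FS_smul hr.1.1 h.toCf.ma) h.toCf.ma n
          (by rw [mul_smul, ← mul_smul r, h.toCf.fixa hr.2.1, e])
          (by rw [mul_smul, e, ← mul_smul, h.toCf.fixa hr'.2.1])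
        apply smul_left_cancel r'
        rw [← mul_smul, ← mul_smul, hx _ k, hx _ hr'.2.1])
      ⟨hw, h2, h1⟩ ⟨hw', h2', h1'⟩ hω eω eω'
    exact h.stab cw (by rw [mul_smul, ← this α h.toCf.ma, ← mul_smul, h.toCf.fixa h2])
      (by rw [mul_smul, ← this β h.toCf.mb, ← mul_smul, h.toCf.fixb h2])
  · have eF : ({α, β} : Set Ω) = FS Ω T := Set.eq_of_subset_of_ncard_le
      (by rintro x (rfl | rfl); exacts [h.toCf.ma, h.toCf.mb]) (by rw [hf, Set.ncard_pair h.ne])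
    have sw : ∀ r ∈ (𝐍(T) ⊓ 𝐂[t] : Subgroup G), r ∉ T → r • α = β ∧ r • β = α := by
      intro r hr n
      have a1 : r • α = α ∨ r • α = β := (eF.symm ▸ FS_smul hr.1 h.toCf.ma : r • α ∈ ({α, β} : Set Ω))
      have b1 : r • β = α ∨ r • β = β := (eF.symm ▸ FS_smul hr.1 h.toCf.mb : r • β ∈ ({α, β} : Set Ω))
      rcases a1 with a1 | a1 <;> rcases b1 with b1 | b1
      · exact absurd (smul_left_cancel r (a1.trans b1.symm)) h.ne
      · exact absurd (h.stab (mem_centralizer_singleton_iff.1 hr.2) a1 b1) n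
      · exact ⟨a1, b1⟩
      · exact absurd (smul_left_cancel r (a1.trans b1.symm)) h.ne
    exact h.stab cw (by rw [mul_smul, (sw w' hw' h1').1, (sw w hw h1).2])
      (by rw [mul_smul, (sw w' hw' h1').2, (sw w hw h1).1])

end OA

end H45.TS
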