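import Mathlib
import Cfsg.Agent.Lib.TS.OA0
import Cfsg.Agent.Lib.TS.SH

/-! Outer case, type `L₂(2^m)`, even degree: `|Fix T| ≤ q`.  See `blueprint/TS/README.md`. -/

set_option autoImplicit false
set_option linter.unusedSectionVars false

namespace H45.TS

open Subgroup MulAction Cfsg H69 H45 H81
open H81.TP (T2)

universe u v

variable {G : Type u} [Group G] [Finite G] {Ω : Type v} [MulAction G Ω] [Finite Ω]
  {α β : Ω} {H T : Subgroup G}

local instance factOA2 : Fact (Nat.Prime 2) := ⟨Nat.prime_two⟩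

theorem OA2.burn {V : Subgroup G} (hTV : T ≤ V) (hV : V ≤ 𝐍(T)) (hc : T ≤ 𝐂(T)) {q : ℕ}
    (hq : q ≤ Nat.card T) (h : ∀ w ∈ V, w ∉ T → Nat.card (T ⊓ 𝐂[w] : Subgroup G) = q) :
    Nat.card V ∣ Nat.card T * (Nat.card T - q) := by
  classical
  letI : MulAction V T := MulAction.compHom T (T.normalizerMonoidHom.comp (inclusion hV))
  have := Fintype.ofFinite V
  have : ∀ a : V, Fintype (fixedBy T a) := fun _ => Fintype.ofFinite _
  have : Fintype (orbitRel.Quotient V T) := Fintype.ofFinite _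
  have h1 := sum_card_fixedBy_eq_card_orbits_mul_card_group V T
  have h2 : ∀ a : V, Fintype.card (fixedBy T a) = Nat.card (T ⊓ 𝐂[(a : G)] : Subgroup G) := by
    intro a
    rw [← Nat.card_eq_fintype_card]
    refine Nat.card_congr ⟨fun x => ⟨x.1.1, x.1.2, mem_centralizer_singleton_iff.2 ?_⟩,
      fun x => ⟨⟨x.1, x.2.1⟩, Subtype.ext ?_⟩, fun _ => rfl, fun _ => rfl⟩
    · have e : (a : G) * x.1.1 * (a : G)⁻¹ = x.1.1 := congrArg Subtype.val x.2
      exact (mul_inv_eq_iff_eq_mul.1 e).symm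
    · change (a : G) * x.1 * (a : G)⁻¹ = x.1
      rw [← mem_centralizer_singleton_iff.1 x.2.2, mul_inv_cancel_right]
  have h3 : ∀ a : V, Fintype.card (fixedBy T a) =
      q + if (a : G) ∈ T then Nat.card T - q else 0 := by
    intro a
    rw [h2]
    split_ifs with ha
    · rw [inf_eq_left.2 fun x hx => mem_centralizer_singleton_iff.2 (hc ha x hx)]
      omega
    · rw [h a a.2 ha, add_zero]
  simp only [h3, Finset.sum_add_distrib, Finset.sum_const, Finset.card_univ, smul_eq_mul,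
    ← Finset.sum_filter] at h1
  have h4 : (Finset.univ.filter fun a : V => (a : G) ∈ T).card = Nat.card T := by
    rw [← Fintype.card_subtype, ← Nat.card_eq_fintype_card]
    exact Nat.card_congr (subgroupOfEquivOfLe hTV).toEquiv
  rw [h4, ← Nat.card_eq_fintype_card] at h1
  exact (Nat.dvd_add_right (Dvd.intro _ rfl)).1 (h1 ▸ Dvd.intro_left _ rfl)

theorem OA.f_le {s t κ : G} {q : ℕ} (h : OA α β T s t κ q) (he : Even (Nat.card Ω)) : (FS Ω T).ncard ≤ q := by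
  have w := h.wittNt
  have hfe : (FS Ω T).ncard % 2 = 0 := by
    have h1 := par_FS (Ω := Ω) h.w.two
    rw [Nat.even_iff] at he
    unfold Nat.ModEq at h1
    omega
  have hTN : T ≤ 𝐍(T) ⊓ 𝐂[t] := le_inf le_normalizer fun u hu =>
    mem_centralizer_singleton_iff.2 (h.w.comm hu h.ht)
  have sN : s ∈ (𝐍(T) ⊓ 𝐂[t] : Subgroup G) := ⟨h.out.nrm, mem_centralizer_singleton_iff.2 h.st⟩
  let R : Set G := {r | r ∈ (𝐍(T) ⊓ 𝐂[t] : Subgroup G) ∧ r * r ∈ T ∧ r ∉ T}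
  have r2 : ∀ r ∈ R, ∀ x ∈ FS Ω T, r • r • x = x := fun r hr x hx => by
    rw [← mul_smul]; exact hx _ hr.2.1
  have hf : ∀ r ∈ R, ∀ a ∈ FS Ω T, r • a ≠ a := fun r hr a ha e => by
    have h1 := par_on (w.inv r hr.1) (r2 r hr)
    rw [show {x | x ∈ FS Ω T ∧ r • x = x} = {a} from Set.eq_singleton_iff_unique_mem.2
      ⟨⟨ha, e⟩, fun x hx => by
        by_contra hne
        exact hr.2.2 (h.sharp hr.1 hx.1 ha hne hx.2 e)⟩, Set.ncard_singleton] at h1
    unfold Nat.ModEq at h1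
    omega
  have hex : ∀ a ∈ FS Ω T, ∀ b ∈ FS Ω T, a ≠ b → ∃ r ∈ R, r • a = b := fun a ha b hb hab => by
    obtain ⟨g, hg, e1, e2⟩ := w.tr a ha b hb hab
    have e : (g * s * g⁻¹) • a = b := by
      rw [← e1, mul_smul, mul_smul, inv_smul_smul, h.out.sw, e2]
    refine ⟨g * s * g⁻¹, ⟨mul_mem (mul_mem hg sN) (inv_mem hg), ?_, fun hT => hab ?_⟩, e⟩
    · rw [conj_mul, h.out.sq]; simp
    · rw [← e, ha _ hT]
  obtain ⟨⟨e, hfe2⟩, -, -, h4⟩ := she w.inv
    (fun g hg a ha b hb hab e1 e2 x hx => hx g (h.sharp hg ha hb hab e1 e2))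
    (R := R) (fun _ hr => hr.1) r2 hf hex ⟨α, h.toCf.ma⟩
  have cjT : ∀ g ∈ (𝐍(T) ⊓ 𝐂[t] : Subgroup G), ∀ u ∈ T, g * u * g⁻¹ ∈ T := fun g hg u hu =>
    (mem_normalizer_iff.1 hg.1 u).1 hu
  let V : Subgroup G :=
    { carrier := {g | g ∈ (𝐍(T) ⊓ 𝐂[t] : Subgroup G) ∧ g * g ∈ T}
      one_mem' := ⟨one_mem _, by rw [one_mul]; exact one_mem _⟩
      inv_mem' := fun {a} ha => ⟨inv_mem ha.1, by rw [← mul_inv_rev]; exact inv_mem ha.2⟩
      mul_mem' := fun {a b} ha hb => ⟨mul_mem ha.1 hb.1, by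
        by_cases h1 : a ∈ T
        · have : a * b * (a * b) = a * (b * a * b⁻¹) * (b * b) := by group
          rw [this]
          exact mul_mem (mul_mem h1 (cjT b hb.1 a h1)) hb.2
        by_cases h2 : b ∈ T
        · have : a * b * (a * b) = (a * b * a⁻¹) * (a * a) * b := by group
          rw [this]
          exact mul_mem (mul_mem (cjT a ha.1 b h2) ha.2) h2
        have hm := mul_mem ha.1 hb.1
        refine h.sharp (mul_mem hm hm) h.toCf.ma h.toCf.mb h.ne ?_ ?_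
        · rw [mul_smul]; exact h4 a ⟨ha.1, ha.2, h1⟩ b ⟨hb.1, hb.2, h2⟩ _ h.toCf.ma
        · rw [mul_smul]; exact h4 a ⟨ha.1, ha.2, h1⟩ b ⟨hb.1, hb.2, h2⟩ _ h.toCf.mb⟩ }
  have hTV : T ≤ V := fun u hu => ⟨hTN hu, mul_mem hu hu⟩
  have c1 := card_of_tr (N := V) (F := FS Ω T) (fun g hg => w.inv g hg.1) h.toCf.ma fun b hb => by
    by_cases e : α = b
    · exact ⟨1, one_mem _, by rw [one_smul, e]⟩
    · obtain ⟨r, hr, e'⟩ := hex α h.toCf.ma b hb e
      exact ⟨r, ⟨hr.1, hr.2.1⟩, e'⟩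
  have c2 : V ⊓ stabilizer G α = T := le_antisymm (fun g hg => by
    by_contra hn
    exact hf g ⟨hg.1.1, hg.1.2, hn⟩ α h.toCf.ma hg.2) (le_inf hTV fun u hu => h.toCf.fixa hu)
  obtain ⟨a, ha, hq⟩ := h.pow
  have q0 : 0 < q := by rw [hq]; positivity
  have c3 := OA2.burn hTV (fun g hg => hg.1.1) h.w.le_cent (q := q)
    (by rw [h.cardT]; nlinarith) fun g hg hn => h.card_cent hg.1 hg.2 hn
  rw [c1, c2, mul_comm, Nat.mul_dvd_mul_iff_left Nat.card_pos, h.cardT, hfe2,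
    show q ^ 2 - q = q * (q - 1) by rw [pow_two, Nat.mul_sub, mul_one]] at c3
  rw [hfe2]
  refine Nat.le_of_dvd q0 (Nat.Coprime.dvd_of_dvd_mul_right ?_ c3)
  refine Nat.Coprime.pow_left _ (Nat.coprime_two_left.2 ?_)
  rw [hq]
  exact Nat.Even.sub_odd Nat.one_le_two_pow (Nat.even_pow.2 ⟨even_two, by omega⟩) odd_one

end H45.TS
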