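import Mathlib
import Cfsg.Agent.Lib.TS.OA0

/-! Outer case, type `L₂(2^m)`, even degree: `κ` is semiregular.  See `blueprint/TS/README.md`. -/

set_option autoImplicit false
set_option linter.unusedSectionVars false

namespace H45.TS

open Subgroup MulAction Cfsg H69 H45 H81
open H81.TP (T2)

universe u v

variable {G : Type u} [Group G] [Finite G] {Ω : Type v} [MulAction G Ω] [Finite Ω]
  {α β : Ω} {H T : Subgroup G}

local instance factOA3 : Fact (Nat.Prime 2) := ⟨Nat.prime_two⟩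

namespace OA3

theorem cyc {κ : G} {k j : ℕ} (e : (κ ^ j) ^ orderOf (κ ^ k) = 1) : κ ^ j ∈ zpowers (κ ^ k) := by
  have n0 := orderOf_pos κ
  have d : Nat.gcd (orderOf κ) k ∣ j := by
    rw [← pow_mul, ← orderOf_dvd_iff_pow_eq_one, orderOf_pow] at e
    obtain ⟨m, hm⟩ := Nat.gcd_dvd_left (orderOf κ) k
    have g0 : 0 < Nat.gcd (orderOf κ) k := Nat.gcd_pos_of_pos_left _ n0
    have e2 : orderOf κ / Nat.gcd (orderOf κ) k = m := Nat.div_eq_of_eq_mul_right g0 hm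
    rw [e2] at e
    have m0 : 0 < m := Nat.pos_of_ne_zero fun z => by rw [z] at hm; omega
    exact Nat.dvd_of_mul_dvd_mul_right m0 (hm ▸ e)
  obtain ⟨m, rfl⟩ := d
  rw [pow_mul]
  refine pow_mem (mem_zpowers_iff.2 ⟨Nat.gcdB (orderOf κ) k, ?_⟩) m
  rw [← zpow_natCast κ (Nat.gcd _ _), Nat.gcd_eq_gcd_ab, zpow_add, zpow_mul, zpow_mul, zpow_natCast,
    zpow_natCast, pow_orderOf_eq_one, one_zpow, one_mul]

theorem pow_mul_mem {b u : G} (hb : b ∈ 𝐍(T)) (hu : u ∈ T) (j : ℕ) : ∃ w ∈ T, (b * u) ^ j = b ^ j * w := by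
  induction j with
  | zero => exact ⟨1, T.one_mem, by simp⟩
  | succ j ih =>
    obtain ⟨w, hw, e⟩ := ih
    exact ⟨b⁻¹ * w * b * u, T.mul_mem (conj_mem_of_mem_normalizer' hb hw) hu, by
      rw [pow_succ, e, pow_succ]; group⟩

theorem exists_C (T Z : Subgroup G) : ∃ C : Subgroup G,
    ∀ g, g ∈ C ↔ g ∈ (𝐍(T) ⊓ 𝐍(Z) : Subgroup G) ∧ ∀ z ∈ Z, g * z * g⁻¹ * z⁻¹ ∈ T := by
  refine ⟨⟨⟨⟨{g | g ∈ (𝐍(T) ⊓ 𝐍(Z) : Subgroup G) ∧ ∀ z ∈ Z, g * z * g⁻¹ * z⁻¹ ∈ T}, ?_⟩,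
    one_mem _, fun z _ => by simp⟩, ?_⟩, fun _ => Iff.rfl⟩
  · rintro a b ⟨a1, a2⟩ ⟨b1, b2⟩
    refine ⟨mul_mem a1 b1, fun z hz => ?_⟩
    have := T.mul_mem (conj_mem_of_mem_normalizer (mem_inf.1 a1).1 (b2 z hz)) (a2 z hz)
    convert this using 1
    group
  · rintro a ⟨a1, a2⟩
    refine ⟨inv_mem a1, fun z hz => ?_⟩
    have := conj_mem_of_mem_normalizer' (mem_inf.1 a1).1 (T.inv_mem (a2 z hz))
    convert this using 1
    group

variable {s t κ : G} {q : ℕ} (h : OA α β T s t κ q)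
include h

theorem inv_pow' (k : ℕ) : s * κ ^ k * s⁻¹ * κ ^ k ∈ T := by
  induction k with
  | zero => simp
  | succ k ih =>
    have := T.mul_mem ih (conj_mem_of_mem_normalizer' (pow_mem h.κN k) h.κs)
    convert this using 1
    nth_rewrite 1 [pow_succ]
    rw [pow_succ']
    generalize κ ^ k = c
    group

theorem s_fpf (he : Even (Nat.card Ω)) {a : Ω} (ha : a ∈ FS Ω T) : s • a ≠ a := by
  intro e
  have hc := h.toCf
  have p1 := par_FS (Ω := Ω) hc.w.two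
  have p2 := par_on (F := FS Ω T) (r := s) (fun x hx => FS_smul h.out.nrm hx)
    (fun x _ => by rw [← mul_smul, h.out.sq, one_smul])
  have e1 : {x | x ∈ FS Ω T ∧ s • x = x} = {a} := by
    refine Set.eq_singleton_iff_unique_mem.2 ⟨⟨ha, e⟩, fun x hx => ?_⟩
    by_contra k
    have := h.sharp (mem_inf.2 ⟨h.out.nrm, mem_centralizer_singleton_iff.2 h.st⟩) hx.1 ha k hx.2 e
    exact hc.ne ((hc.fixa this).symm.trans h.out.sw)
  rw [e1, Set.ncard_singleton] at p2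
  have := p1.trans p2
  rw [Nat.even_iff] at he
  unfold Nat.ModEq at this
  omega

theorem comm_B {b c : G} (b1 : b ∈ H2 G α β) (b2 : b ∈ 𝐍(T)) (c1 : c ∈ H2 G α β) (c2 : c ∈ 𝐍(T)) :
    b * c * b⁻¹ * c⁻¹ ∈ T := by
  obtain ⟨ρ, -, r2, -, r⟩ := h.wa.cyc
  obtain ⟨i, u, hu, rfl⟩ := r b b1 b2
  obtain ⟨j, w, hw, rfl⟩ := r c c1 c2
  have := T.mul_mem (T.mul_mem (conj_mem_of_mem_normalizer (pow_mem r2 i) hu)
    (conj_mem_of_mem_normalizer (pow_mem r2 (i + j)) (T.mul_mem hw (T.inv_mem hu))))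
    (conj_mem_of_mem_normalizer (pow_mem r2 j) (T.inv_mem hw))
  convert this using 1
  group

theorem semi (he : Even (Nat.card Ω)) {k : ℕ} {γ : Ω} (hγ : γ ∈ FS Ω T) (e : κ ^ k • γ = γ)
    (ga : γ ≠ α) (gb : γ ≠ β) : κ ^ k = 1 := by
  have hc := h.toCf
  obtain ⟨y, hy⟩ : ∃ y, y = κ ^ k := ⟨_, rfl⟩
  have yH : y ∈ H2 G α β := hy ▸ pow_mem h.κH k
  have yN : y ∈ 𝐍(T) := hy ▸ pow_mem h.κN k
  obtain ⟨Z, hZ⟩ : ∃ Z, Z = T ⊔ zpowers y := ⟨_, rfl⟩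
  have TZ : T ≤ Z := hZ ▸ le_sup_left
  have yZ : y ∈ Z := hZ ▸ mem_sup_right (mem_zpowers y)
  have mY : ∀ x, x ∈ FS Ω Z ↔ x ∈ FS Ω T ∧ y • x = x := fun x => by rw [hZ, FS_sup_zp]; rfl
  have nZ : ∀ g ∈ 𝐍(T), g * y * g⁻¹ ∈ Z → g ∈ (𝐍(T) ⊓ 𝐍(Z) : Subgroup G) := fun g g1 g2 => by
    refine mem_inf.2 ⟨g1, mem_normalizer_of_cj_le ?_⟩
    nth_rewrite 1 [hZ]
    rw [cj_sup, cj_zpowers, cj_eq_of_mem_normalizer g1]
    exact sup_le TZ (zpowers_le.2 g2)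
  have w2 : T2 (𝐍(T) ⊓ 𝐍(Z)) (FS Ω Z) α β := by
    refine ⟨hc.ne, (mY _).2 ⟨hc.ma, yH.1⟩, (mY _).2 ⟨hc.mb, yH.2⟩,
      fun g hg x hx => FS_smul (mem_inf.1 hg).2 hx, fun a ha b hb ab => ?_⟩
    obtain ⟨g, hg, e1, e2⟩ := hc.wittN.tr a ((mY _).1 ha).1 b ((mY _).1 hb).1 ab
    refine ⟨g, (inv_mem_iff (H := 𝐍(T) ⊓ 𝐍(Z))).1 (nZ _ (inv_mem hg) ?_), e1, e2⟩
    have o1 : (g⁻¹ * y * g⁻¹⁻¹) ^ orderOf y = 1 := by rw [conj_pow, pow_orderOf_eq_one]; simp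
    obtain ⟨j, u, hu, e3⟩ := h.κu (g⁻¹ * y * g⁻¹⁻¹)
      ⟨by show _ • α = α; rw [inv_inv, mul_smul, mul_smul, e1, ((mY _).1 ha).2, ← e1, inv_smul_smul],
        by show _ • β = β; rw [inv_inv, mul_smul, mul_smul, e2, ((mY _).1 hb).2, ← e2, inv_smul_smul]⟩
      (mul_mem (mul_mem (inv_mem hg) yN) (inv_mem (inv_mem hg)))
      (by rw [conj_pow, hy, ← pow_mul, mul_comm, pow_mul, ← h.κo, pow_orderOf_eq_one]; simp)
    obtain ⟨w, hw, e4⟩ := pow_mul_mem (pow_mem h.κN j) hu (orderOf y)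
    rw [← e3, o1, ← pow_mul] at e4
    have e5 : κ ^ (j * orderOf y) = 1 := h.fpf h.ht h.t1 (hc.w.comm (by
      rw [eq_inv_of_mul_eq_one_left e4.symm]; exact T.inv_mem hw) h.ht)
    rw [pow_mul, hy] at e5
    rw [e3]
    refine Z.mul_mem ?_ (TZ hu)
    rw [hZ, hy]
    exact mem_sup_right (cyc e5)
  have sI : ∀ z ∈ Z, s * z * s⁻¹ * z ∈ T := fun z hz => by
    rw [hZ, mem_sup_of_le_normalizer_left (zpowers_le.2 yN)] at hz
    obtain ⟨u, hu, c, hc', rfl⟩ := hz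
    obtain ⟨i, rfl⟩ := mem_powers_iff_mem_zpowers.2 hc'
    have := T.mul_mem (T.mul_mem (conj_mem_of_mem_normalizer h.out.nrm hu) (inv_pow' h (k * i)))
      (conj_mem_of_mem_normalizer' (pow_mem h.κN (k * i)) hu)
    convert this using 1
    simp only [pow_mul, ← hy]
    generalize y ^ i = c
    group
  have sN : s ∈ (𝐍(T) ⊓ 𝐍(Z) : Subgroup G) :=
    nZ s h.out.nrm ((mul_mem_cancel_right yZ).1 (TZ (sI y yZ)))
  have ev : 2 ∣ (FS Ω Z).ncard := by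
    have p := par_on (F := FS Ω Z) (r := s) (w2.inv s sN) (fun x _ => by rw [← mul_smul, h.out.sq, one_smul])
    rw [show {x | x ∈ FS Ω Z ∧ s • x = x} = ∅ from Set.eq_empty_of_forall_notMem fun x hx =>
      s_fpf h he ((mY _).1 hx.1).1 hx.2, Set.ncard_empty] at p
    exact (Nat.modEq_zero_iff_dvd).1 p
  obtain ⟨C, hC⟩ := exists_C T Z
  have CN : C ≤ 𝐍(T) ⊓ 𝐍(Z) := fun g hg => ((hC g).1 hg).1
  have Cn : ∀ n ∈ (𝐍(T) ⊓ 𝐍(Z) : Subgroup G), ∀ g ∈ C, n * g * n⁻¹ ∈ C := fun n hn g hg => by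
    refine (hC _).2 ⟨mul_mem (mul_mem hn (CN hg)) (inv_mem hn), fun z hz => ?_⟩
    have := conj_mem_of_mem_normalizer (mem_inf.1 hn).1
      (((hC g).1 hg).2 _ (conj_mem_of_mem_normalizer' (mem_inf.1 hn).2 hz))
    convert this using 1
    group
  have ZN : Z ≤ 𝐍(T) := hZ ▸ sup_le le_normalizer (zpowers_le.2 yN)
  have TC : T ≤ C := fun u hu => (hC u).2 ⟨mem_inf.2 ⟨le_normalizer hu, le_normalizer (TZ hu)⟩,
    fun z hz => by
      have := T.mul_mem hu (conj_mem_of_mem_normalizer (ZN hz) (T.inv_mem hu))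
      convert this using 1
      group⟩
  have gY : γ ∈ FS Ω Z := (mY _).2 ⟨hγ, hy ▸ e⟩
  obtain ⟨g, hg, g1, g2⟩ := w2.tr β w2.mb γ gY gb.symm
  have nC : g * s * g⁻¹ * s ∈ C := by
    refine (hC _).2 ⟨mul_mem (mul_mem (mul_mem hg sN) (inv_mem hg)) sN, fun z hz => ?_⟩
    have := T.mul_mem (conj_mem_of_mem_normalizer
      (mem_inf.1 (mul_mem (mul_mem hg sN) (inv_mem hg))).1 (sI z hz))
      (conj_mem_of_mem_normalizer (mem_inf.1 hg).1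
        (sI _ (conj_mem_of_mem_normalizer' (mem_inf.1 hg).2 (Z.inv_mem hz))))
    convert this using 1
    group
  have mv : (g * s * g⁻¹ * s) • α ≠ α := by
    rw [mul_smul, h.out.sw, ← g1, mul_smul, mul_smul, inv_smul_smul, h.out.sw, g2]
    exact ga
  have cC := card_of_tr (N := C) (fun g hg => w2.inv g (CN hg)) w2.ma fun b hb =>
    T2_ntr w2 CN (le_normalizer_iff.2 Cn) nC w2.ma mv w2.ma hb
  obtain ⟨x, xC, xT, x2⟩ := exists_sq_mem hc.w.two TC (CN.trans inf_le_left) (by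
    rw [cC]
    exact Nat.mul_dvd_mul ev (card_dvd_of_le (le_inf TC fun u hu => hc.fixa hu)))
  obtain ⟨a, ha, xa⟩ : ∃ a ∈ FS Ω Z, x • a ≠ a := by
    by_contra k
    push Not at k
    exact xT (hc.memT (mem_inf.1 (CN xC)).1 x2 hc.ma hc.mb hc.ne (k α w2.ma) (k β w2.mb))
  obtain ⟨m, hm, -, -, m1, m2⟩ := T2_swap w2 ha (w2.inv x (CN xC) a ha) xa (by
    rw [← mul_smul]; exact ((mY _).1 ha).1 _ x2)
  have c1 : m⁻¹ * x * m ∈ C := by simpa using Cn _ (inv_mem hm) x xC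
  generalize m⁻¹ * x * m = x' at m1 m2 c1
  have bN : s⁻¹ * x' ∈ 𝐍(T) := mul_mem (inv_mem h.out.nrm) (mem_inf.1 (CN c1)).1
  have k1 := comm_B h (b := s⁻¹ * x')
    ⟨by show _ • α = α; rw [mul_smul, m1, inv_smul_eq_iff, h.out.sw],
      by show _ • β = β; rw [mul_smul, m2, inv_smul_eq_iff, h.out.sb]⟩ bN yH yN
  have k2 := T.mul_mem (T.mul_mem (T.inv_mem (((hC _).1 c1).2 y yZ))
    (conj_mem_of_mem_normalizer h.out.nrm k1)) (sI y yZ)
  have k3 : y * y ∈ T := by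
    convert k2 using 1
    group
  exact h.fpf h.ht h.t1 (hy ▸ hc.w.comm (hc.w.mem_of_sq yH yN k3) h.ht)

end OA3

theorem OA.dvd_f {s t κ : G} {q : ℕ} (h : OA α β T s t κ q) (he : Even (Nat.card Ω)) :
    q + 1 ∣ (FS Ω T).ncard - 2 := by
  have hc := h.toCf
  have i : ∀ g ∈ zpowers κ, ∀ x ∈ FS Ω T \ {α, β}, g • x ∈ FS Ω T \ {α, β} := by
    intro g hg x hx
    have gH : g ∈ H2 G α β := zpowers_le.2 h.κH hg
    refine ⟨FS_smul (zpowers_le.2 h.κN hg) hx.1, ?_⟩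
    rintro (e | e)
    · exact hx.2 (Or.inl (smul_left_cancel g (e.trans gH.1.symm)))
    · exact hx.2 (Or.inr (smul_left_cancel g (e.trans gH.2.symm)))
  have e := Nat.card_congr (MulAction.selfEquivOrbitsQuotientProd (G := zpowers κ)
    (X := TP.sub (zpowers κ) _ i) fun b => eq_bot_iff.2 fun g hg => by
      obtain ⟨g, k⟩ := g
      obtain ⟨k, rfl⟩ := mem_powers_iff_mem_zpowers.2 k
      exact Subtype.ext (OA3.semi h he b.2.1 (congrArg Subtype.val hg) (fun e => b.2.2 (Or.inl e))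
        fun e => b.2.2 (Or.inr e)))
  rw [TP.card_sub, Nat.card_prod, Nat.card_zpowers, h.κo, Set.ncard_sdiff (by
    rintro x (rfl | rfl); exacts [hc.ma, hc.mb]), Set.ncard_pair hc.ne] at e
  exact e ▸ dvd_mul_left _ _

end H45.TS
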