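import Mathlib
import Cfsg.Agent.Lib.TS.OA0

/-! Outer case, type `L₂(2^m)`: `T` moves `Fix t`; weak closure.  See `blueprint/TS/README.md`. -/

set_option autoImplicit false
set_option linter.unusedSectionVars false

namespace H45.TS

open Subgroup MulAction Cfsg H69 H45 H81
open H81.TP (T2)

universe u v

variable {G : Type u} [Group G] [Finite G] {Ω : Type v} [MulAction G Ω] [Finite Ω]
  {α β : Ω} {H T : Subgroup G}

local instance factOA4 : Fact (Nat.Prime 2) := ⟨Nat.prime_two⟩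

namespace OA4

theorem ncard_sub (A : Subgroup G) : (A : Set G).ncard = Nat.card A := (Nat.card_coe_set_eq _).symm

theorem four {s t κ : G} {q : ℕ} (h : OA α β T s t κ q) : 4 ≤ q := by
  obtain ⟨a, ha, e⟩ := h.pow
  rw [e]; exact Nat.pow_le_pow_right (by norm_num : 0 < 2) ha

theorem cj_eq {s t κ : G} {q : ℕ} (h : OA α β T s t κ q)
    (hf : Odd (FS Ω T).ncard ∨ (FS Ω T).ncard = 2) {c : G}
    (hc : T ^ᶜ c ≤ (𝐍(T) ⊓ 𝐂[t] : Subgroup G)) : c ∈ 𝐍(T) := by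
  refine mem_normalizer_of_cj_le fun w hw => ?_
  by_contra w1
  have W := h.w.cj c
  have w2 := W.sq w hw
  have l : ((T ^ᶜ c : Subgroup G) : Set G) ⊆ (T ⊓ 𝐂[w] : Subgroup G) ∪
      (fun x => w * x) '' (T ⊓ 𝐂[w] : Subgroup G) := by
    intro x hx
    have cm := W.comm hw hx
    by_cases e : x ∈ T
    · exact Or.inl (mem_inf.2 ⟨e, mem_centralizer_singleton_iff.2 cm.symm⟩)
    · refine Or.inr ⟨w * x, mem_inf.2 ⟨h.rank_one hf (hc hw) (w2 ▸ T.one_mem) w1 (hc hx)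
        (W.sq x hx ▸ T.one_mem) e cm, mem_centralizer_singleton_iff.2 ?_⟩, ?_⟩
      · rw [mul_assoc, cm]
      · show w * (w * x) = x
        rw [← mul_assoc, w2, one_mul]
  have k := (Set.ncard_le_ncard l).trans (Set.ncard_union_le _ _)
  rw [Set.ncard_image_of_injective _ (mul_right_injective w), ncard_sub, ncard_sub, card_cj, h.cardT,
    h.card_cent (hc hw) (w2 ▸ T.one_mem) w1] at k
  have := four h
  nlinarith

end OA4

theorem OA.ne_F {s t κ : G} {q : ℕ} (h : OA α β T s t κ q)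
    (hf : Odd (FS Ω T).ncard ∨ (FS Ω T).ncard = 2) : ∃ u ∈ T, ∃ a ∈ Fx Ω t, u • a ≠ a := by
  by_contra hn
  push Not at hn
  have hc := h.toCf
  have eF : Fx Ω t = FS Ω T := (Set.Subset.antisymm (FS_sub_Fx h.ht) fun a ha u hu => hn u hu a ha).symm
  have CN : ∀ c : G, c * t = t * c → c ∈ 𝐍(T) := fun c e => by
    refine mem_normalizer_of_cj_le fun w hw => ?_
    obtain ⟨u, hu, rfl⟩ := mem_cj'.1 hw
    have fx : ∀ a ∈ Fx Ω t, (c * u * c⁻¹) • a = a := fun a ha => by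
      rw [mul_smul, mul_smul, hn u hu _ (Fx_smul (Commute.inv_left e) ha), smul_inv_smul]
    exact h.stab (((show Commute c t from e).mul_left (hc.w.comm hu h.ht)).mul_left (Commute.inv_left e))
      (fx α (hc.fixa h.ht)) (fx β (hc.fixb h.ht))
  obtain ⟨g, hg⟩ := isConj_iff.1 h.conj_s
  have key : ∀ u ∈ T, u * s = s * u → u ≠ 1 →
      g⁻¹ * u * g ∈ (𝐍(T) ⊓ 𝐂[t] : Subgroup G) ∧ g⁻¹ * u * g * (g⁻¹ * u * g) ∈ T ∧ g⁻¹ * u * g ∉ T := by
    intro u hu us u1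
    have e : g⁻¹ * u * g * t = t * (g⁻¹ * u * g) := by
      calc g⁻¹ * u * g * t = g⁻¹ * (u * (g * t * g⁻¹)) * g := by group
        _ = g⁻¹ * ((g * t * g⁻¹) * u) * g := by rw [hg, us]
        _ = _ := by group
    refine ⟨mem_inf.2 ⟨CN _ e, mem_centralizer_singleton_iff.2 e⟩, ?_, fun m => ?_⟩
    · rw [show g⁻¹ * u * g * (g⁻¹ * u * g) = g⁻¹ * (u * u) * g by group, hc.w.sq u hu]
      simp
    · obtain ⟨b, -, -, hb⟩ := hc.w.tr t h.ht h.t1 u hu u1
      have e1 : FS Ω T = Fx Ω u := Set.eq_of_subset_of_ncard_le (FS_sub_Fx hu) (by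
        rw [← hb, ncard_Fx_conj, eF])
      have e2 : Fx Ω s = FS Ω T := by
        refine Set.eq_of_subset_of_ncard_le (fun x hx => ?_) (by rw [← hg, ncard_Fx_conj, eF])
        rw [← smul_inv_smul g x, ← hg, smul_mem_Fx_conj, eF] at hx
        have := hx _ m
        rw [mul_smul, mul_smul, smul_inv_smul, smul_left_cancel_iff] at this
        exact e1 ▸ this
      have : s • α = α := show α ∈ Fx Ω s from e2 ▸ hc.ma
      exact hc.ne (this.symm.trans h.out.sw)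
  obtain ⟨u, hu, u1, ut⟩ : ∃ u ∈ (T ⊓ 𝐂[s] : Subgroup G), u ≠ 1 ∧ u ≠ t := by
    by_contra k
    push Not at k
    have l : ((T ⊓ 𝐂[s] : Subgroup G) : Set G) ⊆ {1, t} := fun u hu => or_iff_not_imp_left.2 (k u hu)
    have := (Set.ncard_le_ncard l).trans (Set.ncard_insert_le _ _)
    rw [OA4.ncard_sub, h.card1, Set.ncard_singleton] at this
    have := OA4.four h
    omega
  obtain ⟨uT, us⟩ := mem_inf.1 hu
  rw [mem_centralizer_singleton_iff] at us
  obtain ⟨a1, a2, a3⟩ := key u uT us u1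
  obtain ⟨b1, b2, b3⟩ := key t h.ht h.st.symm h.t1
  refine (key (u * t) (T.mul_mem uT h.ht)
    ((show Commute u s from us).mul_left (show Commute t s from h.st.symm)) fun e => ut ?_).2.2 ?_
  · rw [← mul_left_inj t, e, hc.w.sq t h.ht]
  · have := h.rank_one hf a1 a2 a3 b1 b2 b3 (by
      calc g⁻¹ * u * g * (g⁻¹ * t * g) = g⁻¹ * (u * t) * g := by group
        _ = _ := by rw [hc.w.comm uT h.ht]; group)
    rwa [show g⁻¹ * u * g * (g⁻¹ * t * g) = g⁻¹ * (u * t) * g by group] at this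

theorem OA.wc {s t κ : G} {q : ℕ} (h : OA α β T s t κ q)
    (hf : Odd (FS Ω T).ncard ∨ (FS Ω T).ncard = 2) {u g : G} (hu : u ∈ T) (hg : g * t = t * g)
    (hu' : g * u * g⁻¹ ∈ T) :
    ∃ n ∈ (𝐍(T) ⊓ 𝐂[t] : Subgroup G), n * u * n⁻¹ = g * u * g⁻¹ := by
  have hc := h.toCf
  have TC : ∀ v ∈ T, T ≤ 𝐂[v] := fun v hv w hw => mem_centralizer_singleton_iff.2 (hc.w.comm hw hv)
  obtain ⟨P, hP, TP⟩ := exists_isSylowIn_le (L := 𝐍(T) ⊓ 𝐂[t]) hc.w.two (le_inf le_normalizer (TC t h.ht))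
  have PC : P ≤ 𝐂[t] := hP.le.trans inf_le_right
  have hP' : IsSylowIn 2 P 𝐂[t] := isSylowIn_of_normalizer PC (hP.mono (le_inf PC le_normalizer)
    fun c k => mem_inf.2 ⟨OA4.cj_eq h hf ((cj_mono c TP).trans
      ((cj_eq_of_mem_normalizer (mem_inf.1 k).2).le.trans hP.le)), (mem_inf.1 k).1⟩)
  obtain ⟨Q, hQ, TQ⟩ := exists_isSylowIn_le (L := 𝐂[t] ⊓ 𝐂[g * u * g⁻¹]) hc.w.two
    (le_inf (TC t h.ht) (TC _ hu'))
  obtain ⟨x, hx, k1⟩ := hQ.exists_cj_le (isPGroup_cj hc.w.two g) (le_inf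
    (cj_le_of_mem (TC t h.ht) (mem_centralizer_singleton_iff.2 hg))
    (by rw [← cj_centralizer_singleton]; exact cj_mono g (TC u hu)))
  obtain ⟨y, hy, k2⟩ := hP'.exists_cj_le hQ.isP (hQ.le.trans inf_le_left)
  have n1 := OA4.cj_eq h hf ((cj_mono y TQ).trans (k2.trans hP.le))
  have n2 := OA4.cj_eq h hf (c := y * (x * g)) (by
    rw [← cj_cj, ← cj_cj]
    exact (cj_mono y k1).trans (k2.trans hP.le))
  refine ⟨x * g, mem_inf.2 ⟨(mul_mem_cancel_left n1).1 n2,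
    mul_mem (mem_inf.1 hx).1 (mem_centralizer_singleton_iff.2 hg)⟩, ?_⟩
  have := mem_centralizer_singleton_iff.1 (mem_inf.1 hx).2
  calc x * g * u * (x * g)⁻¹ = x * (g * u * g⁻¹) * x⁻¹ := by group
    _ = _ := by rw [this, mul_inv_cancel_right]

end H45.TS
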