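import Mathlib
import Cfsg.Agent.Lib.TS.OA0

/-! Outer case, type `L₂(2^m)`, odd degree: `κ` fixes `Fix T`.  See `blueprint/TS/README.md`. -/

set_option autoImplicit false
set_option linter.unusedSectionVars false

namespace H45.TS

open Subgroup MulAction Cfsg H69 H45 H81
open H81.TP (T2)

universe u v

variable {G : Type u} [Group G] [Finite G] {Ω : Type v} [MulAction G Ω] [Finite Ω]
  {α β : Ω} {H T : Subgroup G}

local instance factOA5 : Fact (Nat.Prime 2) := ⟨Nat.prime_two⟩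

namespace OA5

/-- an element of `N(T)` acting on `Fix T` with trivial square and two fixed points acts trivially -/
theorem one_fix (hc : Cf α β T) {r : G} (hr : r ∈ 𝐍(T)) (h2 : ∀ x ∈ FS Ω T, r • r • x = x) {a b : Ω}
    (ha : a ∈ FS Ω T) (hb : b ∈ FS Ω T) (ab : a ≠ b) (e1 : r • a = a) (e2 : r • b = b) :
    ∀ x ∈ FS Ω T, r • x = x := by
  obtain ⟨g, hg, rfl, rfl⟩ := hc.wittN.tr a ha b hb ab
  obtain ⟨m, ⟨j, rfl⟩, hm⟩ := hc.w.odd_pow (b := g⁻¹ * r * g)
    ⟨by show _ • α = α; rw [mul_smul, mul_smul, e1, inv_smul_smul],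
      by show _ • β = β; rw [mul_smul, mul_smul, e2, inv_smul_smul]⟩
    (mul_mem (mul_mem (inv_mem hg) hr) hg)
  have k : ∀ i : ℕ, ∀ x ∈ FS Ω T, r ^ (2 * i) • x = x := fun i x hx => by
    induction i with
    | zero => simp
    | succ i ih => rw [Nat.mul_succ, pow_add, pow_two, mul_smul, mul_smul, h2 x hx, ih]
  intro x hx
  have := conj_mem_of_mem_normalizer hg hm
  rw [← conj_pow, show g * (g⁻¹ * r * g) * g⁻¹ = r by group] at this
  have e := hx _ this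
  rwa [pow_succ, mul_smul, k j _ (FS_smul hr hx)] at e

variable {s t κ : G} {q : ℕ} (h : OA α β T s t κ q)
include h

theorem same (ho : Odd (FS Ω T).ncard) {P : Subgroup G} (hP : IsPGroup 2 P) (PN : P ≤ 𝐍(T))
    {w w' : G} (hw : w ∈ P) (hw' : w' ∈ P) (w2 : ∀ x ∈ FS Ω T, w • w • x = x)
    (w2' : ∀ x ∈ FS Ω T, w' • w' • x = x) (w1 : ¬ ∀ x ∈ FS Ω T, w • x = x)
    (w1' : ¬ ∀ x ∈ FS Ω T, w' • x = x) : ∀ x ∈ FS Ω T, w • x = w' • x := by
  have hc := h.toCf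
  obtain ⟨⟨t', ht'⟩, t1⟩ := ne_bot_iff_exists_ne_one.1 (inf_centralizer_ne_bot hc.w.two hP PN
    fun e => h.t1 (mem_bot.1 (e ▸ h.ht)))
  obtain ⟨b, -, bN, hb⟩ := hc.w.tr t' (mem_inf.1 ht').1 (fun e => t1 (Subtype.ext e)) t h.ht h.t1
  obtain ⟨ω, hω, fx⟩ := TP.exists_fix hP (Set.toFinite (FS Ω T)) (fun g hg x hx => FS_smul (PN hg) hx)
    (fun e => (Nat.not_even_iff_odd.2 ho) (even_iff_two_dvd.2 e))
  have mR : ∀ v ∈ P, (∀ x ∈ FS Ω T, v • v • x = x) → (¬ ∀ x ∈ FS Ω T, v • x = x) →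
      b * v * b⁻¹ ∈ {r | r ∈ (𝐍(T) ⊓ 𝐂[t] : Subgroup G) ∧ r * r ∈ T ∧ r ∉ T} := fun v hv v2 v1 => by
    have e : b * v * b⁻¹ * t = t * (b * v * b⁻¹) := by
      have := mem_centralizer_iff.1 (mem_inf.1 ht').2 v hv
      rw [← hb]
      calc b * v * b⁻¹ * (b * t' * b⁻¹) = b * (v * t') * b⁻¹ := by group
        _ = _ := by rw [this]; group
    have f : ∀ x ∈ FS Ω T, (b * v * b⁻¹ * (b * v * b⁻¹)) • x = x := fun x hx => by
      simp only [mul_smul, inv_smul_smul]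
      rw [v2 _ (FS_smul (inv_mem bN) hx), smul_inv_smul]
    refine ⟨mem_inf.2 ⟨mul_mem (mul_mem bN (PN hv)) (inv_mem bN), mem_centralizer_singleton_iff.2 e⟩,
      h.stab ((show Commute _ t from e).mul_left e) (f α hc.ma) (f β hc.mb), fun m => v1 fun x hx => ?_⟩
    have := conj_mem_of_mem_normalizer' bN m
    rw [show b⁻¹ * (b * v * b⁻¹) * b = v by group] at this
    exact hx _ this
  have key := h.wittNt.uq (R := {r | r ∈ (𝐍(T) ⊓ 𝐂[t] : Subgroup G) ∧ r * r ∈ T ∧ r ∉ T})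
    (fun r hr => hr.1)
    (fun g hg u hu => ⟨mul_mem (mul_mem hg hu.1) (inv_mem hg), by
      have := conj_mem_of_mem_normalizer (mem_inf.1 hg).1 hu.2.1
      convert this using 1
      group, fun m => hu.2.2 ((mem_normalizer_iff.1 (mem_inf.1 hg).1 u).2 m)⟩)
    (fun r hr a ha c hc' e1 e2 => by
      by_contra k
      exact hr.2.2 (h.sharp hr.1 ha hc' k e1 e2))
    (fun r hr r' hr' e e1 x hx => by
      have a1 : r • r • α = α := by rw [← mul_smul]; exact hc.fixa hr.2.1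
      have a2 : r' • r' • α = α := by rw [← mul_smul]; exact hc.fixa hr'.2.1
      have := h.sharp (mul_mem (inv_mem hr'.1) hr.1) hc.ma (FS_smul (mem_inf.1 hr.1).1 hc.ma) e1.symm
        (by rw [mul_smul, e, inv_smul_smul]) (by rw [mul_smul, a1, inv_smul_eq_iff, e, a2])
      have := hx _ this
      rwa [mul_smul, inv_smul_eq_iff] at this)
    (mR w hw w2 w1) (mR w' hw' w2' w1') (FS_smul bN hω)
    (by rw [TP.conj_smul_iff]; exact fx w hw) (by rw [TP.conj_smul_iff]; exact fx w' hw')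
  intro x hx
  have := key _ (FS_smul bN hx)
  simp only [mul_smul, inv_smul_smul] at this
  exact smul_left_cancel b this

theorem no_four (ho : Odd (FS Ω T).ncard) (E : Subgroup h.toCf.wittN.bar) : ¬ IsKleinFour E := by
  intro hE
  let f : 𝐍(T) →* h.toCf.wittN.bar := (MulAction.toPermHom _ _).rangeRestrict
  have fs : Function.Surjective f := MonoidHom.rangeRestrict_surjective _
  have fv : ∀ (g : 𝐍(T)) (x : TP.sub _ _ h.toCf.wittN.inv), ((f g • x : TP.sub _ _ h.toCf.wittN.inv) : Ω) =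
    (g : G) • (x : Ω) := fun g x => rfl
  obtain ⟨P, hP⟩ := exists_isSylowIn 2 (E.comap f)
  have k := hP.map f
  rw [map_comap_eq_self_of_surjective fs] at k
  have e := k.max E k.le le_rfl (IsPGroup.of_card (n := 2) hE.card_four)
  obtain ⟨a, b, a1, b1, ab⟩ : ∃ a b : E, a ≠ 1 ∧ b ≠ 1 ∧ a ≠ b := by
    have := Fintype.ofFinite E
    obtain ⟨a, b, c, h1, h2, h3⟩ := (Fintype.two_lt_card_iff (α := E)).1 (by
      rw [← Nat.card_eq_fintype_card, hE.card_four]; norm_num)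
    exact ⟨a⁻¹ * b, a⁻¹ * c, fun e => h1 (inv_mul_eq_one.1 e), fun e => h2 (inv_mul_eq_one.1 e),
      fun e => h3 (mul_left_cancel e)⟩
  have lift : ∀ c : E, c ≠ 1 → ∃ w ∈ P, f w = c ∧ (∀ x ∈ FS Ω T, (w : G) • (w : G) • x = x) ∧
      ¬ ∀ x ∈ FS Ω T, (w : G) • x = x := fun c c1 => by
    obtain ⟨w, hw, e⟩ := e.le c.2
    refine ⟨w, hw, e, fun x hx => ?_, fun k => c1 (Subtype.ext (e ▸ h.toCf.wittN.im_eq_one w.2 k))⟩
    have : f (w * w) = 1 := by
      rw [map_mul, e]; exact congrArg Subtype.val (IsKleinFour.mul_self c)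
    have e2 := fv (w * w) ⟨x, hx⟩
    rw [this, one_smul] at e2
    rw [← mul_smul]; exact e2.symm
  obtain ⟨w, hw, e1, w2, w1⟩ := lift a a1
  obtain ⟨w', hw', e1', w2', w1'⟩ := lift b b1
  have := same h ho (hP.isP.map (𝐍(T)).subtype) (map_subtype_le _) ⟨w, hw, rfl⟩ ⟨w', hw', rfl⟩ w2 w2' w1 w1'
  refine ab (Subtype.ext ?_)
  rw [← e1, ← e1']
  exact Subtype.ext (Equiv.ext fun x => Subtype.ext (this x x.2))

end OA5

theorem OA.fix_F {s t κ : G} {q : ℕ} (h : OA α β T s t κ q) (ho : Odd (FS Ω T).ncard) :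
    ∀ x ∈ FS Ω T, κ • x = x := by
  have hc := h.toCf
  have sq : ∀ r (hr : r ∈ 𝐍(T)), r * r ∈ T → hc.wittN.im r hr * hc.wittN.im r hr = 1 := fun r hr e =>
    Subtype.ext (Equiv.ext fun x => Subtype.ext ((mul_smul r r x.1).symm.trans (x.2 _ e)))
  have s2 := sq s h.out.nrm (h.out.sq ▸ T.one_mem)
  have s1 : hc.wittN.im s h.out.nrm ≠ 1 := fun e => by
    have := hc.wittN.im_smul h.out.nrm ⟨α, hc.ma⟩
    rw [e, one_smul] at this
    exact hc.ne (this.trans h.out.sw)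
  obtain ⟨W, hW, tr, fr⟩ := hasReg_of_rank_one hc.wittN.bar_two (even_iff_two_dvd.2 (by
    rw [← orderOf_eq_prime (p := 2) (by rw [pow_two, s2]) s1]; exact orderOf_dvd_natCard _)) (OA5.no_four h ho)
  have iv : ∀ r (hr : r ∈ 𝐍(T)), r * r ∈ T → r • α = β → ∀ w ∈ W,
      hc.wittN.im r hr * w * (hc.wittN.im r hr)⁻¹ = w⁻¹ := fun r hr r2 ra w hw => by
    have q2 : ∀ x ∈ FS Ω T, r • r • x = x := fun x hx => by rw [← mul_smul]; exact hx _ r2
    obtain ⟨ω, hω, e⟩ : {x | x ∈ FS Ω T ∧ r • x = x}.Nonempty := by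
      rw [Set.nonempty_iff_ne_empty]
      intro e
      have p := par_on (fun x hx => FS_smul hr hx) q2
      rw [e, Set.ncard_empty] at p
      exact (Nat.not_even_iff_odd.2 ho) (even_iff_two_dvd.2 ((Nat.modEq_zero_iff_dvd).1 p))
    have ff : MonoidHom.FixedPointFree (MulAut.conjNormal (H := W) (hc.wittN.im r hr)) := fun c k => by
      have k1 : hc.wittN.im r hr * c * (hc.wittN.im r hr)⁻¹ = c := congrArg Subtype.val k
      refine Subtype.ext (fr ⟨ω, hω⟩ c c.2 (Subtype.ext ?_))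
      by_contra ne
      have k2 : r • ((c.1 • (⟨ω, hω⟩ : TP.sub _ _ hc.wittN.inv) : TP.sub _ _ hc.wittN.inv) : Ω) =
          (c.1 • (⟨ω, hω⟩ : TP.sub _ _ hc.wittN.inv) : TP.sub _ _ hc.wittN.inv) := by
        rw [← hc.wittN.im_smul hr, ← mul_smul, mul_inv_eq_iff_eq_mul.1 k1, mul_smul]
        congr 2
        exact Subtype.ext e
      exact hc.ne ((OA5.one_fix hc hr q2 (Subtype.prop _) hω ne k2 e α hc.ma).symm.trans ra)
    have := congrFun (ff.coe_eq_inv_of_involutive fun c => Subtype.ext (by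
      have := sq r hr r2
      simp only [MulAut.conjNormal_apply]
      calc _ = (hc.wittN.im r hr * hc.wittN.im r hr) * c * (hc.wittN.im r hr * hc.wittN.im r hr)⁻¹ := by group
        _ = _ := by rw [this]; simp)) ⟨w, hw⟩
    exact congrArg Subtype.val this
  intro x hx
  obtain ⟨w, hw, e⟩ := tr ⟨α, hc.ma⟩ ⟨x, hx⟩
  have i1 := iv s h.out.nrm (h.out.sq ▸ T.one_mem) h.out.sw w hw
  have i2 := iv (s * κ) (mul_mem h.out.nrm h.κN) (by
    have := h.κs
    rwa [inv_eq_of_mul_eq_one_right h.out.sq, mul_assoc] at this) (by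
    rw [mul_smul, show κ • α = α from h.κH.1, h.out.sw]) w hw
  have e2 : hc.wittN.im (s * κ) (mul_mem h.out.nrm h.κN) = hc.wittN.im s h.out.nrm * hc.wittN.im κ h.κN :=
    Subtype.ext (Equiv.ext fun _ => Subtype.ext (mul_smul _ _ _))
  have e3 : hc.wittN.im κ h.κN * w = w * hc.wittN.im κ h.κN := by
    rw [e2, ← i1] at i2
    calc _ = (hc.wittN.im s h.out.nrm)⁻¹ * (hc.wittN.im s h.out.nrm * hc.wittN.im κ h.κN * w *
        (hc.wittN.im s h.out.nrm * hc.wittN.im κ h.κN)⁻¹) * hc.wittN.im s h.out.nrm *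
        hc.wittN.im κ h.κN := by group
      _ = _ := by rw [i2]; group
  have e4 : hc.wittN.im κ h.κN • (⟨α, hc.ma⟩ : TP.sub _ _ hc.wittN.inv) = ⟨α, hc.ma⟩ := Subtype.ext h.κH.1
  have e5 : hc.wittN.im κ h.κN • (⟨x, hx⟩ : TP.sub _ _ hc.wittN.inv) = ⟨x, hx⟩ := by
    rw [← e, ← mul_smul, e3, mul_smul, e4]
  exact congrArg Subtype.val e5

end H45.TS
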