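import Mathlib
import Cfsg.Agent.Lib.TS.OA4
import Cfsg.Agent.Lib.TS.OA5

/-! Outer case, type `L₂(2^m)`: the contradiction.  See `blueprint/TS/README.md`. -/

set_option autoImplicit false
set_option linter.unusedSectionVars false

namespace H45.TS

open Subgroup MulAction Cfsg H69 H45 H81
open H81.TP (T2)

universe u v

variable {G : Type u} [Group G] [Finite G] {Ω : Type v} [MulAction G Ω] [Finite Ω]
  {α β : Ω} {H T : Subgroup G}

local instance factOA6 : Fact (Nat.Prime 2) := ⟨Nat.prime_two⟩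

namespace OA6

theorem pow_mul_mem {b u : G} (hb : b ∈ 𝐍(T)) (hu : u ∈ T) (j : ℕ) : ∃ w ∈ T, (b * u) ^ j = b ^ j * w := by
  induction j with
  | zero => exact ⟨1, T.one_mem, by simp⟩
  | succ j ih =>
    obtain ⟨w, hw, e⟩ := ih
    exact ⟨b⁻¹ * w * b * u, T.mul_mem (conj_mem_of_mem_normalizer' hb hw) hu, by
      rw [pow_succ, e, pow_succ]; group⟩

theorem ncard_sub (A : Subgroup G) : (A : Set G).ncard = Nat.card A := (Nat.card_coe_set_eq _).symm

end OA6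

theorem OA.fin {s t κ : G} {q : ℕ} (h : OA α β T s t κ q)
    (hf : Odd (FS Ω T).ncard ∨ (FS Ω T).ncard = 2) : False := by
  have hc := h.toCf
  have q4 : 4 ≤ q := by
    obtain ⟨a, ha, e⟩ := h.pow
    rw [e]; exact Nat.pow_le_pow_right (by norm_num : 0 < 2) ha
  have aD : α ∈ Fx Ω t := hc.fixa h.ht
  have bD : β ∈ Fx Ω t := hc.fixb h.ht
  obtain ⟨S, hS⟩ : ∃ S : Set G, ∀ u, u ∈ S ↔ u ∈ T ∧ ∃ a ∈ Fx Ω t, u • a ≠ a := ⟨_, fun _ => Iff.rfl⟩
  have cs : ∀ u ∈ S, ∃ g : G, g * t = t * g ∧ g * u * g⁻¹ = s := fun u hu => by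
    obtain ⟨h1, a, ha, h2⟩ := (hS u).1 hu
    exact h.conj_C (hc.w.sq u h1) (hc.w.comm h1 h.ht) ha h2
  obtain ⟨u₀, hu₀⟩ : ∃ u, u ∈ S := by
    obtain ⟨u, h1, h2⟩ := h.ne_F hf
    exact ⟨u, (hS u).2 ⟨h1, h2⟩⟩
  have l0 : (T : Set G) \ S ⊆ (T ⊓ 𝐂[s] : Subgroup G) := by
    rintro u ⟨h1, h2⟩
    obtain ⟨g, g1, g2⟩ := cs u₀ hu₀
    have fx : ∀ a ∈ Fx Ω t, (g⁻¹ * u * g) • a = a := fun a ha => by
      have : u • g • a = g • a := by
        by_contra e
        exact h2 ((hS u).2 ⟨h1, _, Fx_smul g1 ha, e⟩)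
      rw [mul_smul, mul_smul, this, inv_smul_smul]
    have m : g⁻¹ * u * g ∈ T := h.stab (by
      have := hc.w.comm h1 h.ht
      calc g⁻¹ * u * g * t = g⁻¹ * (u * t) * g := by rw [mul_assoc, g1]; group
        _ = g⁻¹ * (t * g) * (g⁻¹ * u * g) := by rw [this]; group
        _ = t * (g⁻¹ * u * g) := by rw [← g1]; group) (fx α aD) (fx β bD)
    refine mem_inf.2 ⟨h1, mem_centralizer_singleton_iff.2 ?_⟩
    have := hc.w.comm m ((hS u₀).1 hu₀).1
    rw [← g2]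
    calc u * (g * u₀ * g⁻¹) = g * (g⁻¹ * u * g * u₀) * g⁻¹ := by group
      _ = g * u₀ * g⁻¹ * u := by rw [this]; group
  have c0 : ((T : Set G) \ S).ncard ≤ q := by
    rw [← h.card1, ← OA6.ncard_sub]
    exact Set.ncard_le_ncard l0
  have c1 : q ^ 2 ≤ q + S.ncard := by
    rw [← h.cardT, ← OA6.ncard_sub]
    exact (Set.ncard_le_ncard_sdiff_add_ncard _ S).trans (Nat.add_le_add_right c0 _)
  have tr : ∀ u ∈ S, ∀ u' ∈ S, ∃ n ∈ (𝐍(T) ⊓ 𝐂[t] : Subgroup G), n * u * n⁻¹ = u' := fun u hu u' hu' => by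
    obtain ⟨g, g1, g2⟩ := cs u hu
    obtain ⟨k, k1, k2⟩ := cs u' hu'
    have e : k⁻¹ * g * u * (k⁻¹ * g)⁻¹ = u' := by
      calc k⁻¹ * g * u * (k⁻¹ * g)⁻¹ = k⁻¹ * (g * u * g⁻¹) * k := by group
        _ = u' := by rw [g2, ← k2]; group
    have := h.wc hf ((hS u).1 hu).1 (g := k⁻¹ * g)
      ((Commute.inv_left (show Commute k t from k1)).mul_left (show Commute g t from g1))
      (e ▸ ((hS u').1 hu').1)
    rwa [e] at this
  rcases hf with ho | h2
  · obtain ⟨O, hO⟩ : ∃ O : Set G, O = (fun b => b * t * b⁻¹) '' (zpowers κ : Set G) := ⟨_, rfl⟩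
    have cO : O.ncard = q + 1 := by
      rw [hO, Set.InjOn.ncard_image, OA6.ncard_sub, Nat.card_zpowers, h.κo]
      intro b hb b' hb' e
      obtain ⟨k, hk⟩ := (mem_powers_iff_mem_zpowers.2 ((zpowers κ).mul_mem ((zpowers κ).inv_mem hb') hb))
      have hk' : κ ^ k = b'⁻¹ * b := hk
      have := h.fpf (k := k) h.ht h.t1 (by
        rw [hk']
        have e' : b * t * b⁻¹ = b' * t * b'⁻¹ := e
        calc b'⁻¹ * b * t = b'⁻¹ * (b * t * b⁻¹) * b := by group
          _ = t * (b'⁻¹ * b) := by rw [e']; group)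
      rw [hk', inv_mul_eq_one] at this
      exact this.symm
    have OT : O ⊆ T := by
      rw [hO]
      rintro _ ⟨b, hb, rfl⟩
      exact conj_mem_of_mem_normalizer (zpowers_le.2 h.κN hb) h.ht
    by_cases e : ∃ o ∈ O, o ∈ S
    · obtain ⟨o, oO, oS⟩ := e
      have : S ⊆ O := by
        intro u hu
        obtain ⟨n, hn, rfl⟩ := tr o oS u hu
        obtain ⟨n1, n2⟩ := mem_inf.1 hn
        rw [hO] at oO ⊢
        obtain ⟨b, hb, rfl⟩ := oO
        obtain ⟨j, rfl⟩ := mem_powers_iff_mem_zpowers.2 hb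
        have fx : ∀ a ∈ FS Ω T, (n * κ * n⁻¹) • a = a := fun a ha => by
          rw [mul_smul, mul_smul, h.fix_F ho _ (FS_smul (inv_mem n1) ha), smul_inv_smul]
        obtain ⟨k, w, hw, e⟩ := h.κu (n * κ * n⁻¹) ⟨fx α hc.ma, fx β hc.mb⟩
          (mul_mem (mul_mem n1 h.κN) (inv_mem n1))
          (by rw [conj_pow, ← h.κo, pow_orderOf_eq_one]; simp)
        obtain ⟨w', hw', e'⟩ := OA6.pow_mul_mem (pow_mem h.κN k) hw j
        refine ⟨(κ ^ k) ^ j, pow_mem (pow_mem (mem_zpowers κ) k) j, ?_⟩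
        have n3 : n * t * n⁻¹ = t := by rw [mem_centralizer_singleton_iff.1 n2, mul_inv_cancel_right]
        have w3 : w' * t * w'⁻¹ = t := by rw [hc.w.comm hw' h.ht, mul_inv_cancel_right]
        rw [← e, conj_pow] at e'
        calc (κ ^ k) ^ j * t * ((κ ^ k) ^ j)⁻¹ = (κ ^ k) ^ j * (w' * t * w'⁻¹) * ((κ ^ k) ^ j)⁻¹ := by rw [w3]
          _ = ((κ ^ k) ^ j * w') * t * ((κ ^ k) ^ j * w')⁻¹ := by group
          _ = n * κ ^ j * (n⁻¹ * (n * t * n⁻¹) * n) * (κ ^ j)⁻¹ * n⁻¹ := by rw [← e', n3]; group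
          _ = n * (κ ^ j * t * (κ ^ j)⁻¹) * n⁻¹ := by group
      have := Set.ncard_le_ncard this
      nlinarith
    · have : O ⊆ (T : Set G) \ S := fun o ho => ⟨OT ho, fun k => e ⟨o, ho, k⟩⟩
      have := Set.ncard_le_ncard this
      omega
  · have eF : FS Ω T = {α, β} := by
      refine (Set.eq_of_subset_of_ncard_le ?_ ?_).symm
      · rintro x (rfl | rfl); exacts [hc.ma, hc.mb]
      · rw [h2, Set.ncard_pair hc.ne]
    have : S ⊆ {u₀, s * u₀ * s⁻¹} := by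
      intro u hu
      obtain ⟨n, hn, rfl⟩ := tr u₀ hu₀ u hu
      obtain ⟨n1, n2⟩ := mem_inf.1 hn
      have n3 := mem_centralizer_singleton_iff.1 n2
      have ea := FS_smul n1 hc.ma
      have eb := FS_smul n1 hc.mb
      have ne : n • α ≠ n • β := fun e => hc.ne (smul_left_cancel n e)
      rw [eF] at ea eb
      have uT := ((hS u₀).1 hu₀).1
      rcases ea with ea | ea <;> rcases eb with eb | eb
      · exact absurd (ea.trans eb.symm) ne
      · left
        rw [hc.w.comm (h.stab n3 ea eb) uT, mul_inv_cancel_right]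
      · right
        obtain ⟨w, hw, rfl⟩ := h.coset n3 ea eb
        have : w * u₀ * w⁻¹ = u₀ := by rw [hc.w.comm hw uT, mul_inv_cancel_right]
        calc s * w * u₀ * (s * w)⁻¹ = s * (w * u₀ * w⁻¹) * s⁻¹ := by group
          _ = _ := by rw [this]
      · exact absurd (ea.trans eb.symm) ne
    have := (Set.ncard_le_ncard this).trans (Set.ncard_insert_le _ _)
    rw [Set.ncard_singleton] at this
    nlinarith

end H45.TS
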