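import Mathlib
import Cfsg.Agent.Lib.TS.BB

/-! Outer case, type `L₂(q)`, `q` odd: the dihedral group `C(t) ∩ G_{α,β}`.  See `blueprint/TS/README.md`. -/

set_option autoImplicit false
set_option linter.unusedSectionVars false

namespace H45.TS

open Subgroup MulAction Cfsg H69 H45 H81
open H81.TP (T2)

universe u v

variable {G : Type u} [Group G] [Finite G] {Ω : Type v} [MulAction G Ω] [Finite Ω]
  {α β : Ω} {H T : Subgroup G}

local instance factOB1 : Fact (Nat.Prime 2) := ⟨Nat.prime_two⟩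

namespace OB

variable {s t v : G} {R Y : Subgroup G} {k : ℕ} (h : OB α β T s t v R Y k)
include h

theorem o1_t2 : t * t = 1 := h.w.sq t h.pb.ht
theorem o1_v2 : v * v = 1 := h.w.sq v h.pb.hv
theorem o1_vt : v * t = t * v := h.w.comm h.pb.hv h.pb.ht
theorem o1_si : s⁻¹ = s := inv_eq_of_mul_eq_one_right h.out.sq
theorem o1_vi : v⁻¹ = v := inv_eq_of_mul_eq_one_right h.o1_v2
theorem o1_Rt {r : G} (hr : r ∈ R) : r * t = t * r := h.pb.tor.comm r hr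

theorem o1_Rcomm {a b : G} (ha : a ∈ R) (hb : b ∈ R) : a * b = b * a := by
  obtain ⟨g, hg⟩ := h.pb.tor.cyc.exists_generator
  obtain ⟨m, e⟩ := hg ⟨a, ha⟩
  obtain ⟨n, e'⟩ := hg ⟨b, hb⟩
  have := (Commute.refl g).zpow_zpow m n
  simp only at e e'
  rw [e, e'] at this
  exact congrArg Subtype.val this.eq

theorem o1_v_inv {r : G} (hr : r ∈ R) : v * r * v⁻¹ = r⁻¹ :=
  (h.pb.tor.inv v (h.w.le h.pb.hv) h.o1_vt h.pb.vR).2 r hr

theorem o1_vsv : v * s * v = s * t := by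
  have := h.pb.sv
  rw [h.o1_si] at this
  calc v * s * v = s * s * v * s * v := by rw [h.out.sq, one_mul]
    _ = s * (s * v * s) * v := by group
    _ = s * t * (v * v) := by rw [this]; group
    _ = s * t := by rw [h.o1_v2, mul_one]

theorem o1_R_inv {r : G} (hr : r ∈ R) (r2 : r * r = 1) : r = 1 ∨ r = t := by
  have rv : v * r = r * v := by
    have := h.o1_v_inv hr
    rw [inv_eq_of_mul_eq_one_right r2] at this
    exact mul_inv_eq_iff_eq_mul.1 this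
  have : r ∈ T := h.w.cent r (h.pb.tor.le hr) (mem_centralizer_iff_commute.2 fun u hu => by
    rcases h.pb.mem u hu with rfl | rfl | rfl | rfl
    · simp
    · exact (h.o1_Rt hr).symm
    · exact rv
    · rw [mul_assoc, rv, ← mul_assoc, ← h.o1_Rt hr, mul_assoc])
  rcases h.pb.mem r this with e | e | e | e
  · exact Or.inl e
  · exact Or.inr e
  · exact absurd (e ▸ hr) h.pb.vR
  · exact absurd ((mul_mem_cancel_left h.pb.tR).1 (e ▸ hr)) h.pb.vR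

theorem o1_R_pow {r : G} (hr : r ∈ R) : r ^ k * r ^ k = 1 := by
  have := congrArg Subtype.val (pow_card_eq_one' (x := (⟨r, hr⟩ : R)))
  rw [h.pb.cardR, two_mul, pow_add] at this
  exact this

theorem o1_odd_sq {a : G} (h1 : a ^ k = 1) (h2 : a * a = 1) : a = 1 := by
  obtain ⟨m, e⟩ := h.pb.odd
  rw [e, pow_succ, pow_mul, sq, h2, one_pow, one_mul] at h1
  exact h1

theorem o1_R_dec {r : G} (hr : r ∈ R) : ∃ ρ ∈ R, (ρ * ρ) ^ k = 1 ∧ (r = ρ * ρ ∨ r = t * (ρ * ρ)) := by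
  obtain ⟨m, e⟩ := h.pb.odd
  have e1 : r ^ (m + 1) * r ^ (m + 1) = r ^ k * r := by rw [e, ← pow_add, ← pow_succ]; congr 1; ring
  refine ⟨r ^ (m + 1), pow_mem hr _, ?_, ?_⟩
  · rw [(Commute.refl _).mul_pow]; exact h.o1_R_pow (pow_mem hr _)
  · rw [e1]
    rcases h.o1_R_inv (pow_mem hr k) (h.o1_R_pow hr) with l | l
    · left; rw [l, one_mul]
    · right; rw [l, ← mul_assoc, h.o1_t2, one_mul]

theorem o1_not_sq {r : G} (hr : r ∈ R) : r * r ≠ t := by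
  intro e
  have := h.o1_R_pow hr
  rw [← (Commute.refl r).mul_pow, e] at this
  exact h.pb.t1 (h.o1_odd_sq this h.o1_t2)

theorem o1_s_inv0 {a : G} (ha : a ∈ R) (hk : a ^ k = 1) : s * a * s⁻¹ = a⁻¹ := by
  have hk' : (s * a * s⁻¹) ^ k = 1 := by rw [conj_pow, hk, mul_one, mul_inv_cancel]
  have aH : s * a * s⁻¹ ∈ H2 G α β :=
    conj_mem_of_mem_normalizer (h.toCf.norm_H h.out.sw h.out.sb) (h.pb.tor.le ha)
  have aR : s * a * s⁻¹ ∈ R := by
    by_contra hn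
    have := (h.pb.tor.inv _ aH (by
      rw [h.o1_si, mul_assoc, h.pb.st, ← mul_assoc, mul_assoc s, h.o1_Rt ha, ← mul_assoc, h.pb.st]
      group) hn).1
    exact hn (h.o1_odd_sq hk' this ▸ one_mem _)
  have yR := mul_mem ha aR
  have ys : a * (s * a * s⁻¹) * s = s * (a * (s * a * s⁻¹)) := by
    calc a * (s * a * s⁻¹) * s = a * s * a := by group
      _ = s * s * a * s * a := by rw [h.out.sq, one_mul]
      _ = s * (s * a * s⁻¹ * a) := by rw [h.o1_si]; group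
      _ = _ := by rw [h.o1_Rcomm ha aR]
  have yk : (a * (s * a * s⁻¹)) ^ k = 1 := by
    rw [Commute.mul_pow (h.o1_Rcomm ha aR), hk, hk', mul_one]
  have yY : a * (s * a * s⁻¹) ∈ Y := by
    by_contra hn
    exact hn (h.o1_odd_sq yk (h.pb.torY.inv _ (h.pb.tor.le yR) ys hn).1 ▸ one_mem _)
  have : a * (s * a * s⁻¹) = 1 := orderOf_eq_one_iff.1
    (Nat.eq_one_of_dvd_coprimes h.pb.cop (Y.orderOf_dvd_natCard yY) (R.orderOf_dvd_natCard yR))
  exact (inv_eq_of_mul_eq_one_right this).symm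

theorem o1_s_inv {r : G} (hr : r ∈ R) : s * r * s⁻¹ = r⁻¹ := by
  obtain ⟨ρ, hρ, h1, e | e⟩ := h.o1_R_dec hr
  · rw [e]; exact h.o1_s_inv0 (mul_mem hρ hρ) h1
  · rw [e, ← mul_assoc, h.pb.st, mul_assoc t, mul_assoc t, h.o1_s_inv0 (mul_mem hρ hρ) h1,
      _root_.mul_inv_rev t, inv_eq_of_mul_eq_one_right h.o1_t2, h.o1_Rt (inv_mem (mul_mem hρ hρ))]

theorem x_sq : s * v * (s * v) = t := by
  calc s * v * (s * v) = s * (v * s * v) := by group
    _ = t := by rw [h.o1_vsv, ← mul_assoc, h.out.sq, one_mul]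

theorem x_cent {r : G} (hr : r ∈ R) : s * v * r = r * (s * v) := by
  calc s * v * r = s * (v * r * v⁻¹) * s⁻¹ * (s * v) := by group
    _ = r * (s * v) := by rw [h.o1_v_inv hr, h.o1_s_inv (inv_mem hr), inv_inv]

theorem memD {g : G} (hg : g * t = t * g) (ga : g • α = α) (gb : g • β = β) :
    g ∈ R ∨ ∃ r ∈ R, g = r * v := by
  by_cases gR : g ∈ R
  · exact Or.inl gR
  have le : R ≤ H2 G α β ⊓ 𝐂[t] := fun r hr =>
    ⟨h.pb.tor.le hr, mem_centralizer_singleton_iff.2 (h.o1_Rt hr)⟩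
  have e := (R.subgroupOf (H2 G α β ⊓ 𝐂[t])).index_mul_card
  rw [card_subgroupOf le, h.pb.tor.idx] at e
  have := (mul_mem_iff_of_index_two (Nat.eq_of_mul_eq_mul_right Nat.card_pos e)
    (a := ⟨g, ⟨ga, gb⟩, mem_centralizer_singleton_iff.2 hg⟩)
    (b := ⟨v, h.w.le h.pb.hv, mem_centralizer_singleton_iff.2 h.o1_vt⟩)).2
    (iff_of_false gR h.pb.vR)
  exact Or.inr ⟨g * v, this, by rw [mul_assoc, h.o1_v2, mul_one]⟩

theorem memD' {g : G} (hg : g * t = t * g) (ga : g • α = β) (gb : g • β = α) :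
    (∃ r ∈ R, g = r * (s * v)) ∨ ∃ r ∈ R, g = r * s := by
  rcases h.memD (g := g * s) (by rw [mul_assoc, h.pb.st, ← mul_assoc, hg, mul_assoc])
    (by rw [mul_smul, h.out.sw, gb]) (by rw [mul_smul, h.out.sb, ga]) with l | ⟨r, hr, l⟩
  · exact Or.inr ⟨_, l, by rw [mul_assoc, h.out.sq, mul_one]⟩
  · refine Or.inl ⟨r * t, mul_mem hr h.pb.tR, ?_⟩
    calc g = g * s * s := by rw [mul_assoc, h.out.sq, mul_one]
      _ = r * (v * s * v) * v := by rw [l, mul_assoc r (v * s * v), mul_assoc (v * s), h.o1_v2]; group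
      _ = r * t * (s * v) := by rw [h.o1_vsv, h.pb.st]; group

theorem o1_rx_sq {r : G} (hr : r ∈ R) : r * (s * v) * (r * (s * v)) = r * r * t := by
  rw [← h.x_sq, mul_assoc r (s * v), ← mul_assoc (s * v), h.x_cent hr]; group

theorem o1_rs_sq {r : G} (hr : r ∈ R) : r * s * (r * s) = 1 := by
  calc r * s * (r * s) = r * (s * r * s⁻¹) := by rw [h.o1_si]; group
    _ = 1 := by rw [h.o1_s_inv hr, mul_inv_cancel]

theorem o1_rv_sq {r : G} (hr : r ∈ R) : r * v * (r * v) = 1 := by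
  calc r * v * (r * v) = r * (v * r * v⁻¹) := by rw [h.o1_vi]; group
    _ = 1 := by rw [h.o1_v_inv hr, mul_inv_cancel]

theorem four_swap {g : G} (g2 : g * g = t) (ga : g • α = β) (gb : g • β = α) :
    g = s * v ∨ g = (s * v)⁻¹ := by
  rcases h.memD' (by rw [← g2, mul_assoc]) ga gb with ⟨r, hr, rfl⟩ | ⟨r, hr, rfl⟩
  · rw [h.o1_rx_sq hr] at g2
    rcases h.o1_R_inv hr (mul_eq_right.1 g2) with e | e
    · left; rw [e, one_mul]
    · right; rw [e, eq_inv_iff_mul_eq_one, mul_assoc, h.x_sq, h.o1_t2]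
  · exact absurd ((h.o1_rs_sq hr).symm.trans g2).symm h.pb.t1

theorem o1_conj_aux {w c : G} (hw : ∀ r ∈ R, w * r * w⁻¹ = r⁻¹) (ct : c * t = t * c)
    (cw : c * (t * w) * c⁻¹ = w) {r : G} (hr : r ∈ R) : ∃ g : G, g * t = t * g ∧ g * (r * w) * g⁻¹ = w := by
  obtain ⟨ρ, hρ, -, e⟩ := h.o1_R_dec hr
  have e1 : ρ⁻¹ * (ρ * ρ * w) * ρ⁻¹⁻¹ = w := by
    calc ρ⁻¹ * (ρ * ρ * w) * ρ⁻¹⁻¹ = ρ * (w * ρ * w⁻¹) * w := by group
      _ = w := by rw [hw ρ hρ, mul_inv_cancel, one_mul]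
  rcases e with rfl | rfl
  · exact ⟨ρ⁻¹, h.o1_Rt (inv_mem hρ), e1⟩
  · refine ⟨c * ρ⁻¹, by rw [mul_assoc, h.o1_Rt (inv_mem hρ), ← mul_assoc, ct, mul_assoc], ?_⟩
    calc c * ρ⁻¹ * (t * (ρ * ρ) * w) * (c * ρ⁻¹)⁻¹ = c * (ρ⁻¹ * t * (ρ * ρ * w) * ρ⁻¹⁻¹) * c⁻¹ := by group
      _ = c * (t * (ρ⁻¹ * (ρ * ρ * w) * ρ⁻¹⁻¹)) * c⁻¹ := by rw [h.o1_Rt (inv_mem hρ)]; group
      _ = w := by rw [e1, cw]

theorem conj_rs {r : G} (hr : r ∈ R) : ∃ g : G, g * t = t * g ∧ g * (r * s) * g⁻¹ = s := by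
  refine h.o1_conj_aux (fun _ => h.o1_s_inv) h.o1_vt ?_ hr
  rw [h.o1_vi, ← mul_assoc, h.o1_vt, mul_assoc t, mul_assoc t, h.o1_vsv, h.pb.st, ← mul_assoc, h.o1_t2, one_mul]

theorem conj_rv {r : G} (hr : r ∈ R) : ∃ g : G, g * t = t * g ∧ g * (r * v) * g⁻¹ = v := by
  refine h.o1_conj_aux (fun _ => h.o1_v_inv) h.pb.st ?_ hr
  rw [← mul_assoc, h.pb.st, mul_assoc t, mul_assoc t, h.pb.sv, ← mul_assoc, h.o1_t2, one_mul]

theorem o1_inv_sw {g : G} (g2 : g * g = 1) (hg : g * t = t * g) (ga : g • α = β) (gb : g • β = α) :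
    ∃ r ∈ R, g = r * s := by
  rcases h.memD' hg ga gb with ⟨r, hr, rfl⟩ | l
  · rw [h.o1_rx_sq hr] at g2
    exact absurd ((eq_inv_of_mul_eq_one_left g2).trans (inv_eq_of_mul_eq_one_right h.o1_t2)) (h.o1_not_sq hr)
  · exact l

theorem conj_s : IsConj t s := by
  obtain ⟨w, cw, w2, wa, wb⟩ := h.toCf.inv_swap h.o1_t2 h.pb.t1
  obtain ⟨g, hg, u, hu, e⟩ := h.toCf.cm h.out.sq h.out.sw h.out.nrm (x := w) (k := 1)
    (by rw [pow_one, sq, w2]) wa wb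
  obtain ⟨r, hr, e'⟩ := h.o1_inv_sw (g := s * u) (by rw [← e, conj_mul, w2, mul_one, mul_inv_cancel])
    (by rw [mul_assoc, h.w.comm hu h.pb.ht, ← mul_assoc, h.pb.st, mul_assoc])
    (by rw [mul_smul, h.toCf.fixa hu, h.out.sw]) (by rw [mul_smul, h.toCf.fixb hu, h.out.sb])
  obtain ⟨c, -, e''⟩ := h.conj_rs hr
  exact cw.trans ((isConj_iff.2 ⟨g, e.trans e'⟩).trans (isConj_iff.2 ⟨c, e''⟩))

theorem FT : FS Ω T = {x | x ∈ Fx Ω t ∧ v • x = x} := by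
  ext x
  refine ⟨fun hx => ⟨hx t h.pb.ht, hx v h.pb.hv⟩, fun hx u hu => ?_⟩
  rcases h.pb.mem u hu with rfl | rfl | rfl | rfl
  · exact one_smul _ _
  · exact hx.1
  · exact hx.2
  · rw [mul_smul, hx.2]; exact hx.1

theorem o1_mv {u : G} (u2 : u * u = 1) (ut : u * t = t * u) {b : Ω} (hb : b ∈ Fx Ω t) (ub : u • b ≠ b) :
    ∃ g : G, g * t = t * g ∧ g * u * g⁻¹ = s := by
  obtain ⟨g, hg, -, -, h1, h2⟩ := T2_swap (h.toCf.wittC h.pb.ht h.pb.t1) hb (Fx_smul ut hb) ub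
    (by rw [← mul_smul, u2, one_smul])
  have gt := mem_centralizer_singleton_iff.1 (inv_mem hg)
  obtain ⟨r, hr, e⟩ := h.o1_inv_sw (g := g⁻¹ * u * g)
    (by rw [show g⁻¹ * u * g * (g⁻¹ * u * g) = g⁻¹ * (u * u) * g by group, u2, mul_one, inv_mul_cancel])
    (mem_centralizer_singleton_iff.1
      (mul_mem (mul_mem (inv_mem hg) (mem_centralizer_singleton_iff.2 ut)) hg)) h1 h2
  obtain ⟨c, ct, e'⟩ := h.conj_rs hr
  refine ⟨c * g⁻¹, by rw [mul_assoc, gt, ← mul_assoc, ct, mul_assoc], ?_⟩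
  rw [← e', ← e]; group

/-- either `v` fixes `Fix t` pointwise, or all involutions of `C(t)` other than `t` are conjugate
in `C(t)` -/
theorem triv_or : (∀ x ∈ Fx Ω t, v • x = x) ∨
    ∀ u : G, u * u = 1 → u ≠ 1 → u ≠ t → u * t = t * u →
      ∃ g : G, g * t = t * g ∧ g * u * g⁻¹ = v := by
  by_cases hv : ∀ x ∈ Fx Ω t, v • x = x
  · exact Or.inl hv
  refine Or.inr fun u u2 u1 ut uc => ?_
  push Not at hv
  obtain ⟨a, ha, va⟩ := hv
  by_cases hu : ∀ x ∈ Fx Ω t, u • x = x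
  · rcases h.memD uc (hu _ (h.toCf.fixa h.pb.ht)) (hu _ (h.toCf.fixb h.pb.ht)) with l | ⟨r, hr, rfl⟩
    · exact ((h.o1_R_inv l u2).elim u1 ut).elim
    · exact h.conj_rv hr
  · push Not at hu
    obtain ⟨b, hb, ub⟩ := hu
    obtain ⟨g, gt, e⟩ := h.o1_mv u2 uc hb ub
    obtain ⟨c, ct, e'⟩ := h.o1_mv h.o1_v2 h.o1_vt ha va
    refine ⟨c⁻¹ * g, mem_centralizer_singleton_iff.1 (mul_mem (inv_mem
      (mem_centralizer_singleton_iff.2 ct)) (mem_centralizer_singleton_iff.2 gt)), ?_⟩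
    calc c⁻¹ * g * u * (c⁻¹ * g)⁻¹ = c⁻¹ * (g * u * g⁻¹) * c := by group
      _ = v := by rw [e, ← e']; group

theorem i_cases : (Fx Ω t).ncard = (FS Ω T).ncard ∨ (Fx Ω t).ncard = (FS Ω T).ncard ^ 2 := by
  rcases h.triv_or with l | l
  · left
    rw [h.FT]
    congr 1
    exact Set.ext fun x => ⟨fun hx => ⟨hx, l x hx⟩, fun hx => hx.1⟩
  right
  have e := (h.toCf.wittC h.pb.ht h.pb.t1).dc (D := {u | u * u = 1 ∧ u ≠ 1 ∧ u ≠ t ∧ u * t = t * u})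
    (fun u hu => mem_centralizer_singleton_iff.2 hu.2.2.2) (by
      rintro g hg u ⟨u2, u1, ut, uc⟩
      have gt : g * t * g⁻¹ = t := by rw [mem_centralizer_singleton_iff.1 hg, mul_inv_cancel_right]
      refine ⟨by rw [conj_mul, u2, mul_one, mul_inv_cancel], by simpa using u1, fun e => ut ?_,
        mem_centralizer_singleton_iff.1
          (mul_mem (mul_mem hg (mem_centralizer_singleton_iff.2 uc)) (inv_mem hg))⟩
      simpa using e.trans gt.symm) (f := (FS Ω T).ncard) (by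
      rintro u ⟨u2, u1, ut, uc⟩
      obtain ⟨g, gt, e⟩ := l u u2 u1 ut uc
      rw [← ncard_two_conj t u g, e, gt, mul_inv_cancel_right, h.FT])
  have c : ∀ w : G, ((· * w) '' (R : Set G)).ncard = 2 * k := fun w => by
    rw [Set.ncard_image_of_injective _ (mul_left_injective w), ← Nat.card_coe_set_eq]
    exact h.pb.cardR
  have e1 : {u | u ∈ {u : G | u * u = 1 ∧ u ≠ 1 ∧ u ≠ t ∧ u * t = t * u} ∧ (u • α = α ∧ u • β = β)} =
      (· * v) '' (R : Set G) := by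
    ext u
    constructor
    · rintro ⟨⟨u2, u1, ut, uc⟩, ua, ub⟩
      rcases h.memD uc ua ub with l | ⟨r, hr, rfl⟩
      · exact ((h.o1_R_inv l u2).elim u1 ut).elim
      · exact ⟨r, hr, rfl⟩
    · rintro ⟨r, hr, rfl⟩
      have n : r * v ∉ R := fun e => h.pb.vR ((mul_mem_cancel_left hr).1 e)
      refine ⟨⟨h.o1_rv_sq hr, fun e : r * v = 1 => n (e ▸ one_mem _), fun e : r * v = t => n (e ▸ h.pb.tR), ?_⟩,
        mul_mem (h.pb.tor.le hr) (h.w.le h.pb.hv)⟩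
      rw [mul_assoc, h.o1_vt, ← mul_assoc, h.o1_Rt hr, mul_assoc]
  have e2 : {u | u ∈ {u : G | u * u = 1 ∧ u ≠ 1 ∧ u ≠ t ∧ u * t = t * u} ∧ u • α = β} =
      (· * s) '' (R : Set G) := by
    ext u
    constructor
    · rintro ⟨⟨u2, u1, ut, uc⟩, ua⟩
      obtain ⟨r, hr, rfl⟩ := h.o1_inv_sw u2 uc ua (by rw [← ua, ← mul_smul, u2, one_smul])
      exact ⟨r, hr, rfl⟩
    · rintro ⟨r, hr, rfl⟩
      have ua : (r * s) • α = β := by rw [mul_smul, h.out.sw]; exact (h.pb.tor.le hr).2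
      refine ⟨⟨h.o1_rs_sq hr, fun e : r * s = 1 => h.ne ?_, fun e : r * s = t => h.ne ?_, ?_⟩, ua⟩
      · rw [← ua, e, one_smul]
      · rw [← ua, e, h.toCf.fixa h.pb.ht]
      · rw [mul_assoc, h.pb.st, ← mul_assoc, h.o1_Rt hr, mul_assoc]
  rw [e1, e2, c, c] at e
  have k0 : ((2 * k : ℕ) : ℤ) ≠ 0 := by have := h.pb.three; omega
  have := mul_left_cancel₀ k0 e
  zify
  linear_combination this

end OB

end H45.TS
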