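import Mathlib
import Cfsg.Agent.Lib.TS.OB1
import Cfsg.Agent.Lib.Fusion.Rigid

/-! Outer case, type `L₂(q)`, `q` odd, even degree.  See `blueprint/TS/README.md`. -/

set_option autoImplicit false
set_option linter.unusedSectionVars false

namespace H45.TS

open Subgroup MulAction Cfsg H69 H45 H81
open H81.TP (T2)

universe u v

variable {G : Type u} [Group G] [Finite G] {Ω : Type v} [MulAction G Ω] [Finite Ω]
  {α β : Ω} {H T : Subgroup G}

local instance factOB2 : Fact (Nat.Prime 2) := ⟨Nat.prime_two⟩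

namespace OB2

theorem cent_le {s : G} (h : Cf α β T) (hs : Out α β T s) (he : Even (Nat.card Ω)) : 𝐂(T) ≤ T := by
  intro c hc
  by_contra hn
  obtain ⟨a, ha, hm⟩ : ∃ a ∈ FS Ω T, c • a ≠ a := by
    by_contra hh
    push Not at hh
    exact hn (h.centT hc h.ma h.mb h.ne (hh _ h.ma) (hh _ h.mb))
  have hle : 𝐂(T) ≤ 𝐍(T) := centralizer_le_normalizer _
  have h1 := card_of_tr (N := 𝐂(T)) (F := FS Ω T) (fun g hg x hx => FS_smul (hle hg) hx) h.ma
    fun b hb => T2_ntr h.wittN hle (normalizer_le_normalizer_centralizer T) hc ha hm h.ma hb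
  have h2 : 2 ∣ (FS Ω T).ncard :=
    (Nat.ModEq.dvd_iff (par_FS (Ω := Ω) h.w.two) dvd_rfl).1 he.two_dvd
  have h3 : Nat.card T ∣ Nat.card (𝐂(T) ⊓ stabilizer G α : Subgroup G) :=
    card_dvd_of_le (le_inf h.w.le_cent fun u hu => h.fixa hu)
  obtain ⟨x, hx, hx1, hx2⟩ := exists_sq_mem h.w.two h.w.le_cent hle (h1 ▸ mul_dvd_mul h2 h3)
  exact hx1 (Out.cent2 h hs hx hx2)

theorem card_norm (h4 : Nat.card T = 4) (hc : 𝐂(T) ≤ T) : Nat.card (𝐍(T) : Subgroup G) ∣ 24 := by
  have h1 := card_mul_index T.normalizerMonoidHom.ker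
  rw [index_ker, normalizerMonoidHom_ker, card_subgroupOf (centralizer_le_normalizer _)] at h1
  rw [← h1, show 24 = 4 * 6 from rfl]
  exact mul_dvd_mul (h4 ▸ card_dvd_of_le hc)
    ((card_subgroup_dvd_card _).trans (H93.card_mulAut_dvd_six h4))

end OB2

theorem OB.even {s t v : G} {R Y : Subgroup G} {k : ℕ} (h : OB α β T s t v R Y k) (he : Even (Nat.card Ω)) : False := by
  have h1 := OB2.card_norm h.pb.card (OB2.cent_le h.toCf h.out he)
  rw [h.toCf.card_N, h.pb.cardB] at h1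
  have h2 := h.toCf.two_le_f
  have hf : (FS Ω T).ncard = 2 := by
    have := Nat.le_of_dvd (by norm_num) h1
    by_contra hn
    have h3 : 3 ≤ (FS Ω T).ncard := by omega
    have := Nat.mul_le_mul h3 (Nat.mul_le_mul_right 12 (show 2 ≤ (FS Ω T).ncard - 1 by omega))
    omega
  obtain ⟨g, hg⟩ := isConj_iff.1 h.conj_s
  have h3 : Nat.card Y ∣ Nat.card (𝐂[t] : Subgroup G) := by
    rw [← card_cj 𝐂[t] g, cj_centralizer_singleton, hg]
    exact card_dvd_of_le fun y hy => mem_centralizer_singleton_iff.2 (h.pb.torY.comm y hy)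
  rw [h.toCf.card_C h.pb.ht h.pb.t1, h.pb.tor.idx, ← mul_assoc, ← mul_assoc] at h3
  have h4 := h.pb.cop.dvd_of_dvd_mul_right h3
  have h5 := h.pb.five
  have h6 := h.pb.oddY
  have h7 : Nat.card Y ∣ 3 * 2 ^ 3 := by
    rcases h.i_cases with e | e <;> rw [e, hf] at h4
    · exact h4.trans (by norm_num)
    · exact h4.trans (by norm_num)
  have := Nat.le_of_dvd (by norm_num)
    ((Nat.Coprime.pow_right 3 h6.coprime_two_right).dvd_of_dvd_mul_right h7)
  omega

end H45.TS
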