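import Mathlib
import Cfsg.Agent.Lib.TS.OB1

/-! Outer case, type `L₂(q)`, `q` odd, odd degree, `v` moves `Fix t`.  See `blueprint/TS/README.md`. -/

set_option autoImplicit false
set_option linter.unusedSectionVars false

namespace H45.TS

open Subgroup MulAction Cfsg H69 H45 H81
open H81.TP (T2)

universe u v

variable {G : Type u} [Group G] [Finite G] {Ω : Type v} [MulAction G Ω] [Finite Ω]
  {α β : Ω} {H T : Subgroup G}

local instance factOB3 : Fact (Nat.Prime 2) := ⟨Nat.prime_two⟩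

namespace OB3

theorem burn {P : Subgroup G} [Fintype P] {F : Set Ω} (hF : ∀ g ∈ P, ∀ x ∈ F, g • x ∈ F) :
    Nat.card P ∣ ∑ g : P, {x | x ∈ F ∧ (g : G) • x = x}.ncard := by
  classical
  have := Fintype.ofFinite Ω
  have : Fintype (Quotient (orbitRel P (TP.sub P F hF))) := Fintype.ofFinite _
  have h1 := sum_card_fixedBy_eq_card_orbits_mul_card_group P (TP.sub P F hF)
  have h2 : ∀ g : P, Fintype.card (fixedBy (TP.sub P F hF) g) =
      {x | x ∈ F ∧ (g : G) • x = x}.ncard := fun g => by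
    rw [← Nat.card_eq_fintype_card, Nat.card_coe_set_eq]
    exact Set.ncard_congr (fun x _ => x.1) (fun x hx => ⟨x.2, congrArg Subtype.val hx⟩)
      (fun a b _ _ e => Subtype.ext e) fun x hx => ⟨⟨x, hx.1⟩, Subtype.ext hx.2, rfl⟩
  simp_rw [h2] at h1
  rw [h1, Nat.card_eq_fintype_card]
  exact dvd_mul_left _ _

variable {s t v : G} {R Y : Subgroup G} {k : ℕ}

theorem four {y : G} (t2 : t * t = 1) (hy : y * y = t) : y ^ 2 ^ 2 = 1 := by
  rw [show y ^ 2 ^ 2 = y * y * (y * y) by simp [pow_succ, mul_assoc], hy, t2]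

theorem uniq (h : OB α β T s t v R Y k) {y : G} (hy : y * y = t) {ω : Ω} (hω : ω ∈ Fx Ω t)
    (e : y • ω = ω) (e' : (s * v) • ω = ω) : y = s * v ∨ y = (s * v)⁻¹ := by
  have hb := h.pb.toTB
  have t2 := h.w.sq t hb.ht
  have hW := h.wittC hb.ht hb.t1
  have hC : ∀ r : G, r * r = t → r ∈ 𝐂[t] := fun r hr =>
    mem_centralizer_singleton_iff.2 (by rw [← hr, mul_assoc])
  have hx : ∀ r : G, r = s * v ∨ r = (s * v)⁻¹ → ∀ p ∈ Fx Ω t, r • p = (s * v) • p := by
    rintro _ (rfl | rfl) p hp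
    · rfl
    · rw [inv_smul_eq_iff, ← mul_smul, h.x_sq]
      exact hp.symm
  have hcj : ∀ g ∈ 𝐂[t], ∀ r : G, r * r = t → g * r * g⁻¹ * (g * r * g⁻¹) = t := fun g hg r hr => by
    rw [conj_mul, hr, mem_centralizer_singleton_iff.1 hg, mul_inv_cancel_right]
  have := hW.uq (R := {r | r * r = t}) hC hcj (fun r hr a _ b _ e1 e2 => by
      by_contra hab
      exact hb.t1 (hr.symm.trans (h.sq_of_fix (four t2 hr) hab e1 e2)))
    (fun r hr r' hr' e1 e2 p hp => by
      obtain ⟨g, hg, ga, gb⟩ := hW.tr α hW.ma (r • α) (hW.inv r (hC r hr) α hW.ma) e2.symm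
      have key : ∀ r₁ : G, r₁ * r₁ = t → r₁ • α = r • α → r₁ • p = g • (s * v) • g⁻¹ • p :=
        fun r₁ h1 h2 => by
        rw [← hx (g⁻¹ * r₁ * g⁻¹⁻¹) (h.four_swap (hcj _ (inv_mem hg) _ h1)
          (BB.cj_smul (by rw [ga, gb, h2])) (BB.cj_smul (by
            rw [ga, gb, ← h2, ← mul_smul, h1]; exact hW.ma))) _ (hW.inv _ (inv_mem hg) p hp),
          inv_inv, mul_smul, mul_smul, smul_inv_smul, smul_inv_smul]
      rw [key r hr rfl, key r' hr' e1.symm]) hy h.x_sq hω e e'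
  exact h.four_swap hy (by rw [this α hW.ma, mul_smul, h.fixa hb.hv, h.out.sw])
    (by rw [this β hW.mb, mul_smul, h.fixb hb.hv, h.out.sb])

end OB3

open OB3 in
theorem OB.odd1 {s t v : G} {R Y : Subgroup G} {k : ℕ} (h : OB α β T s t v R Y k) (ho : Odd (Nat.card Ω))
    (hv : ∃ a ∈ Fx Ω t, v • a ≠ a) : False := by
  classical
  have hb := h.pb.toTB
  have t2 := h.w.sq t hb.ht
  have v2 := h.w.sq v hb.hv
  have hW := h.wittC hb.ht hb.t1
  have hi : Odd (Fx Ω t).ncard := by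
    have := par_Fx (Ω := Ω) t2
    rw [Nat.odd_iff] at ho ⊢
    exact Eq.trans this.symm ho
  obtain ⟨e, he⟩ : Odd (FS Ω T).ncard := by
    have := par_FS (Ω := Ω) h.w.two
    rw [Nat.odd_iff] at ho ⊢
    exact Eq.trans this.symm ho
  obtain ⟨P, hP, hle⟩ := exists_isSylowIn_le (p := 2) (R := T ⊔ zpowers s) (L := 𝐂[t])
    (isPGroup_sup_of_le_normalizer_left h.w.two (TP.isPGroup_zpowers (by rw [sq, h.out.sq]))
      (zpowers_le.2 h.out.nrm))
    (sup_le (fun u hu => mem_centralizer_singleton_iff.2 (h.w.comm hu hb.ht))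
      (zpowers_le.2 (mem_centralizer_singleton_iff.2 h.pb.st)))
  have vP : v ∈ P := hle (mem_sup_left hb.hv)
  have tP : t ∈ P := hle (mem_sup_left hb.ht)
  have xP : s * v ∈ P := mul_mem (hle (mem_sup_right (mem_zpowers s))) vP
  obtain ⟨ω, hω, fω⟩ := TP.exists_fix hP.isP (Set.toFinite (Fx Ω t))
    (fun g hg => hW.inv g (hP.le hg)) (Nat.two_dvd_ne_zero.2 (Nat.odd_iff.1 hi))
  have U : ∀ y ∈ P, y * y = t → y = s * v ∨ y = (s * v)⁻¹ := fun y hy e =>
    uniq h e hω (fω y hy) (fω _ xP)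
  have vx : v * (s * v) * v⁻¹ = (s * v)⁻¹ := by
    rw [mul_inv_rev, inv_eq_of_mul_eq_one_left h.out.sq, ← mul_assoc, mul_inv_cancel_right,
      inv_eq_of_mul_eq_one_left v2]
  have xx := h.x_sq
  generalize s * v = x at xP U vx xx
  have xn : x⁻¹ ≠ x := fun e => hb.t1 (by rw [← xx, ← inv_mul_cancel x, e])
  have cj : ∀ g ∈ P, g * x * g⁻¹ = x ∨ g * x * g⁻¹ = x⁻¹ := fun g hg =>
    U _ (mul_mem (mul_mem hg xP) (inv_mem hg)) (by
      rw [conj_mul, xx, mem_centralizer_singleton_iff.1 (hP.le hg), mul_inv_cancel_right])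
  have inv : ∀ g ∈ P, g * x * g⁻¹ = x → g * g = 1 → g = 1 ∨ g = t := fun g hg e g2 => by
    have c := mul_inv_eq_iff_eq_mul.1 e
    rcases U (g * x) (mul_mem hg xP) (by
      rw [mul_assoc, ← mul_assoc x, ← c, mul_assoc, ← mul_assoc, g2, one_mul, xx]) with k | k
    · exact Or.inl (mul_eq_right.1 k)
    · refine Or.inr ?_
      rw [eq_inv_iff_mul_eq_one, mul_assoc, xx, ← t2] at k
      exact mul_right_cancel k
  have out : ∀ w ∈ P, w * x * w⁻¹ ≠ x → w * w = 1 := fun w hw e => by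
    have e' := (cj w hw).resolve_left e
    have c : Commute (w ^ 2) x := mul_inv_eq_iff_eq_mul.1 (by
      rw [show w ^ 2 * x * (w ^ 2)⁻¹ = w * (w * x * w⁻¹) * w⁻¹ by rw [sq]; group, e', ← conj_inv, e',
        inv_inv])
    have key : ∀ a : ℕ, w ^ 2 ^ (a + 1) = 1 → w * w = 1 := fun a => by
      induction a with
      | zero => intro k; rw [← sq]; exact k
      | succ a ih =>
        intro k
        rcases inv (w ^ 2 ^ (a + 1)) (pow_mem hw _) (mul_inv_eq_iff_eq_mul.2 (by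
          rw [pow_succ', pow_mul]; exact c.pow_left _)) (by rw [← sq, ← pow_mul]; exact k)
          with k | k
        · exact ih k
        rw [pow_succ, pow_mul, sq] at k
        have c' : w * w ^ 2 ^ a * w⁻¹ = w ^ 2 ^ a :=
          mul_inv_eq_iff_eq_mul.2 (Commute.self_pow w _)
        rcases U _ (pow_mem hw _) k with k | k <;> rw [k] at c'
        · exact absurd c' e
        · rw [← conj_inv, inv_inj] at c'
          exact absurd c' e
    obtain ⟨a, ha⟩ := isPGroup_iff_mem.1 hP.isP w hw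
    exact key a (by rw [pow_succ, pow_mul, ha, one_pow])
  have := Fintype.ofFinite P
  have hB := burn (P := P) (F := Fx Ω t \ {ω}) fun g hg p hp =>
    ⟨hW.inv g (hP.le hg) p hp.1, fun k => hp.2 (smul_left_cancel g (k.trans (fω g hg).symm))⟩
  have hd : ∀ g ∈ P, {p | p ∈ Fx Ω t \ {ω} ∧ g • p = p}.ncard =
      {p | p ∈ Fx Ω t ∧ g • p = p}.ncard - 1 := fun g hg => by
    rw [← Set.ncard_sdiff_singleton_of_mem (show ω ∈ {p | p ∈ Fx Ω t ∧ g • p = p} from ⟨hω, fω g hg⟩)]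
    exact congrArg _ (Set.ext fun p => ⟨fun k => ⟨⟨k.1.1, k.2⟩, k.1.2⟩, fun k => ⟨⟨k.1.1, k.2⟩, k.1.2⟩⟩)
  have tx : t * x * t⁻¹ = x := by rw [← xx]; group
  have hs : ∀ g : P, {p | p ∈ Fx Ω t \ {ω} ∧ (g : G) • p = p}.ncard =
      ((if g = 1 then (Fx Ω t).ncard - 1 else 0) + if g = ⟨t, tP⟩ then (Fx Ω t).ncard - 1 else 0) +
        if (g : G) * x * (g : G)⁻¹ ≠ x then 2 * e else 0 := fun g => by
    by_cases g1 : g = 1
    · subst g1
      rw [hd _ (1 : P).2, if_pos rfl, if_neg (fun k => hb.t1 (congrArg Subtype.val k).symm),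
        if_neg (by simp)]
      simp
    by_cases gt : g = ⟨t, tP⟩
    · subst gt
      rw [hd _ tP, if_neg g1, if_pos rfl, if_neg (not_not.2 tx), zero_add, add_zero]
      exact congrArg (· - 1) (congrArg _ (Set.ext fun p => ⟨fun k => k.1, fun k => ⟨k, k⟩⟩))
    rw [if_neg g1, if_neg gt]
    have g1' : (g : G) ≠ 1 := fun k => g1 (Subtype.ext k)
    have gt' : (g : G) ≠ t := fun k => gt (Subtype.ext k)
    split_ifs with c
    · obtain ⟨y, hy, k⟩ := (h.triv_or.resolve_left fun k => hv.elim fun a ha => ha.2 (k a ha.1))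
        g (out g g.2 c) g1' gt' (mem_centralizer_singleton_iff.1 (hP.le g.2))
      rw [hd _ g.2, ← ncard_two_conj t g y, k, mul_inv_eq_iff_eq_mul.2 hy, ← h.FT, he]
      simp
    · rw [add_zero, Set.ncard_eq_zero, Set.eq_empty_iff_forall_notMem]
      intro p hp
      obtain ⟨a, ha⟩ := isPGroup_iff_mem.1 hP.isP g g.2
      exact (inv g g.2 (not_not.1 c) (h.sq_of_fix ha hp.1.2 hp.2 (fω g g.2))).elim g1' gt'
  have hc : (Finset.univ.filter fun g : P => (g : G) * x * (g : G)⁻¹ ≠ x).card * 2 = Nat.card P := by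
    have e1 : ∀ g : G, g * v * x * (g * v)⁻¹ = (g * x * g⁻¹)⁻¹ := fun g => by
      rw [show g * v * x * (g * v)⁻¹ = g * (v * x * v⁻¹) * g⁻¹ by group, vx, conj_inv]
    have vv : (⟨v, vP⟩ * ⟨v, vP⟩ : P) = 1 := Subtype.ext v2
    rw [mul_two, Nat.card_eq_fintype_card, ← Finset.card_univ,
      ← Finset.card_filter_add_card_filter_not (s := Finset.univ)
        fun g : P => (g : G) * x * (g : G)⁻¹ ≠ x]
    congr 1
    refine Finset.card_nbij' (· * ⟨v, vP⟩) (· * ⟨v, vP⟩) (fun g hg => ?_) (fun g hg => ?_)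
      (fun g _ => by simp only [mul_assoc, vv, mul_one])
      (fun g _ => by simp only [mul_assoc, vv, mul_one])
    · simp only [Finset.coe_filter, Finset.mem_univ, true_and, Set.mem_ofPred_eq, not_not,
        coe_mul] at hg ⊢
      rw [e1, (cj g g.2).resolve_left hg, inv_inv]
    · simp only [Finset.coe_filter, Finset.mem_univ, true_and, Set.mem_ofPred_eq, not_not,
        coe_mul] at hg ⊢
      rw [e1, hg]
      exact xn
  simp_rw [hs, Finset.sum_add_distrib, Finset.sum_ite_eq', Finset.mem_univ, if_true] at hB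
  rw [← Finset.sum_filter, Finset.sum_const, smul_eq_mul, ← mul_assoc, hc] at hB
  obtain ⟨d, hd⟩ := (Nat.dvd_add_left (dvd_mul_right _ e)).1 hB
  have h1 := h.card_C hb.ht hb.t1
  rw [hb.tor.idx, hb.cardR, ← (P.subgroupOf 𝐂[t]).index_mul_card, card_subgroupOf hP.le] at h1
  refine hP.not_dvd_relIndex ⟨(Fx Ω t).ncard * d * k,
    Nat.eq_of_mul_eq_mul_right (Nat.card_pos (α := P)) (h1.trans ?_)⟩
  calc _ = (Fx Ω t).ncard * (((Fx Ω t).ncard - 1) + ((Fx Ω t).ncard - 1)) * (2 * k) := by ring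
    _ = _ := by rw [hd]; ring

end H45.TS
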