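import Mathlib
import Cfsg.Agent.Lib.TS.OB1

/-! Outer case, type `L₂(q)`, `q` odd, odd degree, `v` fixes `Fix t`.  See `blueprint/TS/README.md`. -/

set_option autoImplicit false
set_option linter.unusedSectionVars false

namespace H45.TS

open Subgroup MulAction Cfsg H69 H45 H81
open H81.TP (T2)

universe u v

variable {G : Type u} [Group G] [Finite G] {Ω : Type v} [MulAction G Ω] [Finite Ω]
  {α β : Ω} {H T : Subgroup G}

local instance factOB4 : Fact (Nat.Prime 2) := ⟨Nat.prime_two⟩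

theorem OB.odd2 {s t v : G} {R Y : Subgroup G} {k : ℕ} (h : OB α β T s t v R Y k) (ho : Odd (Nat.card Ω))
    (hv : ∀ x ∈ Fx Ω t, v • x = x) : False := by
  have pb := h.pb
  have w := h.w
  have t2 : t * t = 1 := w.sq t pb.ht
  have eF : FS Ω T = Fx Ω t := by
    rw [h.FT]; ext x; exact ⟨fun hx => hx.1, fun hx => ⟨hx, hv x hx⟩⟩
  have W := h.wittC pb.ht pb.t1
  have mC : ∀ {g : G}, g ∈ 𝐂[t] ↔ g * t = t * g := mem_centralizer_singleton_iff
  let M : Subgroup G :=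
    { carrier := {g | ∀ x, g • x ∈ Fx Ω t ↔ x ∈ Fx Ω t}
      mul_mem' := fun {a b} ha hb x => by rw [mul_smul]; exact (ha _).trans (hb x)
      one_mem' := fun x => by rw [one_smul]
      inv_mem' := fun {a} ha x => by rw [← ha, smul_inv_smul] }
  have HM : H2 G α β ≤ M := pb.max M (fun g hg x => ⟨W.inv' hg.2, W.inv g hg.2 x⟩) fun g hg x => by
    rw [← eF]; exact ⟨h.wittN.inv' hg.2, h.wittN.inv g hg.2 x⟩
  let L : Subgroup G :=
    { carrier := {g | ∀ x ∈ Fx Ω t, g • x = x}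
      mul_mem' := fun {a b} ha hb x hx => by rw [mul_smul, hb x hx, ha x hx]
      one_mem' := fun x _ => one_smul _ x
      inv_mem' := fun {a} ha x hx => by rw [inv_smul_eq_iff, ha x hx] }
  have HL : H2 G α β ≤ L := w.le_of_mem (H69.le_normalizer_of_cj_le fun g hg y hy => by
    obtain ⟨a, ha, rfl⟩ := mem_cj'.1 hy
    intro x hx
    rw [mul_smul, mul_smul, ha _ (((M.inv_mem (HM hg)) x).2 hx), smul_inv_smul])
    (w.le pb.ht) pb.t1 fun x hx => hx
  have sh := fun {g : G} (hg : g ∈ 𝐂[t]) {a b : Ω} (ha : a ∈ Fx Ω t) (hb : b ∈ Fx Ω t) =>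
    W.sharp (fun g _ e1 e2 => HL (mem_H2.2 ⟨e1, e2⟩)) hg ha hb
  obtain ⟨g, hg⟩ := isConj_iff.1 h.conj_s
  have pull : ∀ a : G, a * s = s * a → g⁻¹ * a * g ∈ 𝐂[t] := fun a ha => mC.2 (by
    rw [← hg] at ha
    calc _ = g⁻¹ * (a * (g * t * g⁻¹)) * g := by group
      _ = _ := by rw [ha]; group)
  have t'C := pull t pb.st.symm
  have t'2 : g⁻¹ * t * g * (g⁻¹ * t * g) = 1 := by
    calc _ = g⁻¹ * (t * t) * g := by group
      _ = 1 := by rw [t2]; group
  have back : ∀ x, (g⁻¹ * t * g) • x = x → g • x ∈ Fx Ω t := fun x hx => by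
    rw [mul_smul, mul_smul, inv_smul_eq_iff] at hx
    exact hx
  have mv : ∃ x ∈ Fx Ω t, (g⁻¹ * t * g) • x ≠ x := by
    by_contra hn
    push Not at hn
    let φ : Fx Ω t → Fx Ω t := fun x => ⟨g • x, back _ (hn x x.2)⟩
    obtain ⟨x, hx⟩ := Finite.injective_iff_surjective.1
      (show Function.Injective φ from fun a b e => Subtype.ext (smul_left_cancel g (congrArg Subtype.val e)))
      ⟨α, W.ma⟩
    replace hx : g • (x : Ω) = α := congrArg Subtype.val hx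
    refine h.ne ?_
    rw [← h.out.sw, ← hg, ← hx, mul_smul, mul_smul, inv_smul_smul, show t • (x : Ω) = x from x.2]
  have od : ¬ 2 ∣ (Fx Ω t).ncard := fun e => by
    have := par_Fx (Ω := Ω) t2
    rw [Nat.ModEq] at this
    rw [Nat.odd_iff] at ho
    omega
  obtain ⟨ω, hω, fω⟩ := TP.exists_fix_elt (p := 2) (by rw [pow_two, t'2]) (Set.toFinite _) (W.inv _ t'C) od
  haveI : Nontrivial Y := Finite.one_lt_card_iff_nontrivial.1 (by have := pb.five; omega)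
  obtain ⟨⟨y, hy⟩, y1⟩ := exists_ne (1 : Y)
  replace y1 : y ≠ 1 := fun e => y1 (Subtype.ext e)
  have oY : ∀ a ∈ Y, a * a = 1 → a = 1 := fun a ha e => by
    have d1 : orderOf a ∣ 2 := orderOf_dvd_of_pow_eq_one (by rw [pow_two, e])
    have d2 : orderOf a ∣ Nat.card Y := Y.orderOf_dvd_natCard ha
    exact orderOf_eq_one_iff.1 (Nat.eq_one_of_dvd_coprimes (Nat.coprime_two_left.2 pb.oddY) d1 d2)
  have iv := (pb.torY.inv t (w.le pb.ht) pb.st.symm fun e => pb.t1 (oY t e t2)).2 y hy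
  have y'C := pull y (pb.torY.comm y hy)
  have fy : (g⁻¹ * y * g) • ω = ω := by
    rw [mul_smul, mul_smul, HL (pb.torY.le hy) _ (back _ fω), inv_smul_smul]
  let R' : Set G := {r | r ∈ 𝐂[t] ∧ r * r = 1 ∧ ∃ x ∈ Fx Ω t, r • x ≠ x}
  have hc : ∀ a ∈ 𝐂[t], ∀ u ∈ R', a * u * a⁻¹ ∈ R' := by
    rintro a ha u ⟨h1, h2, x, hx, h3⟩
    refine ⟨mul_mem (mul_mem ha h1) (inv_mem ha), ?_, a • x, W.inv a ha x hx, fun e => h3 ?_⟩
    · calc _ = a * (u * u) * a⁻¹ := by group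
        _ = 1 := by rw [h2]; group
    · exact (TP.conj_smul_iff a u x x).1 e
  have m1 : g⁻¹ * t * g ∈ R' := ⟨t'C, t'2, mv⟩
  have key := W.uq (R := R') (fun r hr => hr.1) hc (fun r ⟨h1, _, x, hx, h3⟩ a ha b hb e1 e2 => by
      by_contra ab
      exact h3 (sh h1 ha hb ab e1 e2 x hx))
    (fun r hr r' hr' e1 e2 x hx => by
      have i : r'⁻¹ = r' := inv_eq_of_mul_eq_one_right hr'.2.1
      have := sh (mul_mem (inv_mem hr'.1) hr.1) W.ma (W.inv r hr.1 α W.ma) e2.symm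
        (by rw [mul_smul, e1, inv_smul_smul])
        (by rw [mul_smul, smul_smul r r, hr.2.1, one_smul, i, e1]) x hx
      rwa [mul_smul, inv_smul_eq_iff] at this)
    (hc _ y'C _ m1) m1 hω (by
      nth_rw 1 [← fy]
      rw [mul_smul, mul_smul, inv_smul_smul, fω, fy]) fω
  have e2 : g⁻¹ * y * g * (g⁻¹ * t * g) * (g⁻¹ * y * g)⁻¹ = g⁻¹ * (y * y) * g * (g⁻¹ * t * g) := by
    calc _ = g⁻¹ * (y * (t * y * t⁻¹)⁻¹ * t) * g := by group
      _ = _ := by rw [iv]; group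
  have fx : ∀ x ∈ Fx Ω t, (g⁻¹ * (y * y) * g) • x = x := fun x hx => by
    have := key _ (W.inv _ t'C x hx)
    rwa [e2, mul_smul, smul_smul (g⁻¹ * t * g), t'2, one_smul] at this
  have mD : g⁻¹ * (y * y) * g ∈ H2 G α β ⊓ 𝐂[t] := ⟨mem_H2.2 ⟨fx _ W.ma, fx _ W.mb⟩,
    pull _ (pb.torY.comm _ (Y.mul_mem hy hy))⟩
  have d1 := Subgroup.orderOf_dvd_natCard _ mD
  rw [pb.tor.idx, show orderOf (g⁻¹ * (y * y) * g) = orderOf (y * y) from by
    simpa using (MulAut.conj g⁻¹).orderOf_eq (y * y)] at d1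
  have d2 := Y.orderOf_dvd_natCard (Y.mul_mem hy hy)
  exact y1 (oY y hy (orderOf_eq_one_iff.1 (Nat.eq_one_of_dvd_coprimes
    (Nat.Coprime.mul_left (Nat.coprime_two_left.2 pb.oddY) pb.cop.symm) d1 d2)))

end H45.TS
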