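import Mathlib
import Cfsg.Agent.Lib.TS.BA

/-! No outer involution when `|T| = 8`.  See `blueprint/TS/README.md`. -/

set_option autoImplicit false
set_option linter.unusedSectionVars false

namespace H45.TS

open Subgroup MulAction Cfsg H69 H45 H81
open H81.TP (T2)

universe u v

variable {G : Type u} [Group G] [Finite G] {Ω : Type v} [MulAction G Ω] [Finite Ω]
  {α β : Ω} {H T : Subgroup G}

local instance factOC : Fact (Nat.Prime 2) := ⟨Nat.prime_two⟩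

theorem oc (h0 : W0 H T) (h8 : Nat.card T = 8) {s : G} (s2 : s * s = 1) (sH : s ∈ 𝐍(H))
    (sT : s ∈ 𝐍(T)) (no : ∀ g ∈ H, s * g ∉ 𝐂(T)) : False := by
  have si : s⁻¹ = s := inv_eq_of_mul_eq_one_right s2
  have cj : ∀ g ∈ 𝐍(T), ∀ u ∈ T, g * u * g⁻¹ ∈ T := fun g hg u hu =>
    (mem_normalizer_iff.1 hg u).1 hu
  obtain ⟨w, hw, hne⟩ : ∃ w ∈ T, s * w * s⁻¹ ≠ w := by
    by_contra hc
    push Not at hc
    exact no 1 (one_mem _) fun x hx => by
      rw [mul_one]; exact (mul_inv_eq_iff_eq_mul.1 (hc x hx)).symm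
  have ss : ∀ x : G, s * (s * x * s⁻¹) * s⁻¹ = x := fun x => by
    calc s * (s * x * s⁻¹) * s⁻¹ = (s * s) * x * (s * s)⁻¹ := by group
      _ = x := by rw [s2]; group
  let φ : T →* T := MonoidHom.mk' (fun x => ⟨s * x * s⁻¹ * x, mul_mem (cj s sT x x.2) x.2⟩)
    fun a b => Subtype.ext (by
      change s * (a * b) * s⁻¹ * (a * b) = s * a * s⁻¹ * a * (s * b * s⁻¹ * b)
      rw [← conj_mul, mul_assoc (s * a * s⁻¹), mul_assoc (s * a * s⁻¹), ← mul_assoc (s * b * s⁻¹),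
        h0.comm (cj s sT b b.2) a.2, mul_assoc (a : G)])
  have mk : ∀ x : T, x ∈ φ.ker ↔ s * x * s⁻¹ = x := fun x => by
    rw [MonoidHom.mem_ker, Subtype.ext_iff]
    change s * x * s⁻¹ * x = 1 ↔ _
    rw [mul_eq_one_iff_eq_inv, inv_eq_of_mul_eq_one_right (h0.sq _ x.2)]
  have rk : φ.range ≤ φ.ker := by
    rintro _ ⟨x, rfl⟩
    rw [mk]
    change s * (s * x * s⁻¹ * x) * s⁻¹ = s * x * s⁻¹ * x
    rw [← conj_mul, ss, h0.comm x.2 (cj s sT x x.2)]
  have c1 := φ.ker.card_mul_index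
  rw [index_ker, h8] at c1
  have c2 := card_le_of_le rk
  have c3 : φ.ker.index ≠ 1 := fun e => hne ((mk ⟨w, hw⟩).1 (index_eq_one.1 e ▸ mem_top _))
  rw [index_ker] at c3
  have c4 : Nat.card φ.range = 2 ∧ Nat.card φ.ker = 4 := by
    have : Nat.card φ.range ≤ 2 := by nlinarith
    have h0' : 0 < Nat.card φ.range := Nat.card_pos
    have : Nat.card φ.range = 2 := by omega
    rw [this] at c1
    omega
  set c : G := s * w * s⁻¹ * w with hc
  have cT : c ∈ T := mul_mem (cj s sT w hw) hw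
  have c0 : c ≠ 1 := fun e => hne ((mk ⟨w, hw⟩).1 (Subtype.ext e))
  have sc : s * c * s⁻¹ = c := (mk _).1 (rk ⟨⟨w, hw⟩, rfl⟩)
  have act : ∀ x ∈ T, s * x * s⁻¹ = x ∨ s * x * s⁻¹ = c * x := fun x hx => by
    obtain ⟨y, -, hy⟩ := (Nat.card_eq_two_iff' (1 : φ.range)).1 c4.1
    by_cases e : s * x * s⁻¹ = x
    · exact Or.inl e
    · have e1 := hy ⟨φ ⟨x, hx⟩, ⟨_, rfl⟩⟩ fun e' =>
        e ((mk ⟨x, hx⟩).1 (congrArg Subtype.val e'))
      have e2 := hy ⟨φ ⟨w, hw⟩, ⟨_, rfl⟩⟩ fun e' =>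
        hne ((mk ⟨w, hw⟩).1 (congrArg Subtype.val e'))
      have e3 : s * x * s⁻¹ * x = c := congrArg (fun a : φ.range => ((a : T) : G)) (e1.trans e2.symm)
      right
      rw [← e3, mul_assoc _ x x, h0.sq x hx, mul_one]
  obtain ⟨d, hd, d1, dc⟩ : ∃ d ∈ φ.ker, d ≠ 1 ∧ (d : G) ≠ c := by
    by_contra hc'
    push Not at hc'
    have h1 : (φ.ker : Set T) ⊆ {1, ⟨c, cT⟩} := fun v hv => by
      by_cases e : v = 1
      · exact Or.inl e
      · exact Or.inr (Subtype.ext (hc' v hv e))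
    have h2 := Set.ncard_le_ncard h1
    have h3 := (Set.ncard_insert_le (1 : T) {⟨c, cT⟩}).trans_eq (by rw [Set.ncard_singleton])
    have h4 := c4.2
    rw [← SetLike.coe_sort_coe, Nat.card_coe_set_eq] at h4
    omega
  have sd := (mk d).1 hd
  obtain ⟨d, dT⟩ := d
  change s * d * s⁻¹ = d at sd
  change d ≠ c at dc
  obtain ⟨b, hb, bn, e⟩ := h0.tr c cT c0 d dT fun e => d1 (Subtype.ext e)
  set s' := b * s * b⁻¹ with hs'
  have act' : ∀ x ∈ T, s' * x * s'⁻¹ = x ∨ s' * x * s'⁻¹ = d * x := fun x hx => by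
    have hx' := cj b⁻¹ (inv_mem bn) x hx
    have k : s' * x * s'⁻¹ = b * (s * (b⁻¹ * x * b⁻¹⁻¹) * s⁻¹) * b⁻¹ := by rw [hs']; group
    rcases act _ hx' with e' | e'
    · left; rw [k, e']; group
    · right; rw [k, e', ← e]; group
  have s'd : s' * d * s'⁻¹ = d := by
    rw [← e, hs']
    calc b * s * b⁻¹ * (b * c * b⁻¹) * (b * s * b⁻¹)⁻¹ = b * (s * c * s⁻¹) * b⁻¹ := by group
      _ = _ := by rw [sc]
  set y := s * s' with hy
  have yH : y ∈ H := by
    have : y = (s * b * s⁻¹) * b⁻¹ := by rw [hy, hs', si]; group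
    rw [this]
    exact mul_mem ((mem_normalizer_iff.1 sH b).1 hb) (inv_mem hb)
  have yN : y ∈ 𝐍(T) := mul_mem sT (mul_mem (mul_mem bn sT) (inv_mem bn))
  have ky : ∀ x : G, y * x * y⁻¹ = s * (s' * x * s'⁻¹) * s⁻¹ := fun x => by rw [hy]; group
  have yd : y * d * y⁻¹ = d := by rw [ky, s'd, sd]
  have dd := h0.sq d dT
  have cc := h0.sq c cT
  have cd := h0.comm cT dT
  have y1 : ∀ x ∈ T, ∃ e, y * x * y⁻¹ = e * x ∧ (e = 1 ∨ e = c ∨ e = d ∨ e = d * c) := fun x hx => by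
    rw [ky]
    rcases act' x hx with e1 | e1 <;> rcases act x hx with e2 | e2 <;> rw [e1]
    · exact ⟨1, by rw [e2, one_mul], Or.inl rfl⟩
    · exact ⟨c, e2, Or.inr (Or.inl rfl)⟩
    · exact ⟨d, by rw [← conj_mul, sd, e2], Or.inr (Or.inr (Or.inl rfl))⟩
    · exact ⟨d * c, by rw [← conj_mul, sd, e2, mul_assoc d], Or.inr (Or.inr (Or.inr rfl))⟩
  have yc : y * c * y⁻¹ = c ∨ y * c * y⁻¹ = d * c := by
    rw [ky]
    rcases act' c cT with e1 | e1 <;> rw [e1]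
    · exact Or.inl sc
    · exact Or.inr (by rw [← conj_mul, sd, sc])
  have y2 : ∀ x ∈ T, y * y * x * (y * y)⁻¹ = x ∨ y * y * x * (y * y)⁻¹ = d * x := fun x hx => by
    obtain ⟨e, e1, e2⟩ := y1 x hx
    have k : y * y * x * (y * y)⁻¹ = (y * e * y⁻¹ * e) * x := by
      calc y * y * x * (y * y)⁻¹ = y * (y * x * y⁻¹) * y⁻¹ := by group
        _ = (y * e * y⁻¹) * (y * x * y⁻¹) := by rw [conj_mul, ← e1]
        _ = _ := by rw [e1, mul_assoc _ e x]
    rw [k]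
    rcases e2 with rfl | rfl | rfl | rfl
    · left; simp
    · rcases yc with e3 | e3 <;> rw [e3]
      · left; rw [cc, one_mul]
      · right; rw [mul_assoc d, cc, mul_one]
    · left; rw [yd, dd, one_mul]
    · rw [← conj_mul, yd]
      rcases yc with e3 | e3 <;> rw [e3]
      · left; rw [h0.sq _ (mul_mem dT cT), one_mul]
      · right; rw [mul_assoc d, h0.sq _ (mul_mem dT cT), mul_one]
  have y4 : y * y * (y * y) ∈ 𝐂(T) := fun x hx => by
    have k : y * y * (y * y) * x * (y * y * (y * y))⁻¹ =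
        y * y * (y * y * x * (y * y)⁻¹) * (y * y)⁻¹ := by group
    have yyd : y * y * d * (y * y)⁻¹ = d := by
      calc y * y * d * (y * y)⁻¹ = y * (y * d * y⁻¹) * y⁻¹ := by group
        _ = d := by rw [yd, yd]
    refine (mul_inv_eq_iff_eq_mul.1 ?_).symm
    rw [k]
    rcases y2 x hx with e1 | e1
    · rw [e1, e1]
    · rw [e1, ← conj_mul, yyd, e1, ← mul_assoc, dd, one_mul]
  have yyH := mul_mem yH yH
  have yT := h0.mem_of_sq yH yN (h0.mem_of_sq yyH (mul_mem yN yN) (h0.cent _ (mul_mem yyH yyH) y4))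
  have e1 : y * w * y⁻¹ = w := by rw [h0.comm yT hw, mul_inv_cancel_right]
  rw [ky] at e1
  have e2 : s' * w * s'⁻¹ = s * w * s⁻¹ := by rw [← ss (s' * w * s'⁻¹), e1]
  rcases act' w hw with e3 | e3
  · exact hne (e2 ▸ e3)
  · rcases act w hw with e4 | e4
    · exact hne e4
    · exact dc (mul_right_cancel (e3.symm.trans (e2.trans e4)))

end H45.TS
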