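import Mathlib
import Cfsg.Agent.Lib.TS.TO
import Cfsg.Agent.Lib.GW.PslTor

/-! The outer involution of `L₂(q)`, `q ≡ ±3 (mod 8)`.  See `blueprint/TS/README.md`. -/

set_option autoImplicit false
set_option linter.unusedSectionVars false

namespace H45.TS

open Subgroup MulAction Cfsg H69 H45 H81
open H81.TP (T2)

universe u v

variable {G : Type u} [Group G] [Finite G] {Ω : Type v} [MulAction G Ω] [Finite Ω]
  {α β : Ω} {H T : Subgroup G}

local instance factTP : Fact (Nat.Prime 2) := ⟨Nat.prime_two⟩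

namespace TP

theorem mem_X {s : G} (s2 : s * s = 1) (sH : s ∈ 𝐍(H)) {x : G} (hx : x ∈ zpowers s ⊔ H) :
    x ∈ H ∨ s * x ∈ H := by
  obtain ⟨a, ha, b, hb, rfl⟩ := (mem_sup_of_le_normalizer_right (zpowers_le.2 sH)).1 hx
  rcases (H73.mem_zpowers_of_mul_self s2).1 ha with rfl | rfl
  · left; rwa [one_mul]
  · right; rwa [← mul_assoc, s2, one_mul]

theorem d2 (h0 : W0 H T) {s t v : G} (s2 : s * s = 1) (sH : s ∈ 𝐍(H)) (hv : v ∈ T) (ht : t ∈ T)
    (t1 : t ≠ 1) (mem : ∀ u ∈ T, u = 1 ∨ u = t ∨ u = v ∨ u = t * v) (sv : s * v * s⁻¹ = t * v) :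
    H29.D2 (zpowers s ⊔ H : Subgroup G) := by
  have v2 := h0.sq v hv
  have si : s⁻¹ = s := inv_eq_of_mul_eq_one_right s2
  have a2 : s * v * (s * v) = t := by
    rw [si] at sv
    rw [← mul_assoc, sv, mul_assoc, v2, mul_one]
  have hd : H73.DihData (closure {s, v}) 4 (s * v) s := by
    refine ⟨?_, s2, H9.left_inverts s2 v2, fun h => t1 ?_, H9.mem_closure_pair_iff s2 v2⟩
    · refine orderOf_eq_prime_pow (p := 2) (n := 1) (by rw [pow_one, sq, a2]; exact t1) ?_
      rw [show 2 ^ (1 + 1) = 2 * 2 from rfl, pow_mul, sq (s * v), a2, sq, h0.sq t ht]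
    · obtain ⟨i, hi⟩ := h
      have c : Commute (s * v) s := by
        have := Commute.self_zpow (s * v) i
        rwa [show (s * v) ^ i = s from hi] at this
      have e : s * v * s⁻¹ = v := by rw [si, c.eq, ← mul_assoc, s2, one_mul]
      rw [sv] at e
      exact mul_eq_right.1 e
  have sP : s ∈ closure {s, v} := subset_closure (by simp)
  have vP : v ∈ closure {s, v} := subset_closure (by simp)
  have TP : T ≤ closure {s, v} := by
    have tP : t ∈ closure {s, v} := a2 ▸ mul_mem (mul_mem sP vP) (mul_mem sP vP)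
    intro u hu
    rcases mem u hu with e | e | e | e <;> rw [e]
    exacts [one_mem _, tP, vP, mul_mem tP vP]
  have sy : IsSylowIn 2 (closure {s, v}) (zpowers s ⊔ H) := by
    refine ⟨?_, H73.DihData.isPGroup (k := 2) hd, fun R h1 h2 h3 => le_antisymm (fun r hr => ?_) h1⟩
    · rw [closure_le]
      rintro x (rfl | rfl)
      exacts [mem_sup_left (mem_zpowers _), mem_sup_right (h0.le hv)]
    · have e := h0.syl.max (R ⊓ H) (le_inf (TP.trans h1) h0.le) inf_le_right (h3.to_le inf_le_left)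
      rcases mem_X s2 sH (h2 hr) with k | k
      · exact TP (e ▸ ⟨hr, k⟩)
      · exact (Subgroup.mul_mem_cancel_left _ sP).1 (TP (e ▸ ⟨mul_mem (h1 sP) hr, k⟩))
  obtain ⟨S, hS⟩ := sy.exists_sylow_subgroupOf
  obtain ⟨e⟩ := hd.nonempty_mulEquiv (by norm_num)
  exact H29.D2.of_sylow_equiv S
    (((MulEquiv.subgroupCongr hS).trans (subgroupOfEquivOfLe sy.le)).trans e)

end TP

theorem wb_out (h0 : W0 H T) (hB : WB H T) {s : G} (s2 : s * s = 1) (sH : s ∈ 𝐍(H)) (sn : s ∉ H)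
    (sT : s ∈ 𝐍(T)) (no : ∀ g ∈ H, s * g ∉ 𝐂(T)) :
    ∃ t v R Y k, PB H T s t v R Y k := by
  obtain ⟨⟨t, ht, ts⟩, t1⟩ := ne_bot_iff_exists_ne_one.1 (inf_centralizer_ne_bot h0.two
    (H9.isPGroup_zpowers_of_mul_self s2) (zpowers_le.2 sT) (by
      obtain ⟨u, hu, u1⟩ := h0.exists_ne
      exact fun e => u1 (mem_bot.1 (e ▸ hu))))
  have t1 : t ≠ 1 := fun e => t1 (Subtype.ext e)
  have st : s * t = t * s := ts s (mem_zpowers s)
  obtain ⟨v, R, k, tb⟩ := wb_in h0 hB ht t1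
  have sv : s * v * s⁻¹ = t * v := by
    rcases tb.mem _ (conj_mem_of_mem_normalizer sT tb.hv) with e | e | e | e
    · exact absurd (conj_eq_one_iff.1 e) tb.v1
    · rw [mul_inv_eq_iff_eq_mul, ← st, mul_right_inj] at e
      exact absurd e.symm tb.tv
    · refine absurd (fun u hu => ?_) (no 1 (one_mem _))
      rw [mul_inv_eq_iff_eq_mul] at e
      rw [mul_one]
      rcases tb.mem u hu with e' | e' | e' | e' <;> rw [e']
      · rw [mul_one, one_mul]
      · exact st.symm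
      · exact e.symm
      · rw [mul_assoc, ← e, ← mul_assoc, ← st, mul_assoc]
    · exact e
  have hD := TP.d2 h0 s2 sH tb.hv ht t1 tb.mem sv
  obtain ⟨F, _, _, ho, h11, ⟨e⟩⟩ := hB.iso
  set X : Subgroup G := zpowers s ⊔ H with hX
  have HX : H ≤ X := le_sup_right
  have sX : s ∈ X := mem_sup_left (mem_zpowers s)
  have nL : (H.subgroupOf X).Normal :=
    normal_subgroupOf_of_le_normalizer (sup_le (zpowers_le.2 sH) le_normalizer)
  have hC : centralizer (H.subgroupOf X : Set X) = ⊥ := by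
    refine eq_bot_iff.2 fun x hx => ?_
    have c : ∀ y ∈ H, y * x = x * y := fun y hy => congrArg Subtype.val (hx ⟨y, HX hy⟩ hy)
    rcases TP.mem_X s2 sH x.2 with k | k
    · exact Subtype.ext (h0.zero k fun y hy => (c y hy).symm)
    · refine absurd (fun u hu => ?_) (no _ k)
      rw [← mul_assoc s, s2, one_mul]
      exact c u (h0.le hu)
  have h2 : (2 : F) ≠ 0 := by
    refine Ring.two_ne_zero fun e => ?_
    have := FiniteField.even_card_of_char_two e
    obtain ⟨m, hm⟩ := ho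
    omega
  have s1 : s ≠ 1 := fun e => sn (e ▸ one_mem _)
  obtain ⟨Y, hY⟩ := H29.exists_tor hD ((subgroupOfEquivOfLe HX).trans e) hC h2
    (by rw [Nat.card_eq_fintype_card]; omega) (v := ⟨s, sX⟩)
    (H9.orderOf_eq_two_of_mul_self (fun e => s1 (congrArg Subtype.val e)) (Subtype.ext s2))
  have inv : ∀ w ∈ H.subgroupOf X ⊓ centralizer {(⟨s, sX⟩ : X)}, w ∉ Y → ∀ y ∈ Y,
      w * y * w⁻¹ = y⁻¹ := fun w hw hw' y hy => by
    have h1 := hY.sq (w * y) (mul_mem hw (hY.le hy)) (mt (Y.mul_mem_cancel_right hy).1 hw')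
    rw [inv_eq_of_mul_eq_one_right (hY.sq w hw hw'), eq_inv_iff_mul_eq_one, ← h1]
    group
  have up : ∀ g (hg : g ∈ H), g * s = s * g →
      (⟨g, HX hg⟩ : X) ∈ H.subgroupOf X ⊓ centralizer {(⟨s, sX⟩ : X)} := fun g hg c =>
    ⟨hg, mem_centralizer_singleton_iff.2 (Subtype.ext c)⟩
  have cY : Nat.card (Y.map X.subtype) = Nat.card Y := card_map_subtype Y
  have oY : Odd (Nat.card Y) := by
    refine (H9.odd_card_iff_forall_orderOf_ne_two Y).2 fun y hy oy => sn ?_
    obtain ⟨w, hw, hw'⟩ : ∃ w ∈ H.subgroupOf X ⊓ centralizer {(⟨s, sX⟩ : X)}, w ∉ Y := by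
      by_contra h1
      push Not at h1
      have := relIndex_eq_one.2 (show _ ≤ Y from h1)
      rw [hY.idx] at this
      omega
    have y2 := H9.mul_self_of_orderOf_two oy
    have hp : H29.IsPair y w := ⟨y2, H9.ne_one_of_orderOf_two oy, hY.sq w hw hw',
      fun e => hw' (e ▸ one_mem _), fun e => hw' (e ▸ hy),
      H9.commute_of_inverts_of_mul_self (inv w hw hw' y hy) y2⟩
    have yL := hY.le hy
    change (⟨s, sX⟩ : X) ∈ H.subgroupOf X
    rcases hD.eq_of_comm hp (u := ⟨s, sX⟩) (k := 1) (Subtype.ext (by simpa [sq] using s2))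
      (mem_centralizer_singleton_iff.1 yL.2).symm (mem_centralizer_singleton_iff.1 hw.2).symm with
      e | e | e | e <;> rw [e]
    exacts [one_mem _, yL.1, hw.1, mul_mem yL.1 hw.1]
  have cq := hY.card
  rw [Nat.card_eq_fintype_card (α := F)] at cq
  obtain ⟨R', hR', -, cR⟩ := tor_psl ho (by omega) e (h0.le ht) (h0.sq t ht) t1
  have e1 := hR'.idx
  have e2 := tb.tor.idx
  have e3 := tb.cardR
  refine ⟨t, v, R, Y.map X.subtype, k, tb, st, sv, ⟨?_, ?_, ?_, ?_, ?_⟩, cY ▸ oY, by omega, ?_⟩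
  · rintro _ ⟨y, hy, rfl⟩
    exact (hY.le hy).1
  · rintro _ ⟨y, hy, rfl⟩
    exact congrArg Subtype.val (mem_centralizer_singleton_iff.1 (hY.le hy).2)
  · have := hY.cyc
    exact isCyclic_of_surjective _ (MonoidHom.subgroupMap_surjective _ _)
  · have e4 : (H.subgroupOf X ⊓ centralizer {(⟨s, sX⟩ : X)}).map X.subtype = H ⊓ 𝐂[s] := by
      refine le_antisymm ?_ fun g hg => ⟨_, up g hg.1 (mem_centralizer_singleton_iff.1 hg.2), rfl⟩
      rintro _ ⟨g, hg, rfl⟩
      exact ⟨hg.1, mem_centralizer_singleton_iff.2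
        (congrArg Subtype.val (mem_centralizer_singleton_iff.1 hg.2))⟩
    rw [cY, ← e4, card_map_subtype, ← hY.idx, ← (Y.subgroupOf _).index_mul_card,
      card_subgroupOf hY.le]
    rfl
  · intro g hg c gY
    have k : (⟨g, HX hg⟩ : X) ∉ Y := fun h => gY ⟨_, h, rfl⟩
    refine ⟨congrArg Subtype.val (hY.sq _ (up g hg c) k), ?_⟩
    rintro _ ⟨y, hy, rfl⟩
    exact congrArg Subtype.val (inv _ (up g hg c) k y hy)
  · obtain ⟨b, hb⟩ := oY
    have h1 : Nat.card R = Nat.card Y + 1 ∨ Nat.card Y = Nat.card R + 1 := by omega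
    rw [cY]
    rcases h1 with h1 | h1 <;> rw [h1] <;> simp

end H45.TS
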